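import Cfsg.Agent.Lib.Transfer.UniqueOrderP

/-!
Classification of non-abelian groups of order `p ^ n` with a cyclic subgroup of index `p`.
-/

set_option autoImplicit false
set_option linter.style.haveILetI false

namespace CfsgLib.PGroup

open Subgroup
open scoped commutatorElement

variable {G : Type*} [Group G] [Finite G] {p : ℕ} [Fact p.Prime]

/-- The generator of the cyclic subgroup and the exponent of the action of the other elements. -/
theorem cyclic_index_setup {n : ℕ} (hn : 3 ≤ n) (hG : Nat.card G = p ^ n) (C : Subgroup G)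
    (hC : IsCyclic C) (hCi : C.index = p) :
    ∃ a : G, C = zpowers a ∧ orderOf a = p ^ (n - 1) ∧ C.Normal ∧
      (∀ x : G, ∃ k : ℤ, x * a * x⁻¹ = a ^ k) ∧ ∀ x : G, x ^ p ∈ C := by
  have hp := (Fact.out : p.Prime)
  obtain ⟨a, ha⟩ := isCyclic_iff_exists_zpowers_eq_top.1 hC
  have hC' : C = zpowers (a : G) := by
    have h1 := congrArg (Subgroup.map C.subtype) ha
    rw [MonoidHom.map_zpowers, ← MonoidHom.range_eq_map, range_subtype] at h1
    exact h1.symm
  have hCn : C.Normal := C.normal_of_index_eq_minFac_card (by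
    rw [hCi, hG, hp.pow_minFac (by omega)])
  have hcard := C.card_mul_index
  rw [hCi, hG, hC', Nat.card_zpowers, show n = n - 1 + 1 by omega, pow_succ] at hcard
  refine ⟨a, hC', Nat.eq_of_mul_eq_mul_right hp.pos hcard, hCn, fun x => ?_, fun x => by
    simpa [hCi] using C.pow_index_mem x⟩
  have h1 : x * (a : G) * x⁻¹ ∈ zpowers (a : G) := by
    have h2 := hCn.conj_mem (a : G) a.2 x
    rwa [← hC']
  obtain ⟨k, hk⟩ := mem_zpowers_iff.1 h1
  exact ⟨k, hk.symm⟩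

omit [Finite G] in
theorem conj_zpow_eq {x a : G} {k : ℤ} (hk : x * a * x⁻¹ = a ^ k) (i : ℤ) :
    x * a ^ i * x⁻¹ = a ^ (k * i) := by
  rw [← conj_zpow, hk, zpow_mul]

theorem exists_gens_odd (hp : p ≠ 2) {n : ℕ} (hn : 3 ≤ n) (hG : Nat.card G = p ^ n)
    (C : Subgroup G) (hC : IsCyclic C) (hCi : C.index = p) (hna : ∃ x y : G, x * y ≠ y * x) :
    ∃ a b : G, orderOf a = p ^ (n - 1) ∧ orderOf b = p ∧ b ∉ zpowers a ∧
      b * a * b⁻¹ = a ^ (1 + p ^ (n - 2)) := by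
  have hpp := (Fact.out : p.Prime)
  have hR : IsPGroup p G := IsPGroup.of_card hG
  have hnc : ¬ IsCyclic G := by
    intro h
    letI := IsCyclic.commGroup (α := G)
    obtain ⟨x, y, hxy⟩ := hna
    exact hxy (mul_comm x y)
  obtain ⟨a, hCa, hao, -, hact, -⟩ := cyclic_index_setup hn hG C hC hCi
  have hcl := CfsgLib.Transfer.commutator_of_cyclic_maximal hp hR C hC hCi
  obtain ⟨h1, h2⟩ := CfsgLib.Transfer.omega_one_of_cyclic_maximal hp hR hnc C hC hCi
  -- an element of order `p` outside `C`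
  obtain ⟨y, hyp, hyC⟩ : ∃ y : G, y ^ p = 1 ∧ y ∉ zpowers a := by
    by_contra hno
    push Not at hno
    have hle : closure {x : G | x ^ p = 1} ≤ zpowers a := (closure_le _).2 fun x hx => hno x hx
    classical
    haveI := Fintype.ofFinite (zpowers a)
    have h3 := IsCyclic.card_pow_eq_one_le (α := zpowers a) (n := p) hpp.pos
    have h4 : Nat.card (closure {x : G | x ^ p = 1}) ≤
        (Finset.univ.filter fun c : zpowers a => c ^ p = 1).card := by
      rw [← Fintype.card_subtype, ← Nat.card_eq_fintype_card]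
      refine Nat.card_le_card_of_injective
        (fun c => ⟨⟨c.1, hle c.2⟩, Subtype.ext (h1 c.1 c.2)⟩) fun c d he => ?_
      exact Subtype.ext (congrArg (fun z => ((z.1 : zpowers a) : G)) he)
    have h5 := h4.trans h3
    rw [h2] at h5
    nlinarith [hpp.two_le]
  obtain ⟨k, hk⟩ := hact y
  have hyo : orderOf y = p := orderOf_eq_prime hyp fun h => hyC (h ▸ one_mem _)
  have hc : ⁅y, a⁆ = a ^ (k - 1) := by rw [commutatorElement_def, hk, zpow_sub, zpow_one]
  have hkp : ((p ^ (n - 1) : ℕ) : ℤ) ∣ (k - 1) * p := by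
    rw [← hao, orderOf_dvd_iff_zpow_eq_one, zpow_mul, zpow_natCast, ← hc]
    exact (hcl y a).2
  obtain ⟨t, ht⟩ : ((p : ℤ) ^ (n - 2)) ∣ k - 1 := by
    rw [show n - 1 = n - 2 + 1 by omega, pow_succ, Nat.cast_mul, Nat.cast_pow] at hkp
    exact Int.dvd_of_mul_dvd_mul_right (by exact_mod_cast hpp.ne_zero) hkp
  have hpt : ¬ (p : ℤ) ∣ t := by
    rintro ⟨u, rfl⟩
    have hcomm : y * a = a * y := by
      have h : ⁅y, a⁆ = 1 := by
        rw [hc, ht, ← orderOf_dvd_iff_zpow_eq_one, hao]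
        refine ⟨u, ?_⟩
        rw [show n - 1 = n - 2 + 1 by omega, pow_succ]
        push_cast
        ring
      exact commutatorElement_eq_one_iff_mul_comm.1 h
    -- then `G` would be abelian
    have hgen : closure ({a, y} : Set G) = ⊤ := by
      set L := closure ({a, y} : Set G)
      have hle : C ≤ L := hCa ▸ zpowers_le.2 (subset_closure (Set.mem_insert a {y}))
      have hd : C.relIndex L * L.index = p := by rw [relIndex_mul_index hle, hCi]
      rcases (Nat.dvd_prime hpp).1 ⟨C.relIndex L, by rw [mul_comm]; exact hd.symm⟩ with h | h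
      · exact index_eq_one.1 h
      · exfalso
        rw [h] at hd
        have h' : C.relIndex L = 1 := Nat.eq_of_mul_eq_mul_right hpp.pos (by rw [hd, one_mul])
        exact hyC (hCa ▸ relIndex_eq_one.1 h' (subset_closure (Set.mem_insert_of_mem a rfl)))
    haveI := Subgroup.isMulCommutative_closure (k := ({a, y} : Set G)) (by
      rintro u (rfl | rfl) v (rfl | rfl) <;> first | rfl | exact hcomm | exact hcomm.symm)
    obtain ⟨x, z, hxz⟩ := hna
    exact hxz (congrArg Subtype.val (mul_comm'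
      (⟨x, hgen ▸ mem_top x⟩ : closure ({a, y} : Set G)) ⟨z, hgen ▸ mem_top z⟩))
  obtain ⟨r, q, hrq⟩ : IsCoprime t (p : ℤ) :=
    ((Nat.prime_iff_prime_int.1 hpp).coprime_iff_not_dvd.2 hpt).symm
  obtain ⟨s, hs⟩ : ∃ s : ℕ, (s : ℤ) = r % p :=
    ⟨(r % p).toNat, Int.toNat_of_nonneg (Int.emod_nonneg _ (by exact_mod_cast hpp.ne_zero))⟩
  have hst : (p : ℤ) ∣ t * s - 1 := by
    refine ⟨-q - t * (r / p), ?_⟩
    rw [hs, Int.emod_def]
    linear_combination hrq
  refine ⟨a, y ^ s, hao, ?_, ?_, ?_⟩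
  · refine orderOf_eq_prime (by rw [← pow_mul, mul_comm, pow_mul, hyp, one_pow]) fun h => ?_
    have h' := orderOf_dvd_of_pow_eq_one h
    rw [hyo] at h'
    obtain ⟨u, hu⟩ := hst
    obtain ⟨v, hv⟩ := h'
    have : (p : ℤ) ∣ 1 := ⟨t * v - u, by
      rw [hv] at hu; push_cast at hu; linear_combination -hu⟩
    exact hpp.not_dvd_one (by exact_mod_cast this)
  · intro h
    apply hyC
    have hcop : IsCoprime (s : ℤ) p := by
      obtain ⟨u, hu⟩ := hst
      exact ⟨t, -u, by linear_combination hu⟩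
    obtain ⟨u, v, huv⟩ := hcop
    have hy : y = (y ^ s) ^ u := by
      conv_lhs => rw [← zpow_one y, ← huv, zpow_add, mul_comm v, zpow_mul y (p : ℤ), zpow_natCast,
        hyp, one_zpow, mul_one, mul_comm, zpow_mul, zpow_natCast]
    rw [hy]
    exact zpow_mem h u
  · have h := CfsgLib.Transfer.commutatorElement_pow_left (fun u v => (hcl u v).1) y a s
    rw [hc, commutatorElement_def, mul_inv_eq_iff_eq_mul, ← zpow_natCast (a ^ (k - 1)) s,
      ← zpow_mul, ← zpow_add_one] at h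
    rw [h, ← zpow_natCast a (1 + p ^ (n - 2)), zpow_eq_zpow_iff_modEq, hao, Int.modEq_iff_dvd, ht]
    obtain ⟨u, hu⟩ := hst
    refine ⟨-u, ?_⟩
    rw [show n - 1 = n - 2 + 1 by omega, pow_succ]
    push_cast
    linear_combination (-(p : ℤ) ^ (n - 2)) * hu

/-- Square roots of one modulo `2 ^ m`. -/
theorem sq_one_mod_two_pow {m : ℕ} (hm : 2 ≤ m) {k : ℤ} (h : (2 : ℤ) ^ m ∣ k ^ 2 - 1) :
    (2 : ℤ) ^ (m - 1) ∣ k - 1 ∨ (2 : ℤ) ^ (m - 1) ∣ k + 1 := by
  obtain ⟨m, rfl⟩ : ∃ m', m = m' + 2 := ⟨m - 2, by omega⟩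
  rcases Int.even_or_odd k with ⟨r, rfl⟩ | ⟨r, rfl⟩
  · exfalso
    have h2 : (2 : ℤ) ∣ (r + r) ^ 2 - 1 := dvd_trans (dvd_pow_self 2 (by omega)) h
    obtain ⟨c, hc⟩ := h2
    have : (1 : ℤ) = 2 * (2 * r * r - c) := by linear_combination -hc
    omega
  rw [show (2 * r + 1) ^ 2 - 1 = 4 * (r * (r + 1)) by ring,
    show (2 : ℤ) ^ (m + 2) = 4 * 2 ^ m by ring] at h
  have h' := Int.dvd_of_mul_dvd_mul_left (by norm_num) h
  rw [show m + 2 - 1 = m + 1 by omega, pow_succ']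
  rcases Int.even_or_odd r with ⟨u, hu⟩ | ⟨u, hu⟩
  · left
    obtain ⟨c, hc⟩ := (IsCoprime.pow_left (⟨-u, 1, by rw [hu]; ring⟩ :
      IsCoprime (2 : ℤ) (r + 1))).dvd_of_dvd_mul_right h'
    exact ⟨c, by rw [hc]; ring⟩
  · right
    obtain ⟨c, hc⟩ := (IsCoprime.pow_left (⟨-u, 1, by rw [hu]; ring⟩ :
      IsCoprime (2 : ℤ) r)).dvd_of_dvd_mul_left h'
    exact ⟨c, by linear_combination (2 : ℤ) * hc⟩

theorem exists_gens_two {n : ℕ} (hn : 3 ≤ n) (hG : Nat.card G = 2 ^ n) (C : Subgroup G)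
    (hC : IsCyclic C) (hCi : C.index = 2) (hna : ∃ x y : G, x * y ≠ y * x) :
    ∃ a b : G, orderOf a = 2 ^ (n - 1) ∧ b ∉ zpowers a ∧
      ((b ^ 2 = 1 ∧ b * a * b⁻¹ = a⁻¹) ∨
        (b ^ 2 = a ^ (2 ^ (n - 2)) ∧ b * a * b⁻¹ = a⁻¹) ∨
        (4 ≤ n ∧ b ^ 2 = 1 ∧ b * a * b⁻¹ = a ^ (1 + 2 ^ (n - 2))) ∨
        (4 ≤ n ∧ b ^ 2 = 1 ∧ b * a * b⁻¹ = a ^ (2 ^ (n - 2) - 1))) := by
  haveI : Fact (Nat.Prime 2) := ⟨Nat.prime_two⟩
  obtain ⟨a, hCa, hao, hCn, hact, hsq⟩ := cyclic_index_setup hn hG C hC hCi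
  obtain ⟨m, rfl⟩ : ∃ m, n = m + 1 := ⟨n - 1, by omega⟩
  rw [show m + 1 - 1 = m by omega] at hao ⊢
  rw [show m + 1 - 2 = m - 1 by omega]
  obtain ⟨y, hy⟩ : ∃ y, y ∉ zpowers a := by
    by_contra! hall
    have h : C = ⊤ := by rw [hCa]; exact eq_top_iff.2 fun x _ => hall x
    rw [h, index_top] at hCi
    omega
  obtain ⟨k, hk⟩ := hact y
  obtain ⟨j, hj⟩ := mem_zpowers_iff.1 (hCa ▸ hsq y)
  have hmod : ∀ u v : ℤ, a ^ u = a ^ v ↔ ((2 : ℤ) ^ m) ∣ v - u := by
    intro u v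
    rw [zpow_eq_zpow_iff_modEq, hao, Int.modEq_iff_dvd]
    push_cast
    rfl
  have hk2 : (2 : ℤ) ^ m ∣ k ^ 2 - 1 := by
    have h : (y * y) * a * (y * y)⁻¹ = a := by
      rw [← pow_two, ← hj]; group
    rw [show y * y * a * (y * y)⁻¹ = y * (y * a * y⁻¹) * y⁻¹ by group, hk, conj_zpow_eq hk] at h
    have h' := (hmod 1 (k * k)).1 (by rw [zpow_one, h])
    rwa [← pow_two] at h'
  have hjk : (2 : ℤ) ^ m ∣ k * j - j := (hmod _ _).1 (by
    rw [← conj_zpow_eq hk, hj]; group)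
  have hsqmul : ∀ i : ℤ, (a ^ i * y) ^ 2 = a ^ (i + k * i + j) := by
    intro i
    rw [zpow_add, zpow_add, hj, ← conj_zpow_eq hk, pow_two, pow_two]
    group
  have hb : ∀ i : ℤ, a ^ i * y ∉ zpowers a := fun i h =>
    hy ((Subgroup.mul_mem_cancel_left _ (zpow_mem (mem_zpowers a) i)).1 h)
  have hconj : ∀ i : ℤ, a ^ i * y * a * (a ^ i * y)⁻¹ = a ^ k := by
    intro i
    rw [show a ^ i * y * a * (a ^ i * y)⁻¹ = a ^ i * (y * a * y⁻¹) * (a ^ i)⁻¹ by group, hk]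
    group
  have hm1 : (2 : ℤ) ^ m = 2 * 2 ^ (m - 1) := by
    rw [← pow_succ', Nat.sub_add_cancel (by omega)]
  by_cases hinv : a ^ k = a⁻¹
  · -- dihedral or quaternion
    have hd : (2 : ℤ) ^ (m - 1) ∣ j := by
      have h1 : (2 : ℤ) ^ m ∣ -1 - k := (hmod k (-1)).1 (by rw [hinv, zpow_neg_one])
      have h2 : (2 : ℤ) ^ m ∣ 2 * j := by
        obtain ⟨c, hc⟩ := h1
        obtain ⟨d, hd⟩ := hjk
        exact ⟨-(c * j) - d, by linear_combination (-j) * hc - hd⟩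
      rw [hm1] at h2
      exact Int.dvd_of_mul_dvd_mul_left (by norm_num) h2
    obtain ⟨t, ht⟩ := hd
    refine ⟨a, y, hao, hy, ?_⟩
    rcases Int.even_or_odd t with ⟨u, hu⟩ | ⟨u, hu⟩
    · refine Or.inl ⟨?_, hk.trans hinv⟩
      rw [← hj, ← zpow_zero a, hmod]
      exact ⟨-u, by rw [ht, hu, hm1]; ring⟩
    · refine Or.inr (Or.inl ⟨?_, hk.trans hinv⟩)
      rw [← hj, ← zpow_natCast, hmod]
      exact ⟨-u, by push_cast; rw [ht, hu, hm1]; ring⟩
  have hk1 : a ^ k ≠ a := by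
    intro h
    obtain ⟨x, z, hxz⟩ := hna
    have hya : y * a = a * y := mul_inv_eq_iff_eq_mul.1 (hk.trans h)
    have hgen : closure ({a, y} : Set G) = ⊤ := by
      set L := closure ({a, y} : Set G)
      have hle : C ≤ L := hCa ▸ zpowers_le.2 (subset_closure (Set.mem_insert a {y}))
      have hd : C.relIndex L * L.index = 2 := by rw [relIndex_mul_index hle, hCi]
      rcases (Nat.dvd_prime Nat.prime_two).1 ⟨C.relIndex L, by rw [mul_comm]; exact hd.symm⟩
        with h | h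
      · exact index_eq_one.1 h
      · exfalso
        rw [h] at hd
        have h' : C.relIndex L = 1 := by omega
        exact hy (hCa ▸ relIndex_eq_one.1 h' (subset_closure (Set.mem_insert_of_mem a rfl)))
    haveI := Subgroup.isMulCommutative_closure (k := ({a, y} : Set G)) (by
      rintro u (rfl | rfl) v (rfl | rfl) <;> first | rfl | exact hya | exact hya.symm)
    exact hxz (congrArg Subtype.val (mul_comm'
      (⟨x, hgen ▸ mem_top x⟩ : closure ({a, y} : Set G)) ⟨z, hgen ▸ mem_top z⟩))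
  rcases sq_one_mod_two_pow (show 2 ≤ m by omega) hk2 with ⟨t, ht⟩ | ⟨t, ht⟩
  · -- `k = 1 + 2 ^ (m - 1)`
    obtain ⟨u, rfl⟩ : Odd t := by
      refine Int.not_even_iff_odd.1 fun ⟨u, hu⟩ => hk1 ?_
      conv_rhs => rw [← zpow_one a]
      rw [hmod, hm1]
      exact ⟨-u, by rw [hu] at ht; linear_combination -ht⟩
    have hm3 : 3 ≤ m := by
      by_contra hlt
      refine hinv ?_
      rw [← zpow_neg_one, hmod, hm1]
      rw [show m - 1 = 1 by omega, pow_one] at ht ⊢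
      exact ⟨-(u + 1), by linear_combination -ht⟩
    obtain ⟨v, hv⟩ : Even j := by
      refine Int.not_odd_iff_even.1 fun ⟨v, hv⟩ => ?_
      obtain ⟨c, hc⟩ := hjk
      have h1 : (2 : ℤ) ^ (m - 1) * (2 * (v + u + 2 * u * v) + 1) = 2 ^ (m - 1) * (2 * c) := by
        rw [hv, hm1] at hc; linear_combination hc - (2 * v + 1) * ht
      have h2 := mul_left_cancel₀ (by positivity : (2 : ℤ) ^ (m - 1) ≠ 0) h1
      omega
    obtain ⟨e, rfl⟩ : ∃ e, m = e + 3 := ⟨m - 3, by omega⟩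
    rw [show e + 3 - 1 = e + 2 by omega] at hm1 ht ⊢
    obtain ⟨r, q, hrq⟩ : IsCoprime (1 + (2 : ℤ) ^ (e + 1)) (2 ^ (e + 2)) :=
      IsCoprime.pow_right ⟨1, -2 ^ e, by ring⟩
    refine ⟨a, a ^ (-(v * r)) * y, hao, hb _, Or.inr (Or.inr (Or.inl ⟨by omega, ?_, ?_⟩))⟩
    · rw [hsqmul, ← zpow_zero a, hmod]
      refine ⟨u * v * r - v * q, ?_⟩
      rw [show k = 1 + 2 ^ (e + 2) * (2 * u + 1) by linear_combination ht, hv]
      linear_combination (2 * v) * hrq
    · rw [hconj, ← zpow_natCast, hmod, hm1]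
      push_cast
      exact ⟨-u, by linear_combination -ht⟩
  · -- `k = -1 + 2 ^ (m - 1)`
    obtain ⟨u, rfl⟩ : Odd t := by
      refine Int.not_even_iff_odd.1 fun ⟨u, hu⟩ => hinv ?_
      rw [← zpow_neg_one, hmod, hm1]
      exact ⟨-u, by rw [hu] at ht; linear_combination -ht⟩
    have hm3 : 3 ≤ m := by
      by_contra hlt
      refine hk1 ?_
      conv_rhs => rw [← zpow_one a]
      rw [hmod, hm1]
      rw [show m - 1 = 1 by omega, pow_one] at ht ⊢
      exact ⟨-u, by linear_combination -ht⟩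
    obtain ⟨e, rfl⟩ : ∃ e, m = e + 3 := ⟨m - 3, by omega⟩
    rw [show e + 3 - 1 = e + 2 by omega] at hm1 ht ⊢
    obtain ⟨w, hw⟩ : (2 : ℤ) ^ (e + 2) ∣ j := by
      have h1 : (2 : ℤ) ^ (e + 2) ∣ (2 ^ (e + 1) * (2 * u + 1) - 1) * j := by
        obtain ⟨c, hc⟩ := hjk
        refine Int.dvd_of_mul_dvd_mul_left (show (2 : ℤ) ≠ 0 by norm_num) ⟨c, ?_⟩
        linear_combination hc - j * ht
      exact (IsCoprime.pow_left
        ⟨(2 : ℤ) ^ e * (2 * u + 1), -1, by ring⟩).dvd_of_dvd_mul_left h1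
    refine ⟨a, a ^ w * y, hao, hb _, Or.inr (Or.inr (Or.inr ⟨by omega, ?_, ?_⟩))⟩
    · rw [hsqmul, ← zpow_zero a, hmod, hm1]
      exact ⟨-(w * (u + 1)), by linear_combination -hw - w * ht⟩
    · rw [hconj, ← zpow_natCast, hmod, hm1, Nat.cast_sub Nat.one_le_two_pow]
      push_cast
      exact ⟨-u, by linear_combination -ht⟩

end CfsgLib.PGroup
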