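import Cfsg.Prelude.Def_PLocal
import Cfsg.Prelude.Def_OddOrderLocal
import Cfsg.Agent.Lib.Transfer.UniqueOrderP
import Cfsg.Agent.Lib.OddLocal.PGroup

/-!
Groups with a cyclic subgroup of index `p` inside a `p`-group: normal elementary abelian subgroups
of order `p ^ 2`, `Ω₁` of metacyclic groups.
-/

set_option autoImplicit false
set_option linter.style.haveILetI false

namespace CfsgLib.PGroup

open Subgroup

variable {R : Type*} [Group R] [Finite R] {p : ℕ} [Fact p.Prime]

omit [Finite R] [Fact p.Prime] in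
/-- In a finite cyclic group an element killed by the order of `z` is a power of `z`. -/
theorem mem_zpowers_of_pow_eq_one {C : Type*} [Group C] [Finite C] [IsCyclic C] {z w : C} {n : ℕ}
    (hz : orderOf z = n) (hw : w ^ n = 1) : w ∈ zpowers z := by
  classical
  haveI := Fintype.ofFinite C
  have hn : 0 < n := hz ▸ orderOf_pos z
  have h1 : (Finset.univ.filter fun c => c ∈ zpowers z) ⊆
      Finset.univ.filter fun c : C => c ^ n = 1 := by
    intro c hc
    simp only [Finset.mem_filter, Finset.mem_univ, true_and] at hc ⊢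
    obtain ⟨i, rfl⟩ := mem_zpowers_iff.1 hc
    rw [← zpow_natCast, ← zpow_mul, mul_comm, zpow_mul, zpow_natCast, ← hz, pow_orderOf_eq_one,
      one_zpow]
  have h2 := IsCyclic.card_pow_eq_one_le (α := C) hn
  have h3 : n = (Finset.univ.filter fun c => c ∈ zpowers z).card := by
    rw [← Fintype.card_subtype, ← Nat.card_eq_fintype_card, ← hz]
    exact (Nat.card_zpowers z).symm
  have h4 := Finset.eq_of_subset_of_card_le h1 (h2.trans h3.le)
  have : w ∈ Finset.univ.filter fun c => c ∈ zpowers z := by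
    rw [h4]; simpa using hw
  simpa using this

/-- The elements of order dividing `p` of a non-cyclic `M` with a cyclic subgroup `A` of index `p`. -/
theorem omega_of_cyclic_relIndex (hp : p ≠ 2) (hR : IsPGroup p R) {A M : Subgroup R} (hAM : A ≤ M)
    (hA : IsCyclic A) (hi : A.relIndex M = p) (hM : ¬ IsCyclic M) :
    Cfsg.IsElementaryAbelian p (closure {x : R | x ∈ M ∧ x ^ p = 1}) ∧
      Nat.card (closure {x : R | x ∈ M ∧ x ^ p = 1}) = p ^ 2 := by
  haveI : IsCyclic (A.subgroupOf M) := (subgroupOfEquivOfLe hAM).isCyclic.2 hA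
  obtain ⟨h1, h2⟩ := CfsgLib.Transfer.omega_one_of_cyclic_maximal hp (hR.to_subgroup M) hM
    (A.subgroupOf M) inferInstance hi
  set O := closure {x : M | x ^ p = 1}
  have hO : closure {x : R | x ∈ M ∧ x ^ p = 1} = O.map M.subtype := by
    rw [MonoidHom.map_closure]
    congr 1
    ext x
    constructor
    · rintro ⟨hx, hxp⟩; exact ⟨⟨x, hx⟩, Subtype.ext hxp, rfl⟩
    · rintro ⟨y, hy, rfl⟩; exact ⟨y.2, congrArg Subtype.val hy⟩
  have hc : Nat.card (O.map M.subtype) = p ^ 2 := by
    rw [card_map_of_injective M.subtype_injective, h2]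
  rw [hO]
  refine ⟨⟨IsPGroup.isMulCommutative_of_card_eq_prime_sq hc, ?_⟩, hc⟩
  rintro _ ⟨y, hy, rfl⟩
  rw [← map_pow, h1 y hy, map_one]

/-- A non-cyclic normal subgroup of a `p`-group, `p` odd, contains a normal elementary abelian
subgroup of order `p ^ 2`. -/
theorem exists_normal_elementary_sq_le (hp : p ≠ 2) (hR : IsPGroup p R) (S : Subgroup R) [S.Normal]
    (hS : ¬ IsCyclic S) : ∃ E : Subgroup R, E ≤ S ∧ E.Normal ∧ Cfsg.IsElementaryAbelian p E ∧
      Nat.card E = p ^ 2 := by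
  have hpp := (Fact.out : p.Prime)
  obtain ⟨A, -, hA⟩ := Finite.exists_le_maximal
    (p := fun A : Subgroup R => A.Normal ∧ A ≤ S ∧ IsMulCommutative A) (a := ⊥)
    ⟨inferInstance, bot_le, inferInstance⟩
  obtain ⟨hAn, hAS, hAc⟩ := hA.prop
  haveI := hAn
  haveI := hAc
  by_cases hcyc : IsCyclic A
  · -- then `C_S(A) = A` and some `A⟨x⟩` is normal with cyclic maximal subgroup
    have hlt : A < S := lt_of_le_of_ne hAS fun h => hS (h ▸ hcyc)
    obtain ⟨x₀, hx₀S, hx₀A, hx₀c⟩ := CfsgLib.OddLocal.exists_central_mod hR A S hlt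
    -- a power of `x₀` just outside `A`
    obtain ⟨x, hxS, hxA, hxc, hxp⟩ : ∃ x, x ∈ S ∧ x ∉ A ∧
        (∀ g : R, g * x * g⁻¹ * x⁻¹ ∈ A) ∧ x ^ p ∈ A := by
      classical
      have hex : ∃ l : ℕ, x₀ ^ p ^ l ∈ A := by
        obtain ⟨l, hl⟩ := hR x₀
        exact ⟨l, by rw [hl]; exact one_mem _⟩
      have h0 : Nat.find hex ≠ 0 := fun h => hx₀A (by
        simpa [h] using Nat.find_spec hex)
      refine ⟨x₀ ^ p ^ (Nat.find hex - 1), pow_mem hx₀S _, Nat.find_min hex (by omega),
        fun g => ?_, ?_⟩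
      · rw [← QuotientGroup.eq_one_iff]
        have h : ((g * x₀ * g⁻¹ * x₀⁻¹ : R) : R ⧸ A) = 1 := (QuotientGroup.eq_one_iff _).2 (hx₀c g)
        simp only [QuotientGroup.mk_mul, QuotientGroup.mk_inv, QuotientGroup.mk_pow,
          mul_inv_eq_one] at h ⊢
        rw [← conj_pow, h]
      · rw [← pow_mul, ← pow_succ, Nat.sub_add_cancel (Nat.one_le_iff_ne_zero.2 h0)]
        exact Nat.find_spec hex
    set M := A ⊔ zpowers x with hM
    have hMn : M.Normal := ⟨fun b hb g => by
      have h : M.map (MulAut.conj g).toMonoidHom ≤ M := by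
        rw [hM, Subgroup.map_sup, MonoidHom.map_zpowers, sup_le_iff, zpowers_le]
        refine ⟨fun _ ⟨a, ha, e⟩ => e ▸ mem_sup_left (Normal.conj_mem inferInstance a ha g), ?_⟩
        have := mul_mem_sup (hxc g) (mem_zpowers x)
        simpa using this
      exact h ⟨b, hb, rfl⟩⟩
    have hMS : M ≤ S := sup_le hAS (zpowers_le.2 hxS)
    have hMnc : ¬ IsCyclic M := by
      intro h
      exact hxA (hA.le_of_ge ⟨hMn, hMS, ⟨⟨fun a b => by
        letI := IsCyclic.commGroup (α := M)
        exact mul_comm a b⟩⟩⟩ le_sup_left (mem_sup_right (mem_zpowers x)))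
    have hi : A.relIndex M = p := by
      rw [hM, relIndex_sup_left]
      have h1 := relIndex_ker (K := zpowers x) (QuotientGroup.mk' A)
      rw [QuotientGroup.ker_mk'] at h1
      rw [h1, MonoidHom.map_zpowers, Nat.card_zpowers]
      refine orderOf_eq_prime ?_ fun h => hxA ((QuotientGroup.eq_one_iff x).1 h)
      rw [← map_pow]
      exact (QuotientGroup.eq_one_iff _).2 hxp
    obtain ⟨h1, h2⟩ := omega_of_cyclic_relIndex hp hR le_sup_left hcyc hi hMnc
    refine ⟨_, ((closure_le _).2 fun y hy => hMS hy.1), ?_, h1, h2⟩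
    refine ⟨fun b hb g => ?_⟩
    have h : closure {y : R | y ∈ M ∧ y ^ p = 1} ≤
        (closure {y : R | y ∈ M ∧ y ^ p = 1}).comap (MulAut.conj g).toMonoidHom := by
      rw [closure_le]
      rintro y ⟨hy, hyp⟩
      exact subset_closure ⟨hMn.conj_mem y hy g, by
        show (g * y * g⁻¹) ^ p = 1
        rw [conj_pow, hyp, mul_one, mul_inv_cancel]⟩
    exact h hb
  · let E : Subgroup R :=
      { carrier := {a | a ∈ A ∧ a ^ p = 1}
        one_mem' := ⟨one_mem A, one_pow p⟩
        mul_mem' := fun {a b} ha hb => ⟨mul_mem ha.1 hb.1, by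
          have hc : Commute a b := congrArg Subtype.val (mul_comm' (⟨a, ha.1⟩ : A) ⟨b, hb.1⟩)
          rw [hc.mul_pow, ha.2, hb.2, one_mul]⟩
        inv_mem' := fun {a} ha => ⟨inv_mem ha.1, by rw [inv_pow, ha.2, inv_one]⟩ }
    haveI : E.Normal := ⟨fun b hb g => ⟨hAn.conj_mem b hb.1 g, by
      rw [conj_pow, hb.2, mul_one, mul_inv_cancel]⟩⟩
    have hE2 : p ^ 2 ∣ Nat.card E := by
      obtain ⟨j, hj⟩ := (hR.to_subgroup E).exists_card_eq
      rw [hj]
      refine pow_dvd_pow p (by_contra fun hlt => hcyc ?_)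
      refine CfsgLib.Transfer.isCyclic_of_card_omega_one_le hp (hR.to_subgroup A) ?_
      refine le_trans ?_ ((Nat.pow_le_pow_right hpp.pos (by omega : j ≤ 1)).trans (pow_one p).le)
      rw [← hj, ← card_map_of_injective A.subtype_injective, MonoidHom.map_closure]
      refine card_le_of_le ((closure_le _).2 ?_)
      rintro _ ⟨y, hy, rfl⟩
      exact ⟨y.2, congrArg Subtype.val hy⟩
    obtain ⟨L, hLn, hLE, hL⟩ := CfsgLib.Transfer.exists_normal_le_card hR E hE2
    refine ⟨L, fun a ha => hAS (hLE ha).1, hLn, ⟨⟨⟨fun a b => Subtype.ext ?_⟩⟩, fun a ha =>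
      (hLE ha).2⟩, hL⟩
    show (a : R) * b = b * a
    exact congrArg Subtype.val
      (mul_comm' (⟨(a : R), (hLE a.2).1⟩ : A) ⟨(b : R), (hLE b.2).1⟩)

/-- `Ω₁` of a non-cyclic metacyclic `p`-group, `p` odd. -/
theorem omega_of_metacyclic (hp : p ≠ 2) (hR : IsPGroup p R) (hm : Cfsg.IsMetacyclic R)
    (hnc : ¬ IsCyclic R) : Cfsg.IsElementaryAbelian p (closure {x : R | x ^ p = 1}) ∧
      Nat.card (closure {x : R | x ^ p = 1}) = p ^ 2 := by
  have hpp := (Fact.out : p.Prime)
  obtain ⟨N, hN, hNc, hQc⟩ := hm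
  have hNtop : N ≠ ⊤ := fun h => hnc (topEquiv.isCyclic.1 (h ▸ hNc))
  haveI : Nontrivial (R ⧸ N) := by
    rw [← Finite.one_lt_card_iff_nontrivial, ← Subgroup.index_eq_card]
    exact N.one_lt_index_of_ne_top hNtop
  obtain ⟨j, hj⟩ := (hR.to_quotient N).exists_card_eq
  obtain ⟨z, hz⟩ := exists_prime_orderOf_dvd_card' (G := R ⧸ N) p (by
    have := Finite.one_lt_card (α := R ⧸ N)
    rcases j with _ | j
    · rw [pow_zero] at hj; omega
    · rw [hj]; exact dvd_pow_self p (by omega))
  set M := (zpowers z).comap (QuotientGroup.mk' N)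
  have hNM : N ≤ M := fun a ha => by
    show (a : R ⧸ N) ∈ zpowers z
    rw [(QuotientGroup.eq_one_iff a).2 ha]
    exact one_mem _
  have hi : N.relIndex M = p := by
    conv_lhs => rw [← QuotientGroup.ker_mk' N]
    rw [relIndex_ker, map_comap_eq_self_of_surjective (QuotientGroup.mk'_surjective N),
      Nat.card_zpowers, hz]
  have hset : {x : R | x ^ p = 1} = {x : R | x ∈ M ∧ x ^ p = 1} := by
    ext x
    refine ⟨fun hx => ⟨?_, hx⟩, fun hx => hx.2⟩
    show (x : R ⧸ N) ∈ zpowers z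
    by_cases h1 : (x : R ⧸ N) = 1
    · rw [h1]; exact one_mem _
    have ho : orderOf (x : R ⧸ N) = p :=
      orderOf_eq_prime (by rw [← QuotientGroup.mk_pow, hx, QuotientGroup.mk_one]) h1
    exact mem_zpowers_of_pow_eq_one hz (by rw [← ho, pow_orderOf_eq_one])
  rw [hset]
  refine omega_of_cyclic_relIndex hp hR hNM hNc hi fun hMc => hnc ?_
  refine CfsgLib.Transfer.isCyclic_of_card_omega_one_le hp hR ?_
  rw [hset]
  haveI := hMc
  classical
  haveI := Fintype.ofFinite M
  have h3 := IsCyclic.card_pow_eq_one_le (α := M) (n := p) hpp.pos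
  have h4 : Nat.card (closure {x : R | x ∈ M ∧ x ^ p = 1}) ≤ p := by
    letI := IsCyclic.commGroup (α := M)
    let K : Subgroup M := (powMonoidHom p).ker
    have hK : closure {x : R | x ∈ M ∧ x ^ p = 1} ≤ K.map M.subtype := by
      rw [closure_le]
      rintro x ⟨hx, hxp⟩
      exact ⟨⟨x, hx⟩, Subtype.ext hxp, rfl⟩
    refine (card_le_of_le hK).trans ?_
    rw [card_map_of_injective M.subtype_injective]
    refine le_trans (le_of_eq ?_) h3
    rw [Nat.card_eq_fintype_card, Fintype.card_subtype]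
    exact congrArg Finset.card (Finset.filter_congr fun a _ => Iff.rfl)
  exact h4

end CfsgLib.PGroup
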