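import Cfsg.Agent.Lib.StructC.AltEightSocle
import Mathlib

/-!
The isometry group of an anisotropic quadratic map from an elementary abelian 2-group into an
elementary abelian group of order at most 4 is solvable.
-/

set_option autoImplicit false
set_option linter.style.haveILetI false

namespace CfsgLib.PGroup.Aniso

universe u v

open Subgroup

theorem solvable_perm_le_four {β : Type u} [Finite β] (h : Nat.card β ≤ 4) :
    Group.IsSolvable (Equiv.Perm β) := by
  have : Nat.card (Equiv.Perm β) ∣ 2 ^ 3 * 3 ^ 1 := by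
    rw [Nat.card_perm]
    exact (Nat.factorial_dvd_factorial h).trans (by decide)
  exact StructC.AltEight.solvable_of_dvd this

theorem solvable_of_ker {G : Type u} {H : Type v} [Group G] [Group H] (f : G →* H)
    (hk : Group.IsSolvable f.ker) (hr : Group.IsSolvable f.range) : Group.IsSolvable G :=
  Group.isSolvable_of_ker_le_range f.ker.subtype f.rangeRestrict
    (by rw [f.ker_rangeRestrict, range_subtype])

/-- A non-solvable group of permutations of five points contains all three-cycles. -/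
theorem threeCycle_mem {β : Type u} [Fintype β] [DecidableEq β] (hβ : Fintype.card β = 5)
    (I : Subgroup (Equiv.Perm β)) (hI : ¬ Group.IsSolvable I) {c : Equiv.Perm β}
    (hc : c.IsThreeCycle) : c ∈ I := by
  set J : Subgroup (alternatingGroup β) := I.subgroupOf (alternatingGroup β) with hJdef
  have hJ : ¬ Group.IsSolvable J := by
    intro hs
    apply hI
    let f : I →* ℤˣ := Equiv.Perm.sign.comp I.subtype
    refine solvable_of_ker f ?_ inferInstance
    let g : f.ker →* J :=
      { toFun := fun x => ⟨⟨x.1.1, x.2⟩, mem_subgroupOf.2 x.1.2⟩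
        map_one' := rfl
        map_mul' := fun _ _ => rfl }
    haveI := hs
    refine Group.isSolvable_of_isSolvable_injective (f := g) fun x y h => ?_
    exact Subtype.ext (Subtype.ext (congrArg (fun z : J => z.1.1) h))
  haveI : Nontrivial β := Fintype.one_lt_card_iff_nontrivial.1 (by omega)
  have h60 : Nat.card (alternatingGroup β) = 60 := by
    rw [nat_card_alternatingGroup, Nat.card_eq_fintype_card, hβ]; rfl
  have hd : Nat.card J ∈ Nat.divisors 60 :=
    Nat.mem_divisors.2 ⟨h60 ▸ card_subgroup_dvd_card J, by norm_num⟩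
  have hnot : ∀ p q i j : ℕ, p.Prime → q.Prime → Nat.card J ≠ p ^ i * q ^ j :=
    fun p q i j hp hq he => hJ (Char.burnside_pq p q hp hq i j J he)
  have hcard : Nat.card J = 30 ∨ Nat.card J = 60 := by
    have hdiv : Nat.divisors 60 = {1, 2, 3, 4, 5, 6, 10, 12, 15, 20, 30, 60} := by decide
    rw [hdiv] at hd
    simp only [Finset.mem_insert, Finset.mem_singleton] at hd
    rcases hd with h | h | h | h | h | h | h | h | h | h | h | h
    · exact absurd h (hnot 2 3 0 0 Nat.prime_two Nat.prime_three)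
    · exact absurd h (hnot 2 3 1 0 Nat.prime_two Nat.prime_three)
    · exact absurd h (hnot 2 3 0 1 Nat.prime_two Nat.prime_three)
    · exact absurd h (hnot 2 3 2 0 Nat.prime_two Nat.prime_three)
    · exact absurd h (hnot 2 5 0 1 Nat.prime_two (by norm_num))
    · exact absurd h (hnot 2 3 1 1 Nat.prime_two Nat.prime_three)
    · exact absurd h (hnot 2 5 1 1 Nat.prime_two (by norm_num))
    · exact absurd h (hnot 2 3 2 1 Nat.prime_two Nat.prime_three)
    · exact absurd h (hnot 3 5 1 1 Nat.prime_three (by norm_num))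
    · exact absurd h (hnot 2 5 2 1 Nat.prime_two (by norm_num))
    · exact Or.inl h
    · exact Or.inr h
  let c' : alternatingGroup β := ⟨c, hc.mem_alternatingGroup⟩
  have hsq : ∀ x : alternatingGroup β, x * x ∈ J := by
    intro x
    have hi := J.index_mul_card
    rw [h60] at hi
    rcases hcard with h | h
    · exact mul_self_mem_of_index_two (by rw [h] at hi; omega) x
    · rw [eq_top_of_card_eq J (h.trans h60.symm)]; exact mem_top _
  have h4 : c' = (c' * c') * (c' * c') := by
    have h3 : c' ^ 3 = 1 := Subtype.ext (by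
      show c ^ 3 = 1
      rw [← hc.orderOf, pow_orderOf_eq_one])
    calc c' = c' ^ 3 * c' := by rw [h3, one_mul]
      _ = _ := by rw [pow_succ, pow_two]; simp only [mul_assoc]
  have : c' ∈ J := h4 ▸ hsq (c' * c')
  exact mem_subgroupOf.1 this

variable {W Y : Type u} [CommGroup W] [CommGroup Y] [Finite W] [Finite Y]

/-- An anisotropic quadratic map into an elementary abelian group of order at most four. -/
structure Datum (W Y : Type u) [CommGroup W] [CommGroup Y] where
  /-- the quadratic map -/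
  q : W → Y
  sqW : ∀ x : W, x * x = 1
  sqY : ∀ y : Y, y * y = 1
  q_one : q 1 = 1
  aniso : ∀ x, q x = 1 → x = 1
  bil : ∀ x y z, q (x * y * z) * q (x * y) * q (x * z) * q (y * z) * (q x * q y * q z) = 1
  card_le : Nat.card Y ≤ 4

namespace Datum

variable (D : Datum W Y)
include D

/-- The polar map. -/
def b (x y : W) : Y := D.q (x * y) * D.q x * D.q y

omit [Finite W] [Finite Y] in
theorem invY (y : Y) : y⁻¹ = y := inv_eq_of_mul_eq_one_right (D.sqY y)

omit [Finite W] [Finite Y] in
theorem invW (y : W) : y⁻¹ = y := inv_eq_of_mul_eq_one_right (D.sqW y)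

omit [Finite W] [Finite Y] in
theorem eq_of_mulY {x y : Y} (h : x * y = 1) : x = y :=
  (eq_inv_of_mul_eq_one_left h).trans (D.invY y)

omit [Finite W] [Finite Y] in
theorem b_comm (x y : W) : D.b x y = D.b y x := by
  unfold b; rw [mul_comm x y]; ac_rfl

omit [Finite W] [Finite Y] in
theorem q_mul (x y : W) : D.q (x * y) = D.q x * D.q y * D.b x y := by
  unfold b
  calc D.q (x * y) = D.q (x * y) * (D.q x * D.q x) * (D.q y * D.q y) := by
        rw [D.sqY, D.sqY, mul_one, mul_one]
    _ = _ := by ac_rfl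

omit [Finite W] [Finite Y] in
theorem b_mul_left (x y z : W) : D.b (x * y) z = D.b x z * D.b y z := by
  refine D.eq_of_mulY ?_
  unfold b
  have h := D.bil x y z
  have h2 := D.sqY (D.q z)
  calc D.q (x * y * z) * D.q (x * y) * D.q z * (D.q (x * z) * D.q x * D.q z *
        (D.q (y * z) * D.q y * D.q z))
      = (D.q (x * y * z) * D.q (x * y) * D.q (x * z) * D.q (y * z) * (D.q x * D.q y * D.q z)) *
          (D.q z * D.q z) := by ac_rfl
    _ = 1 := by rw [h, h2, mul_one]

omit [Finite W] [Finite Y] in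
theorem b_self (x : W) : D.b x x = 1 := by
  rw [b, D.sqW, D.q_one, one_mul, D.sqY]

/-- The orthogonal of a vector. -/
def perp (v : W) : Subgroup W where
  carrier := {x | D.b x v = 1}
  one_mem' := by show D.b 1 v = 1; rw [b, one_mul, D.q_one, mul_one, D.sqY]
  mul_mem' {x y} hx hy := by show D.b (x * y) v = 1; rw [D.b_mul_left, hx, hy, one_mul]
  inv_mem' {x} hx := by show D.b x⁻¹ v = 1; rw [D.invW]; exact hx

omit [Finite W] [Finite Y] in
theorem mem_perp {v x : W} : x ∈ D.perp v ↔ D.b x v = 1 := Iff.rfl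

theorem card_le_perp (v : W) : Nat.card W ≤ 4 * Nat.card (D.perp v) := by
  let f : W →* Y :=
    { toFun := fun x => D.b x v
      map_one' := (D.perp v).one_mem
      map_mul' := fun x y => D.b_mul_left x y v }
  have hk : f.ker = D.perp v := rfl
  rw [← (D.perp v).index_mul_card, ← hk, index_ker]
  exact Nat.mul_le_mul_right _ ((card_le_card_group f.range).trans D.card_le)

/-- The triangle bound. -/
theorem card_le_four_mul (H M : Subgroup W) (s : Subgroup Y)
    (hs : ∀ p r : Y, p ∉ s → r ∉ s → p * r ∈ s)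
    (hq : ∀ x ∈ H, x ∉ M → D.q x ∉ s) : Nat.card H ≤ 4 * Nat.card M := by
  classical
  by_contra hlt
  have hne : ∀ T : Set W, T.ncard ≤ 4 * Nat.card M → ∃ z ∈ H, z ∉ T := by
    intro T hT
    by_contra! hall
    exact hlt (le_trans ((SetLike.coe_sort_coe H) ▸ (Nat.card_coe_set_eq (H : Set W)).le.trans
      (Set.ncard_le_ncard hall)) hT)
  set t : W → Set W := fun a => (fun m => a * m) '' (M : Set W) with ht
  have htc : ∀ a, (t a).ncard ≤ Nat.card M := fun a =>
    (Set.ncard_image_le (Set.toFinite _)).trans (Nat.card_coe_set_eq (M : Set W)).ge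
  have htm : ∀ a z, z ∉ t a → a * z ∉ M := fun a z hz hm => hz ⟨a * z, hm, by
    show a * (a * z) = z
    rw [← mul_assoc, D.sqW, one_mul]⟩
  obtain ⟨x, hxH, hx⟩ := hne (t 1) ((htc 1).trans (by omega))
  obtain ⟨y, hyH, hy⟩ := hne (t 1 ∪ t x)
    ((Set.ncard_union_le _ _).trans (by have := htc 1; have := htc x; omega))
  obtain ⟨z, hzH, hz⟩ := hne (t 1 ∪ t x ∪ t y ∪ t (x * y))
    ((Set.ncard_union_le _ _).trans (by
      have := Set.ncard_union_le (t 1 ∪ t x) (t y)
      have := Set.ncard_union_le (t 1) (t x)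
      have := htc 1; have := htc x; have := htc y; have := htc (x * y); omega))
  simp only [Set.mem_union, not_or] at hy hz
  have h1 : ∀ a, a ∉ t 1 → a ∉ M := fun a ha => by simpa using htm 1 a ha
  have hpair : ∀ a c, a ∈ H → c ∈ H → a ∉ M → c ∉ M → a * c ∉ M → D.b a c ∉ s := by
    intro a c ha hc ha' hc' hac hb
    apply hq _ (mul_mem ha hc) hac
    rw [D.q_mul]
    exact mul_mem (hs _ _ (hq a ha ha') (hq c hc hc')) hb
  have hxy := htm x y hy.2
  refine hpair (x * y) z (mul_mem hxH hyH) hzH hxy (h1 z hz.1.1.1) (htm _ z hz.2) ?_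
  rw [D.b_mul_left]
  exact hs _ _ (hpair x z hxH hzH (h1 x hx) (h1 z hz.1.1.1) (htm x z hz.1.1.2))
    (hpair y z hyH hzH (h1 y hy.1) (h1 z hz.1.1.1) (htm y z hz.1.2))

/-- The isometry group. -/
def iso : Subgroup (MulAut W) where
  carrier := {g | ∀ x, D.q (g x) = D.q x}
  one_mem' _ := rfl
  mul_mem' {g h} hg hh x := by rw [MulAut.mul_apply, hg, hh]
  inv_mem' {g} hg x := by
    conv_rhs => rw [show x = g (g⁻¹ x) by rw [← MulAut.mul_apply, mul_inv_cancel]; rfl]
    rw [hg]

omit [Finite W] [Finite Y] in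
theorem iso_b {g : MulAut W} (hg : g ∈ D.iso) (x y : W) : D.b (g x) (g y) = D.b x y := by
  rw [b, b, ← map_mul, hg, hg, hg]

/-- The action on a fibre. -/
def fibreHom (c : Y) : D.iso →* Equiv.Perm {x : W // D.q x = c} where
  toFun g := Equiv.Perm.subtypePerm (g : MulAut W).toEquiv (fun x => by
    show D.q ((g : MulAut W) x) = c ↔ _; rw [g.2 x])
  map_one' := rfl
  map_mul' _ _ := rfl

omit [Finite W] [Finite Y] in
theorem fibreHom_apply (c : Y) (g : D.iso) (x : {x : W // D.q x = c}) :
    ((D.fibreHom c g x : {x : W // D.q x = c}) : W) = (g : MulAut W) x := rfl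

omit [Finite W] [Finite Y] in
theorem eq_of_q_self {c : Y} {v x : W} (hv : D.q v = c) (hx : D.q x = c) (hb : D.b x v = 1) :
    x = v := by
  have h := D.aniso (x * v) (by rw [D.q_mul, hv, hx, hb, mul_one, D.sqY])
  exact (eq_inv_of_mul_eq_one_left h).trans (D.invW v)

theorem four (hY : ¬ Nat.card Y ≤ 2) {c a : Y} (hc : c ≠ 1) (ha : a ≠ 1) (hac : a ≠ c) :
    ∀ y : Y, y = 1 ∨ y = c ∨ y = a ∨ y = a * c := by
  classical
  haveI := Fintype.ofFinite Y
  have h4 : ({1, c, a, a * c} : Finset Y).card = 4 := by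
    have h1 : a * c ≠ 1 := fun h => hac (D.eq_of_mulY h)
    have h2 : a * c ≠ c := fun h => ha (mul_eq_right.1 h)
    have h3 : a * c ≠ a := fun h => hc (mul_eq_left.1 h)
    simp [hc.symm, ha.symm, h1.symm, hac.symm, h2.symm, h3.symm]
  have hu : ({1, c, a, a * c} : Finset Y) = Finset.univ :=
    Finset.eq_univ_of_card _ (le_antisymm (Finset.card_le_univ _)
      (by rw [h4, ← Nat.card_eq_fintype_card]; exact D.card_le))
  intro y
  have := Finset.mem_univ y
  rw [← hu] at this
  simpa using this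

theorem fibres_of_perp (hY : ¬ Nat.card Y ≤ 2) {c a : Y} (hc : c ≠ 1) (ha : a ≠ 1) (hac : a ≠ c)
    {v x : W} (hv : D.q v = c) (hx : x ∈ D.perp v) (hx1 : x ≠ 1) (hxv : x ≠ v) :
    D.q x = a ∨ D.q (x * v) = a := by
  rcases D.four hY hc ha hac (D.q x) with h | h | h | h
  · exact absurd (D.aniso x h) hx1
  · exact absurd (D.eq_of_q_self hv h hx) hxv
  · exact Or.inl h
  · right
    rw [D.q_mul, h, hv, hx, mul_one, mul_assoc, D.sqY, mul_one]

theorem card_perp (hY : ¬ Nat.card Y ≤ 2) {c a : Y} (hc : c ≠ 1) (ha : a ≠ 1) (hac : a ≠ c)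
    {v : W} (hv : D.q v = c) :
    Nat.card (D.perp v) = 2 + 2 * {x : W | x ∈ D.perp v ∧ D.q x = a}.ncard := by
  set A := {x : W | x ∈ D.perp v ∧ D.q x = a} with hA
  have hvperp : v ∈ D.perp v := D.b_self v
  have hv1 : v ≠ 1 := fun h => hc (by rw [← hv, h, D.q_one])
  have hvv : ∀ x : W, x * v * v = x := fun x => by rw [mul_assoc, D.sqW, mul_one]
  have hset : (D.perp v : Set W) = ({1, v} ∪ A) ∪ (fun x => x * v) '' A := by
    ext x
    constructor
    · intro hx
      by_cases h1 : x = 1
      · exact Or.inl (Or.inl (Or.inl h1))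
      by_cases h2 : x = v
      · exact Or.inl (Or.inl (Or.inr h2))
      rcases D.fibres_of_perp hY hc ha hac hv hx h1 h2 with h | h
      · exact Or.inl (Or.inr ⟨hx, h⟩)
      · exact Or.inr ⟨x * v, ⟨mul_mem hx hvperp, h⟩, hvv x⟩
    · rintro (((rfl | rfl) | h) | ⟨y, hy, rfl⟩)
      exacts [one_mem _, hvperp, h.1, mul_mem hy.1 hvperp]
  have hq : ∀ y ∈ A, D.q (y * v) = a * c := fun y hy => by
    rw [D.q_mul, hy.2, hv, hy.1, mul_one]
  have hd1 : Disjoint ({1, v} : Set W) A := Set.disjoint_left.2 fun x hx h => by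
    rcases hx with rfl | rfl
    · exact ha (by rw [← h.2, D.q_one])
    · exact hac (by rw [← h.2, hv])
  have hd2 : Disjoint ({1, v} ∪ A) ((fun x => x * v) '' A) := by
    refine Set.disjoint_left.2 fun x hx h => ?_
    obtain ⟨y, hy, rfl⟩ := h
    have h' := hq y hy
    replace hx : y * v ∈ ({1, v} ∪ A : Set W) := hx
    rcases hx with (h1 | h1) | h1
    · rw [h1, D.q_one] at h'; exact hac (D.eq_of_mulY h'.symm)
    · rw [Set.mem_singleton_iff.1 h1, hv] at h'; exact ha (mul_eq_right.1 h'.symm)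
    · rw [h1.2] at h'; exact hc (mul_eq_left.1 h'.symm)
  rw [← Nat.card_coe_set_eq] 
  show Nat.card (D.perp v : Set W) = _
  rw [Nat.card_coe_set_eq, Nat.card_coe_set_eq, hset, Set.ncard_union_eq hd2,
    Set.ncard_union_eq hd1, Set.ncard_image_of_injective _ (mul_left_injective v),
    Set.ncard_pair hv1.symm]
  omega

theorem card_perp_le (hY : ¬ Nat.card Y ≤ 2) {c : Y} (hc : c ≠ 1) {v : W} (hv : D.q v = c) :
    Nat.card (D.perp v) ≤ 8 := by
  have hv1 : v ≠ 1 := fun h => hc (by rw [← hv, h, D.q_one])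
  have h := D.card_le_four_mul (D.perp v) (zpowers v) (zpowers c) ?_ ?_
  · rw [Nat.card_zpowers, orderOf_eq_prime (by rw [pow_two]; exact D.sqW v) hv1] at h
    exact h
  · intro p r hp hr
    have hp1 : p ≠ 1 := fun h => hp (h ▸ one_mem _)
    have hpc : p ≠ c := fun h => hp (h ▸ mem_zpowers c)
    rcases D.four hY hc hp1 hpc r with h | h | h | h
    · exact absurd (h ▸ one_mem _) hr
    · exact absurd (h ▸ mem_zpowers c) hr
    · rw [h, D.sqY]; exact one_mem _
    · rw [h, ← mul_assoc, D.sqY, one_mul]; exact mem_zpowers c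
  · intro x hx hxM hq
    obtain ⟨k, hk⟩ := hq
    have hc2 : c ^ (2 : ℕ) = 1 := by rw [pow_two]; exact D.sqY c
    rcases Int.even_or_odd k with ⟨m, rfl⟩ | ⟨m, rfl⟩
    · refine hxM ((D.aniso x ?_).symm ▸ one_mem _)
      rw [← hk]
      show c ^ (m + m) = 1
      rw [zpow_add, D.sqY]
    · refine hxM ((D.eq_of_q_self hv ?_ hx).symm ▸ mem_zpowers v)
      rw [← hk]
      show c ^ (2 * m + 1) = c
      rw [two_mul, zpow_add, zpow_add, D.sqY, one_mul, zpow_one]

theorem stab_solvable (hY : ¬ Nat.card Y ≤ 2) {c : Y} (hc : c ≠ 1) {v : W} (hv : D.q v = c)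
    (H : Subgroup D.iso) (hH : ∀ g ∈ H, (g : MulAut W) v = v) : Group.IsSolvable H := by
  classical
  haveI := Fintype.ofFinite Y
  obtain ⟨a, -, ha⟩ := Finset.exists_mem_notMem_of_card_lt_card
    (s := ({1, c} : Finset Y)) (t := Finset.univ) (by
      rw [Finset.card_univ, ← Nat.card_eq_fintype_card]
      exact lt_of_le_of_lt Finset.card_le_two (by omega))
  simp only [Finset.mem_insert, Finset.mem_singleton, not_or] at ha
  have hperp : ∀ g ∈ H, ∀ x, D.b ((g : MulAut W) x) v = D.b x v := fun g hg x => by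
    conv_lhs => rw [← hH g hg]
    exact D.iso_b g.2 x v
  let A := {x : W // x ∈ D.perp v ∧ D.q x = a}
  let f : H →* Equiv.Perm A :=
    { toFun := fun g => Equiv.Perm.subtypePerm (g.1 : MulAut W).toEquiv (fun x => by
        show (g.1 : MulAut W) x ∈ D.perp v ∧ D.q ((g.1 : MulAut W) x) = a ↔ _
        rw [g.1.2 x, D.mem_perp, hperp g.1 g.2 x, D.mem_perp])
      map_one' := rfl
      map_mul' := fun _ _ => rfl }
  have hA : Nat.card A ≤ 4 := by
    have h1 := D.card_perp hY hc ha.1 ha.2 hv
    have h2 := D.card_perp_le hY hc hv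
    show Nat.card {x : W | x ∈ D.perp v ∧ D.q x = a} ≤ 4
    rw [Nat.card_coe_set_eq]; omega
  haveI := solvable_perm_le_four hA
  refine solvable_of_ker f ?_ inferInstance
  have hfix : ∀ g : f.ker, ∀ x ∈ D.perp v, (g.1.1 : MulAut W) x = x := by
    intro g x hx
    have hg : ∀ y (hy : y ∈ D.perp v ∧ D.q y = a), (g.1.1 : MulAut W) y = y := fun y hy =>
      congrArg Subtype.val (Equiv.congr_fun (MonoidHom.mem_ker.1 g.2) ⟨y, hy⟩)
    by_cases h1 : x = 1
    · rw [h1, map_one]
    by_cases h2 : x = v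
    · rw [h2]; exact hH _ g.1.2
    rcases D.fibres_of_perp hY hc ha.1 ha.2 hv hx h1 h2 with h | h
    · exact hg x ⟨hx, h⟩
    · have := hg (x * v) ⟨mul_mem hx (D.b_self v), h⟩
      rw [map_mul, hH _ g.1.2] at this
      exact mul_right_cancel this
  have hdiff : ∀ g : f.ker, ∀ x, x * (g.1.1 : MulAut W) x ∈ D.perp v := fun g x => by
    rw [D.mem_perp, D.b_mul_left, hperp _ g.1.2, D.sqY]
  refine Group.isSolvable_of_comm fun g h => ?_
  refine Subtype.ext (Subtype.ext (Subtype.ext (MulEquiv.ext fun x => ?_)))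
  show (g.1.1 : MulAut W) ((h.1.1 : MulAut W) x) = (h.1.1 : MulAut W) ((g.1.1 : MulAut W) x)
  have key : ∀ g : f.ker, ∀ y, (g.1.1 : MulAut W) y = y * (y * (g.1.1 : MulAut W) y) := fun g y => by
    rw [← mul_assoc, D.sqW, one_mul]
  conv_lhs => rw [key h x, map_mul, hfix g _ (hdiff h x), key g x]
  conv_rhs => rw [key g x, map_mul, hfix h _ (hdiff g x), key h x]
  ac_rfl

theorem perm_fibre_solvable (hY : ¬ Nat.card Y ≤ 2) {c : Y} (hc : c ≠ 1) {v : W} (hv : D.q v = c)
    (h : Group.IsSolvable (D.fibreHom c).range) : Group.IsSolvable D.iso :=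
  solvable_of_ker _ (D.stab_solvable hY hc hv _ fun g hg => by
    have := Equiv.congr_fun (MonoidHom.mem_ker.1 hg) ⟨v, hv⟩
    exact congrArg Subtype.val this) h

theorem five_solvable (hY : ¬ Nat.card Y ≤ 2)
    (h5 : ∀ c : Y, c ≠ 1 → Nat.card {x : W // D.q x = c} = 5) {c : Y} (hc : c ≠ 1) :
    Group.IsSolvable (D.fibreHom c).range := by
  classical
  haveI := Fintype.ofFinite {x : W // D.q x = c}
  have hcard : Fintype.card {x : W // D.q x = c} = 5 := by
    rw [← Nat.card_eq_fintype_card]; exact h5 c hc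
  by_contra hns
  have h3 : ∀ x y z : {x : W // D.q x = c}, x ≠ y → x ≠ z → y ≠ z →
      ∃ g : MulAut W, g ∈ D.iso ∧ g x.1 = y.1 ∧ g y.1 = z.1 ∧ g z.1 = x.1 ∧
        ∀ u : {x : W // D.q x = c}, u ≠ x → u ≠ y → u ≠ z → g u.1 = u.1 := by
    intro x y z hxy hxz hyz
    obtain ⟨g, hg⟩ := threeCycle_mem hcard _ hns
      (Equiv.Perm.isThreeCycle_swap_mul_swap_same hxz hxy hyz.symm)
    have hap : ∀ u, (g : MulAut W) u.1 = ((Equiv.swap x z * Equiv.swap x y) u).1 := fun u => by
      rw [← hg]; rfl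
    refine ⟨g, g.2, ?_, ?_, ?_, fun u h1 h2 h3 => ?_⟩ <;> rw [hap, Equiv.Perm.mul_apply]
    · rw [Equiv.swap_apply_left, Equiv.swap_apply_of_ne_of_ne hxy.symm hyz]
    · rw [Equiv.swap_apply_right, Equiv.swap_apply_left]
    · rw [Equiv.swap_apply_of_ne_of_ne hxz.symm hyz.symm, Equiv.swap_apply_right]
    · rw [Equiv.swap_apply_of_ne_of_ne h1 h2, Equiv.swap_apply_of_ne_of_ne h1 h3]
  have hshare : ∀ x y z : {x : W // D.q x = c}, x ≠ y → x ≠ z → y ≠ z →
      D.b x.1 y.1 = D.b y.1 z.1 := by
    intro x y z hxy hxz hyz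
    obtain ⟨g, hg, e1, e2, -, -⟩ := h3 x y z hxy hxz hyz
    rw [← D.iso_b hg x.1 y.1, e1, e2]
  obtain ⟨e⟩ : Nonempty (Fin 5 ≃ {x : W // D.q x = c}) :=
    ⟨(Fintype.equivFinOfCardEq hcard).symm⟩
  set β := D.b (e 0).1 (e 1).1
  have hne : ∀ {i j}, i ≠ j → e i ≠ e j := fun h h' => h (e.injective h')
  have h0 : ∀ j, j ≠ 0 → D.b (e 0).1 (e j).1 = β := by
    intro j hj
    by_cases h1 : j = 1
    · rw [h1]
    · rw [D.b_comm, hshare (e j) (e 0) (e 1) (hne hj) (hne h1) (hne (by decide))]
  have hb : ∀ i j, i ≠ j → D.b (e i).1 (e j).1 = β := by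
    intro i j hij
    by_cases hi : i = 0
    · subst hi; exact h0 j hij.symm
    by_cases hj : j = 0
    · subst hj; rw [D.b_comm]; exact h0 i hi
    rw [← hshare (e 0) (e i) (e j) (hne (Ne.symm hi)) (hne (Ne.symm hj)) (hne hij)]
    exact h0 i hi
  have hq : ∀ i j, i ≠ j → D.q ((e i).1 * (e j).1) = β := fun i j hij => by
    rw [D.q_mul, (e i).2, (e j).2, D.sqY, one_mul, hb i j hij]
  have hβ : β ≠ 1 := fun h => hne (show (0 : Fin 5) ≠ 1 by decide)
    (Subtype.ext (D.eq_of_q_self (e 1).2 (e 0).2 h))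
  have hdis : ∀ i j k l, i ≠ j → k ≠ l → i ≠ k → i ≠ l → j ≠ k → j ≠ l →
      (e i).1 * (e j).1 ≠ (e k).1 * (e l).1 := by
    intro i j k l hij hkl hik hil hjk hjl heq
    obtain ⟨m, -, hm⟩ := Finset.exists_mem_notMem_of_card_lt_card
      (s := ({i, j, k, l} : Finset (Fin 5))) (t := Finset.univ) (by
        rw [Finset.card_univ, Fintype.card_fin]
        exact lt_of_le_of_lt Finset.card_le_four (by norm_num))
    simp only [Finset.mem_insert, Finset.mem_singleton, not_or] at hm
    obtain ⟨g, -, e1, e2, -, efix⟩ := h3 (e k) (e l) (e m) (hne hkl) (hne (Ne.symm hm.2.2.1))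
      (hne (Ne.symm hm.2.2.2))
    have h' := congrArg g heq
    rw [map_mul, map_mul, efix _ (hne hik) (hne hil) (hne (Ne.symm hm.1)),
      efix _ (hne hjk) (hne hjl) (hne (Ne.symm hm.2.1)), e1, e2, heq, mul_comm (e k).1] at h'
    exact hne (Ne.symm hm.2.2.1) (Subtype.ext (mul_left_cancel h'))
  have hinj : ∀ i j k l, i ≠ j → k ≠ l → (e i).1 * (e j).1 = (e k).1 * (e l).1 →
      (i = k ∧ j = l) ∨ (i = l ∧ j = k) := by
    intro i j k l hij hkl heq
    by_cases hik : i = k
    · subst hik; exact Or.inl ⟨rfl, e.injective (Subtype.ext (mul_left_cancel heq))⟩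
    by_cases hil : i = l
    · subst hil
      rw [mul_comm (e k).1] at heq
      exact Or.inr ⟨rfl, e.injective (Subtype.ext (mul_left_cancel heq))⟩
    by_cases hjk : j = k
    · subst hjk
      rw [mul_comm (e i).1] at heq
      exact absurd (e.injective (Subtype.ext (mul_left_cancel heq))) hil
    by_cases hjl : j = l
    · subst hjl
      exact absurd (e.injective (Subtype.ext (mul_right_cancel heq))) hik
    exact absurd heq (hdis i j k l hij hkl hik hil hjk hjl)
  let pr : Fin 6 → Fin 5 × Fin 5 := ![(0, 1), (0, 2), (0, 3), (0, 4), (1, 2), (1, 3)]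
  have hpr : ∀ k, (pr k).1 ≠ (pr k).2 := by decide
  let Φ : Fin 6 → {x : W // D.q x = β} :=
    fun k => ⟨(e (pr k).1).1 * (e (pr k).2).1, hq _ _ (hpr k)⟩
  have hΦ : Function.Injective Φ := fun k l h => by
    have := hinj _ _ _ _ (hpr k) (hpr l) (congrArg Subtype.val h)
    clear h
    revert this
    revert k l
    decide
  have := Nat.card_le_card_of_injective Φ hΦ
  rw [h5 β hβ, Nat.card_fin] at this
  omega

/-- The isometry group is solvable. -/
theorem iso_solvable : Group.IsSolvable D.iso := by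
  classical
  haveI := Fintype.ofFinite W
  haveI := Fintype.ofFinite Y
  have small : ∀ s : Subgroup Y, (∀ p r : Y, p ∉ s → r ∉ s → p * r ∈ s) →
      (∀ x : W, x ≠ 1 → D.q x ∉ s) → Group.IsSolvable D.iso := by
    intro s hs hq
    have h := D.card_le_four_mul ⊤ ⊥ s hs fun x _ hx => hq x (fun h => hx (mem_bot.2 h))
    rw [card_top, card_bot, mul_one] at h
    haveI := solvable_perm_le_four h
    let f : D.iso →* Equiv.Perm W :=
      { toFun := fun g => (g : MulAut W).toEquiv
        map_one' := rfl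
        map_mul' := fun _ _ => rfl }
    exact Group.isSolvable_of_isSolvable_injective (f := f) fun g h he =>
      Subtype.ext (MulEquiv.toEquiv_injective he)
  by_cases hY : Nat.card Y ≤ 2
  · refine small ⊥ (fun p r hp hr => ?_) fun x hx h => hx (D.aniso x (mem_bot.1 h))
    rw [mem_bot] at hp hr ⊢
    by_contra hpr
    have h3 : ({1, p, r} : Finset Y).card = 3 := by
      have : p ≠ r := fun h => hpr (h ▸ D.sqY p)
      simp [hp, hr, this, Ne.symm hp, Ne.symm hr]
    have := h3 ▸ Finset.card_le_univ ({1, p, r} : Finset Y)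
    rw [← Nat.card_eq_fintype_card] at this
    omega
  by_cases hhit : ∀ c : Y, c ≠ 1 → ∃ x, D.q x = c
  swap
  · push Not at hhit
    obtain ⟨c, hc, hno⟩ := hhit
    have hc2 : c ^ 2 = 1 := by rw [pow_two]; exact D.sqY c
    have hmem : ∀ p, p ∈ zpowers c ↔ p = 1 ∨ p = c := by
      intro p
      constructor
      · intro hp
        obtain ⟨k, rfl⟩ := (mem_zpowers_iff.1 hp)
        rcases Int.even_or_odd k with ⟨m, rfl⟩ | ⟨m, rfl⟩
        · left; rw [zpow_add, D.sqY]
        · right; rw [two_mul, zpow_add, zpow_add, D.sqY, one_mul, zpow_one]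
      · rintro (rfl | rfl)
        exacts [one_mem _, mem_zpowers _]
    refine small (zpowers c) (fun p r hp hr => ?_) fun x hx h => ?_
    · rw [hmem, not_or] at hp hr
      rcases D.four hY hc hp.1 hp.2 r with h | h | h | h
      · exact absurd h hr.1
      · exact absurd h hr.2
      · rw [h, D.sqY]; exact one_mem _
      · rw [h, ← mul_assoc, D.sqY, one_mul]; exact mem_zpowers c
    · rcases (hmem _).1 h with h | h
      exacts [hx (D.aniso x h), hno x h]
  by_cases h4 : ∃ c : Y, c ≠ 1 ∧ Nat.card {x : W // D.q x = c} ≤ 4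
  · obtain ⟨c, hc, h⟩ := h4
    obtain ⟨v, hv⟩ := hhit c hc
    haveI := solvable_perm_le_four h
    exact D.perm_fibre_solvable hY hc hv inferInstance
  push Not at h4
  obtain ⟨c, -, hc⟩ := Finset.exists_mem_notMem_of_card_lt_card
    (s := ({1} : Finset Y)) (t := Finset.univ) (by
      rw [Finset.card_univ, ← Nat.card_eq_fintype_card, Finset.card_singleton]; omega)
  rw [Finset.mem_singleton] at hc
  obtain ⟨v, hv⟩ := hhit c hc
  obtain ⟨a, -, ha⟩ := Finset.exists_mem_notMem_of_card_lt_card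
    (s := ({1, c} : Finset Y)) (t := Finset.univ) (by
      rw [Finset.card_univ, ← Nat.card_eq_fintype_card]
      exact lt_of_le_of_lt Finset.card_le_two (by omega))
  simp only [Finset.mem_insert, Finset.mem_singleton, not_or] at ha
  set F : Y → Finset W := fun d => Finset.univ.filter fun x => D.q x = d with hF
  have hFc : ∀ d, Nat.card {x : W // D.q x = d} = (F d).card := fun d => by
    rw [Nat.card_eq_fintype_card, Fintype.card_subtype]
  have hsum : Nat.card W = 1 + ((F c).card + ((F a).card + (F (a * c)).card)) := by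
    rw [Nat.card_eq_fintype_card, ← Finset.card_univ,
      Finset.card_eq_sum_card_fiberwise (f := D.q) (t := Finset.univ) (fun x _ => Finset.mem_univ _)]
    have hu : (Finset.univ : Finset Y) = {1, c, a, a * c} := by
      ext y; simpa using D.four hY hc ha.1 ha.2 y
    have h1 : a * c ≠ 1 := fun h => ha.2 (D.eq_of_mulY h)
    have h2 : a * c ≠ c := fun h => ha.1 (mul_eq_right.1 h)
    have h3 : a * c ≠ a := fun h => hc (mul_eq_left.1 h)
    have hone : (F 1) = {1} := by
      ext x
      simp only [hF, Finset.mem_filter, Finset.mem_univ, true_and, Finset.mem_singleton]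
      exact ⟨D.aniso x, fun h => h ▸ D.q_one⟩
    rw [hu, Finset.sum_insert (by simp [Ne.symm hc, Ne.symm ha.1, Ne.symm h1]),
      Finset.sum_insert (by simp [Ne.symm ha.2, Ne.symm h2]),
      Finset.sum_insert (by simp [Ne.symm h3]), Finset.sum_singleton]
    show (F 1).card + _ = _
    rw [hone, Finset.card_singleton]
  have hne : a * c ≠ 1 := fun h => ha.2 (D.eq_of_mulY h)
  have g1 : 4 < (F c).card := hFc c ▸ h4 c hc
  have g2 : 4 < (F a).card := hFc a ▸ h4 a ha.1
  have g3 : 4 < (F (a * c)).card := hFc (a * c) ▸ h4 _ hne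
  obtain ⟨k, hk⟩ : ∃ k, Nat.card W = 2 ^ k :=
    (IsPGroup.iff_card (p := 2)).1 (fun x => ⟨1, by rw [pow_one, pow_two]; exact D.sqW x⟩)
  have hle : ∀ w : W, w ≠ 1 → Nat.card (D.perp w) ≤ 8 := fun w hw =>
    D.card_perp_le hY (fun h => hw (D.aniso w h)) rfl
  have hv1 : v ≠ 1 := fun h => hc (by rw [← hv, h, D.q_one])
  have h32 : Nat.card W ≤ 32 := (D.card_le_perp v).trans (by have := hle v hv1; omega)
  have hk2 : Nat.card W = 16 ∨ Nat.card W = 32 := by
    have : k ≤ 5 := (Nat.pow_le_pow_iff_right (by norm_num : 1 < 2)).1 (hk ▸ h32)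
    interval_cases k <;> omega
  rcases hk2 with h16 | h32'
  · refine D.perm_fibre_solvable hY hc hv (D.five_solvable hY (fun d hd => ?_) hc)
    rw [hFc]
    rcases D.four hY hc ha.1 ha.2 d with h | h | h | h
    · exact absurd h hd
    all_goals rw [h]; omega
  · -- double counting orthogonal pairs between two fibres
    exfalso
    have hdeg : ∀ d e : Y, d ≠ 1 → e ≠ 1 → e ≠ d → ∀ w ∈ F d,
        ((F e).filter fun x => D.b x w = 1).card = 3 := by
      intro d e hd he hed w hw
      simp only [hF, Finset.mem_filter, Finset.mem_univ, true_and] at hw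
      have hw1 : w ≠ 1 := fun h => hd (by rw [← hw, h, D.q_one])
      have e1 := D.card_perp hY hd he hed hw
      have e2 := D.card_le_perp w
      have e3 := hle w hw1
      have e4 : {x : W | x ∈ D.perp w ∧ D.q x = e}.ncard =
          ((F e).filter fun x => D.b x w = 1).card := by
        rw [← Set.ncard_coe_finset]
        congr 1
        ext x
        simp [hF, D.mem_perp, and_comm]
      omega
    have heq : ∀ d e : Y, d ≠ 1 → e ≠ 1 → e ≠ d → (F d).card = (F e).card := by
      intro d e hd he hed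
      have := Finset.card_mul_eq_card_mul (fun w x => D.b x w = 1) (s := F d) (t := F e)
        (m := 3) (n := 3) (fun w hw => hdeg d e hd he hed w hw) (fun x hx => by
          refine Eq.trans ?_ (hdeg e d he hd hed.symm x hx)
          refine congrArg Finset.card ?_
          ext w
          simp [Finset.bipartiteBelow, D.b_comm w x])
      omega
    have := heq c a hc ha.1 ha.2
    have := heq c (a * c) hc hne (fun h => ha.1 (mul_eq_right.1 h))
    omega

end Datum

end CfsgLib.PGroup.Aniso
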