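import Cfsg.Agent.Lib.Invol.MetacyclicPComp
import Cfsg.Agent.Lib.Invol.TwoGroups
import Cfsg.Agent.Lib.Transfer.PPrimeAut
import Cfsg.Agent.Lib.StructC.BurnsideBasis
import Cfsg.Agent.Lib.Coprime.Basic

/-!
Metacyclic `2`-groups whose automorphism group is not a `2`-group.
-/

set_option autoImplicit false
set_option linter.style.haveILetI false

universe u

namespace CfsgLib.PGroup

open Subgroup
open scoped commutatorElement

/-- An automorphism of order prime to `p` of a `p`-group that is trivial modulo the Frattini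
subgroup is trivial. -/
theorem aut_eq_one_of_fix_frattini {P : Type u} [Group P] [Finite P] {p : ℕ} [Fact p.Prime]
    (hP : IsPGroup p P) (φ : MulAut P) (hcop : (orderOf φ).Coprime p)
    (h : ∀ x, x⁻¹ * φ x ∈ frattini P) : φ = 1 := by
  classical
  set r := Nat.card (P ⧸ frattini P)
  let f₀ : Fin r → P ⧸ frattini P := (Finite.equivFin _).symm
  let T : Set (Fin r → P) :=
    {f | (fun i => (QuotientGroup.mk (f i) : P ⧸ frattini P)) ∈ ({f₀} : Set (Fin r → P ⧸ frattini P))}
  have hfix : ∀ α ∈ zpowers φ, ∀ x : P, (QuotientGroup.mk (α x) : P ⧸ frattini P) = QuotientGroup.mk x := by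
    intro α hα
    let S : Subgroup (MulAut P) :=
      { carrier := {β | ∀ x : P, (QuotientGroup.mk (β x) : P ⧸ frattini P) = QuotientGroup.mk x}
        one_mem' := fun x => rfl
        mul_mem' := fun {a b} ha hb x => (ha (b x)).trans (hb x)
        inv_mem' := fun {a} ha x => by
          have := ha (a⁻¹ x)
          rw [MulAut.apply_inv_self] at this
          exact this.symm }
    exact (zpowers_le.2 (show φ ∈ S from fun x => (QuotientGroup.eq.2 (h x)).symm)) hα
  have hdvd : Nat.card (zpowers φ) ∣ Nat.card T := by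
    refine CfsgLib.StructC.card_aut_dvd_card_tuples (zpowers φ) T (fun α hα f hf => ?_) (fun f hf => ?_)
    · show (fun i => (QuotientGroup.mk (α (f i)) : P ⧸ frattini P)) = f₀
      rw [← (hf : _ = f₀)]
      exact funext fun i => hfix α hα (f i)
    · refine CfsgLib.StructC.closure_eq_top_of_frattini f ?_
      rw [(hf : (fun i => (QuotientGroup.mk (f i) : P ⧸ frattini P)) = f₀)]
      rw [(Finite.equivFin _).symm.surjective.range_eq, Subgroup.closure_univ]
  have hT : Nat.card T = Nat.card (frattini P) ^ r :=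
    (CfsgLib.StructC.card_tuples_mk_mem {f₀}).trans (by simp)
  rw [Nat.card_zpowers, hT] at hdvd
  obtain ⟨a, ha⟩ := (hP.to_subgroup (frattini P)).exists_card_eq
  rw [ha] at hdvd
  exact orderOf_eq_one_iff.1
    (Nat.eq_one_of_dvd_coprimes ((hcop.pow_right a).pow_right r) dvd_rfl hdvd)

theorem mul_pow_of_central_comm {G : Type*} [Group G] (x y : G) (hc : ∀ g, Commute ⁅y, x⁆ g)
    (m : ℕ) : (x * y) ^ m = x ^ m * y ^ m * ⁅y, x⁆ ^ (m.choose 2) := by
  set e := ⁅y, x⁆ with he
  have hyx : y * x = e * (x * y) := by rw [he, commutatorElement_def]; group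
  have hpow : ∀ j : ℕ, y ^ j * x = e ^ j * (x * y ^ j) := by
    intro j
    induction j with
    | zero => simp
    | succ j ih =>
      calc y ^ (j + 1) * x = y ^ j * (y * x) := by rw [pow_succ, mul_assoc]
        _ = y ^ j * e * x * y := by rw [hyx]; group
        _ = e * (y ^ j * x) * y := by rw [← (hc (y ^ j)).eq]; group
        _ = e ^ (j + 1) * (x * y ^ (j + 1)) := by rw [ih, pow_succ' e, pow_succ y]; group
  induction m with
  | zero => simp
  | succ m ih =>
    rw [pow_succ, ih, Nat.choose_succ_succ', Nat.choose_one_right, pow_add e]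
    calc x ^ m * y ^ m * e ^ m.choose 2 * (x * y)
        = x ^ m * (y ^ m * x) * y * e ^ m.choose 2 := by
          rw [mul_assoc _ (e ^ m.choose 2) (x * y), ((hc (x * y)).pow_left _).eq]; group
      _ = x ^ (m + 1) * y ^ (m + 1) * (e ^ m * e ^ m.choose 2) := by
          rw [hpow m, pow_succ x, pow_succ y, ← mul_assoc (x ^ m) (e ^ m),
            ← ((hc (x ^ m)).pow_left m).eq]
          rw [mul_assoc (e ^ m), mul_assoc (e ^ m), mul_assoc (e ^ m),
            ((hc _).pow_left m).eq]
          group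

/-- The Frattini data: at most four classes, permuted without fixed points by `φ`. -/
theorem metacyclic_two_frattini {X : Type u} [Group X] [Finite X] (hX : IsPGroup 2 X)
    (hm : Cfsg.IsMetacyclic X) (φ : MulAut X) (h3 : orderOf φ = 3) :
    (∀ g : X, g ∈ frattini X ∨ closure ({g, φ g} : Set X) = ⊤) ∧
      (∀ g : X, (g * φ g)⁻¹ * φ (φ g) ∈ frattini X) ∧ ¬ IsCyclic X := by
  classical
  haveI := Fact.mk Nat.prime_two
  have hne : φ ≠ 1 := fun e => by rw [e, orderOf_one] at h3; norm_num at h3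
  set F := frattini X
  have h4 : Nat.card (X ⧸ F) ≤ 4 := by
    have hV := CfsgLib.OddLocal.card_le_sq_of_metacyclic (CfsgLib.Invol.isMetacyclic_quotient hm F)
      Nat.prime_two ⊤ (fun x _ => by
        obtain ⟨z, rfl⟩ := QuotientGroup.mk_surjective x
        rw [← QuotientGroup.mk_pow, (QuotientGroup.eq_one_iff _).2
          (CfsgLib.StructC.pow_mem_frattini hX z)])
    rwa [card_top] at hV
  let θ : X ⧸ F ≃* X ⧸ F :=
    QuotientGroup.congr F F φ (Subgroup.characteristic_iff_map_eq.1 inferInstance φ)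
  have hθ : ∀ g : X, θ (g : X ⧸ F) = ((φ g : X) : X ⧸ F) := fun g => rfl
  have hθ3 : ∀ a, θ (θ (θ a)) = a := by
    intro a
    obtain ⟨g, rfl⟩ := QuotientGroup.mk_surjective a
    rw [hθ, hθ, hθ]
    have : (φ ^ 3) g = g := by rw [← h3, pow_orderOf_eq_one, MulAut.one_apply]
    simpa [pow_succ, MulAut.mul_apply] using congrArg (fun w : X => (w : X ⧸ F)) this
  have hsq : ∀ a : X ⧸ F, a * a = 1 := by
    intro a
    obtain ⟨g, rfl⟩ := QuotientGroup.mk_surjective a
    rw [← QuotientGroup.mk_mul, QuotientGroup.eq_one_iff, ← sq]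
    exact CfsgLib.StructC.pow_mem_frattini hX g
  have hfpf : ∀ a : X ⧸ F, θ a = a → a = 1 := by
    intro a ha
    by_contra ha1
    have hall : ∀ b, θ b = b := by
      intro b
      by_contra hb
      have hb1 : b ≠ 1 := fun e => hb (by rw [e, map_one])
      have hba : b ≠ a := fun e => hb (e ▸ ha)
      have hab1 : a * b ≠ 1 := fun e => hba (by
        calc b = a * a * b := by rw [hsq, one_mul]
          _ = a := by rw [mul_assoc, e, mul_one])
      have hab : θ b = a * b := by
        by_contra hne'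
        have hinj : ({1, a, b, a * b, θ b} : Finset (X ⧸ F)).card = 5 := by
          have h1a : (1 : X ⧸ F) ≠ a := Ne.symm ha1
          have hθb1 : θ b ≠ 1 := fun e => hb1 (θ.injective (e.trans (map_one θ).symm))
          have hθba : θ b ≠ a := fun e => hba (θ.injective (e.trans ha.symm))
          have haab : a ≠ a * b := fun e => hb1 (left_eq_mul.1 e)
          have hbab : b ≠ a * b := fun e => ha1 (right_eq_mul.1 e)
          simp [h1a, Ne.symm hb1, Ne.symm hab1, Ne.symm hθb1, Ne.symm hba, haab, hbab,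
            Ne.symm hθba, Ne.symm hb, Ne.symm hne']
        haveI := Fintype.ofFinite (X ⧸ F)
        have := Finset.card_le_univ ({1, a, b, a * b, θ b} : Finset (X ⧸ F))
        rw [hinj, ← Nat.card_eq_fintype_card] at this
        omega
      have h := hθ3 b
      rw [hab, map_mul, ha, hab, ← mul_assoc, hsq, one_mul] at h
      exact hb h
    refine hne (aut_eq_one_of_fix_frattini hX φ (by rw [h3]; norm_num) fun g => ?_)
    exact QuotientGroup.eq.1 ((hall g).symm.trans (hθ g))
  have hgen : ∀ g : X, g ∈ F ∨ closure ({g, φ g} : Set X) = ⊤ := by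
    intro g
    refine or_iff_not_imp_left.2 fun hg => ?_
    have hg1 : (g : X ⧸ F) ≠ 1 := fun e => hg ((QuotientGroup.eq_one_iff g).1 e)
    set S := closure ({(g : X ⧸ F), ((φ g : X) : X ⧸ F)} : Set (X ⧸ F))
    have hS : S = ⊤ := by
      refine eq_top_of_card_eq S (le_antisymm (card_le_card_group S) (h4.trans ?_))
      obtain ⟨j, hj⟩ := ((hX.to_quotient F).to_subgroup S).exists_card_eq
      rw [hj]
      by_contra hlt
      have hj1 : j ≤ 1 := by
        by_contra hj1
        exact hlt (le_trans (by norm_num) (Nat.pow_le_pow_right (by norm_num) (show 2 ≤ j by omega)))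
      have h2 : Nat.card S ≤ 2 := hj ▸ le_trans (Nat.pow_le_pow_right (by norm_num) hj1) (le_refl _)
      have hθg : θ (g : X ⧸ F) ≠ g := fun e => hg1 (hfpf _ e)
      have hθg1 : θ (g : X ⧸ F) ≠ 1 := fun e => hg1 (θ.injective (e.trans (map_one θ).symm))
      have hsub : ({1, (g : X ⧸ F), θ g} : Finset (X ⧸ F)).card ≤ Nat.card S := by
        have hmem : ∀ w ∈ ({1, (g : X ⧸ F), θ g} : Finset (X ⧸ F)), w ∈ S := by
          intro w hw
          simp only [Finset.mem_insert, Finset.mem_singleton] at hw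
          rcases hw with rfl | rfl | rfl
          · exact one_mem S
          · exact subset_closure (Set.mem_insert _ _)
          · exact subset_closure (Set.mem_insert_of_mem _ (hθ g))
        rw [← Nat.card_eq_finsetCard]
        exact Nat.card_le_card_of_injective (fun w => (⟨w.1, hmem w.1 w.2⟩ : S))
          fun a b h => Subtype.ext (Subtype.mk.inj h)
      rw [Finset.card_insert_of_notMem (by simp [Ne.symm hg1, Ne.symm hθg1]),
        Finset.card_pair (Ne.symm hθg)] at hsub
      omega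
    apply frattini_nongenerating
    have e : (closure ({g, φ g} : Set X)).map (QuotientGroup.mk' F) = ⊤ := by
      rw [MonoidHom.map_closure, Set.image_pair]
      exact hS
    have e' := congrArg (Subgroup.comap (QuotientGroup.mk' F)) e
    rw [Subgroup.comap_map_eq, QuotientGroup.ker_mk', Subgroup.comap_top] at e'
    exact e'
  refine ⟨hgen, fun g => ?_, ?_⟩
  · rw [← QuotientGroup.eq_one_iff, QuotientGroup.mk_mul, QuotientGroup.mk_inv,
      QuotientGroup.mk_mul, inv_mul_eq_one, ← hθ, ← hθ]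
    have hcomm : ∀ a b : X ⧸ F, a * b = b * a := fun a b => by
      calc a * b = (a * b)⁻¹ := eq_inv_of_mul_eq_one_left (hsq (a * b))
        _ = b⁻¹ * a⁻¹ := mul_inv_rev a b
        _ = b * a := by
          rw [← eq_inv_of_mul_eq_one_left (hsq a), ← eq_inv_of_mul_eq_one_left (hsq b)]
    set a := (g : X ⧸ F)
    have hfix : θ (a * θ a * θ (θ a)) = a * θ a * θ (θ a) := by
      rw [map_mul, map_mul, hθ3, hcomm _ a, mul_assoc]
    calc a * θ a = (a * θ a * θ (θ a)) * θ (θ a) := by rw [mul_assoc, hsq, mul_one]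
      _ = θ (θ a) := by rw [hfpf _ hfix, one_mul]
  · intro hc
    have hcard : IsPGroup 2 (MulAut X) := by
      obtain ⟨k, hk⟩ := hX.exists_card_eq
      obtain ⟨j, -, hj⟩ := (Nat.dvd_prime_pow Nat.prime_two).1
        (show Nat.card (MulAut X) ∣ 2 ^ (k - 1) by
          rw [IsCyclic.card_mulAut, hk]
          cases k with
          | zero => simp
          | succ k => rw [Nat.totient_prime_pow Nat.prime_two (by omega)]; simp)
      exact IsPGroup.of_card hj
    obtain ⟨j, hj⟩ := (IsPGroup.iff_orderOf.1 hcard) φ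
    rw [h3] at hj
    cases j with
    | zero => simp at hj
    | succ j => rw [pow_succ] at hj; omega

/-- The unique involution of a cyclic group of order `2 ^ (n + 1)`. -/
theorem eq_pow_of_sq_eq_one {G : Type*} [Group G] {x w : G} {n : ℕ}
    (hx : orderOf x = 2 ^ (n + 1)) (hw : w ∈ zpowers x) (hw2 : w * w = 1) (hw1 : w ≠ 1) :
    w = x ^ (2 ^ n) := by
  obtain ⟨i, rfl⟩ := mem_zpowers_iff.1 hw
  rw [← zpow_add, ← orderOf_dvd_iff_zpow_eq_one, hx] at hw2
  have h1 : ((2 : ℤ) ^ n) ∣ i := by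
    have : (2 : ℤ) * 2 ^ n ∣ 2 * i := by
      rw [two_mul i, ← pow_succ']
      exact_mod_cast hw2
    exact (mul_dvd_mul_iff_left two_ne_zero).1 this
  obtain ⟨m, rfl⟩ := h1
  obtain ⟨l, rfl⟩ : ∃ l, m = 2 * l + 1 := by
    rcases Int.even_or_odd m with ⟨l, rfl⟩ | h
    · refine absurd ?_ hw1
      rw [← orderOf_dvd_iff_zpow_eq_one, hx]
      exact ⟨l, by push_cast; ring⟩
    · exact h
  rw [show (2 : ℤ) ^ n * (2 * l + 1) = ((2 ^ (n + 1) : ℕ) : ℤ) * l + ((2 ^ n : ℕ) : ℤ) by
    push_cast; ring, zpow_add, zpow_mul, zpow_natCast, zpow_natCast, ← hx, pow_orderOf_eq_one,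
    one_zpow, one_mul]

/-- An abelian noncyclic `2`-group generated by any non-Frattini element and its image. -/
theorem homocyclic_of_fpf {Q : Type u} [Group Q] [Finite Q] (hQ : IsPGroup 2 Q)
    (hc : ∀ a b : Q, a * b = b * a) (θ : MulAut Q) (hnc : ¬ IsCyclic Q)
    (hgen : ∀ g : Q, g ∈ frattini Q ∨ closure ({g, θ g} : Set Q) = ⊤) :
    ∃ n : ℕ, 1 ≤ n ∧ (∀ g : Q, g ^ (2 ^ n) = 1) ∧ Nat.card Q = 2 ^ n * 2 ^ n ∧
      Nonempty (Q ≃* Multiplicative (ZMod (2 ^ n)) × Multiplicative (ZMod (2 ^ n))) := by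
  haveI := Fact.mk Nat.prime_two
  letI : CommGroup Q := { (inferInstance : Group Q) with mul_comm := hc }
  obtain ⟨k, hk⟩ := hQ.exists_card_eq
  obtain ⟨n, -, hn⟩ := (Nat.dvd_prime_pow Nat.prime_two).1
    (hk ▸ Monoid.exponent_dvd_of_forall_pow_eq_one (G := Q) fun g => pow_card_eq_one')
  have hexp : ∀ g : Q, g ^ (2 ^ n) = 1 := fun g => hn ▸ Monoid.pow_exponent_eq_one g
  cases n with
  | zero =>
    exact absurd (by
      haveI : Subsingleton Q := ⟨fun a b => by
        have ha := hexp a; have hb := hexp b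
        rw [pow_zero, pow_one] at ha hb; rw [ha, hb]⟩
      infer_instance) hnc
  | succ n =>
  have hord : ∀ g ∉ frattini Q, orderOf g = 2 ^ (n + 1) := by
    intro g hg
    refine orderOf_eq_prime_pow (fun hg1 => ?_) (hexp g)
    have hle : closure ({g, θ g} : Set Q) ≤ (powMonoidHom (2 ^ n) : Q →* Q).ker :=
      (closure_le _).2 (by
        rintro w (rfl | rfl)
        · exact hg1
        · show (θ g) ^ 2 ^ n = 1
          rw [← map_pow, hg1, map_one])
    rw [(hgen g).resolve_left hg] at hle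
    have h2 : Monoid.exponent Q ∣ 2 ^ n :=
      Monoid.exponent_dvd_of_forall_pow_eq_one fun a => hle (mem_top a)
    rw [hn, Nat.pow_dvd_pow_iff_le_right (by norm_num)] at h2
    omega
  obtain ⟨x, hx⟩ : ∃ x : Q, x ∉ frattini Q := by
    by_contra hall
    push Not at hall
    have : (⊥ : Subgroup Q) = ⊤ := frattini_nongenerating (by
      rw [bot_sup_eq]; exact top_le_iff.1 fun g _ => hall g)
    haveI : Subsingleton Q := ⟨fun a b => by
      have ha : a ∈ (⊥ : Subgroup Q) := this ▸ mem_top a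
      have hb : b ∈ (⊥ : Subgroup Q) := this ▸ mem_top b
      rw [mem_bot] at ha hb; rw [ha, hb]⟩
    exact hnc inferInstance
  have htop := (hgen x).resolve_left hx
  set y := θ x
  have hnot : ∀ w : Q, w ∈ frattini Q → y ∈ zpowers x ⊔ zpowers w → False := by
    intro w hw hy
    apply hnc
    have : zpowers x = ⊤ := frattini_nongenerating (top_le_iff.1 (htop ▸ (closure_le _).2 (by
      rintro v (rfl | rfl)
      · exact mem_sup_left (mem_zpowers _)
      · exact sup_le le_sup_left (zpowers_le.2 (mem_sup_right hw)) hy)))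
    exact ⟨x, fun g => this.ge (mem_top g)⟩
  have hy : y ∉ frattini Q := fun h => hnot y h (mem_sup_right (mem_zpowers y))
  have hxy : x * y ∉ frattini Q := fun h => hnot (x * y) h (by
    have := mul_mem (mem_sup_left (inv_mem (mem_zpowers x)) : x⁻¹ ∈ zpowers x ⊔ zpowers (x * y))
      (mem_sup_right (mem_zpowers (x * y)))
    rwa [inv_mul_cancel_left] at this)
  have hinf : zpowers x ⊓ zpowers y = ⊥ := by
    by_contra hne
    obtain ⟨z, hz, hz1⟩ := (Subgroup.bot_or_exists_ne_one _).resolve_left hne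
    obtain ⟨j, hj⟩ := (IsPGroup.iff_orderOf.1 hQ) z
    cases j with
    | zero => exact hz1 (orderOf_eq_one_iff.1 hj)
    | succ j =>
      set w := z ^ 2 ^ j
      have hw : orderOf w = 2 := by
        rw [orderOf_pow, hj, Nat.gcd_eq_right ⟨2, pow_succ 2 j⟩, pow_succ', Nat.mul_div_cancel _ (by positivity)]
      have hw1 : w ≠ 1 := fun e => by rw [e, orderOf_one] at hw; norm_num at hw
      have hw2 : w * w = 1 := by rw [← sq, ← hw, pow_orderOf_eq_one]
      have e1 := eq_pow_of_sq_eq_one (hord x hx) (pow_mem hz.1 _) hw2 hw1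
      have e2 := eq_pow_of_sq_eq_one (hord y hy) (pow_mem hz.2 _) hw2 hw1
      have : (x * y) ^ 2 ^ n = 1 := by rw [mul_pow, ← e1, ← e2, hw2]
      have h3 := orderOf_dvd_of_pow_eq_one this
      rw [hord _ hxy, Nat.pow_dvd_pow_iff_le_right (by norm_num)] at h3
      omega
  have hnorm : zpowers x ≤ normalizer (zpowers y : Set Q) := by
    rw [normalizer_eq_top_iff.2 inferInstance]; exact le_top
  have hcard := CfsgLib.Coprime.card_sup_of_inf_eq_bot hnorm hinf
  have hsup : zpowers y ⊔ zpowers x = ⊤ := top_le_iff.1 (htop ▸ (closure_le _).2 (by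
    rintro v (rfl | rfl)
    · exact mem_sup_right (mem_zpowers _)
    · exact mem_sup_left (mem_zpowers _)))
  rw [hsup, card_top, Nat.card_zpowers, Nat.card_zpowers, hord x hx, hord y hy] at hcard
  refine ⟨n + 1, by omega, hexp, hcard, ?_⟩
  let F : zpowers x × zpowers y →* Q := (zpowers x).subtype.coprod (zpowers y).subtype
  have hF : Function.Bijective F := by
    haveI : Finite (zpowers x × zpowers y) := inferInstance
    refine (Nat.bijective_iff_surjective_and_card F).2 ⟨?_, ?_⟩
    · intro q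
      obtain ⟨b, hb, a, ha, rfl⟩ :=
        (CfsgLib.Coprime.mem_sup_of_le_normalizer hnorm).1 (hsup.ge (mem_top q))
      exact ⟨(⟨a, ha⟩, ⟨b, hb⟩), mul_comm a b⟩
    · rw [Nat.card_prod, Nat.card_zpowers, Nat.card_zpowers, hord x hx, hord y hy, hcard]
  have e : ∀ z : Q, z ∉ frattini Q → zpowers z ≃* Multiplicative (ZMod (2 ^ (n + 1))) :=
    fun z hz => mulEquivOfCyclicCardEq (by
      rw [Nat.card_zpowers, hord z hz, Nat.card_congr Multiplicative.toAdd, Nat.card_zmod])
  exact ⟨(MulEquiv.ofBijective F hF).symm.trans (MulEquiv.prodCongr (e x hx) (e y hy))⟩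

/-- Class two, derived group of order two: the exponent count leaves only order eight. -/
theorem exponent_count {R : Type u} [Group R] [Finite R] (hm : Cfsg.IsMetacyclic R) (θ : MulAut R)
    (C : Subgroup R) (hC : C ≤ center R) (hC2 : ∀ c ∈ C, c * c = 1) (hCfix : ∀ c ∈ C, θ c = c)
    (hcomm : ∀ a b : R, ⁅a, b⁆ ∈ C) (hR : IsPGroup 2 R)
    (hgen : ∀ g : R, (g * θ g)⁻¹ * θ (θ g) ∈ frattini R) {n : ℕ} (hn : 2 ≤ n)
    (hpow : ∀ g : R, g ^ (2 ^ n) ∈ C) : Nat.card R ≤ 2 ^ n * 2 ^ n := by
  haveI := Fact.mk Nat.prime_two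
  set m := 2 ^ n with hmdef
  have hcen : ∀ a b g : R, Commute ⁅a, b⁆ g := fun a b g =>
    (mem_center_iff.1 (hC (hcomm a b)) g).symm
  let K : Subgroup R :=
    { carrier := {w | w ∈ center R ∧ w ^ m = 1}
      one_mem' := ⟨one_mem _, one_pow m⟩
      mul_mem' := fun {a b} ha hb => ⟨mul_mem ha.1 hb.1, by
        rw [(show Commute a b from mem_center_iff.1 hb.1 a).mul_pow, ha.2, hb.2, one_mul]⟩
      inv_mem' := fun {a} ha => ⟨inv_mem ha.1, by rw [inv_pow, ha.2, inv_one]⟩ }
  have hmem : ∀ w : R, w ∈ K ↔ w ∈ center R ∧ w ^ m = 1 := fun w => Iff.rfl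
  have hme : (2 : ℕ) ∣ m := dvd_pow_self 2 (by omega)
  haveI hKn : K.Normal := ⟨fun w hw g => by
    rw [mem_center_iff.1 hw.1 g, mul_inv_cancel_right]; exact hw⟩
  have hΦ : frattini R ≤ K := by
    refine CfsgLib.Transfer.frattini_le_of_elementary_quotient (p := 2) K (fun a b => ?_) (fun g => ?_)
    · refine ⟨hC (hcomm a b), ?_⟩
      obtain ⟨t, ht⟩ := hme
      rw [ht, pow_mul, sq, hC2 _ (hcomm a b), one_pow]
    · refine ⟨mem_center_iff.2 fun h => ?_, ?_⟩
      · have h1 : g * h = ⁅g, h⁆ * (h * g) := by rw [commutatorElement_def]; group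
        calc h * g ^ 2 = ⁅g, h⁆ * ⁅g, h⁆ * (h * g ^ 2) := by rw [hC2 _ (hcomm g h), one_mul]
          _ = g * (⁅g, h⁆ * (h * g)) := by
              rw [(hcen g h g).symm.left_comm, ← mul_assoc g h g, h1]; group
          _ = g ^ 2 * h := by rw [← h1, sq, mul_assoc]
      · rw [← pow_mul, mul_comm 2 m, pow_mul, sq]
        exact hC2 _ (hpow g)
  have hall : ∀ g : R, g ^ m = 1 := by
    intro g
    have hfix : ∀ v : R, (θ v) ^ m = v ^ m := fun v => by
      rw [← map_pow]; exact hCfix _ (hpow v)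
    obtain ⟨hwc, hwm⟩ := (hmem _).1 (hΦ (hgen g))
    have e : θ (θ g) = g * θ g * ((g * θ g)⁻¹ * θ (θ g)) := by rw [mul_inv_cancel_left]
    have heven : 2 ∣ m.choose 2 := by
      rw [Nat.choose_two_right, hmdef]
      obtain ⟨n', rfl⟩ : ∃ n', n = n' + 2 := ⟨n - 2, by omega⟩
      rw [show 2 ^ (n' + 2) * (2 ^ (n' + 2) - 1) = 2 * (2 * (2 ^ n' * (2 ^ (n' + 2) - 1))) by ring,
        Nat.mul_div_cancel_left _ two_pos]
      exact dvd_mul_right 2 _
    have hkey := congrArg (· ^ m) e
    rw [(show Commute (g * θ g) ((g * θ g)⁻¹ * θ (θ g)) from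
      mem_center_iff.1 hwc (g * θ g)).mul_pow, hwm, mul_one, hfix, hfix,
      mul_pow_of_central_comm _ _ (hcen _ _), hfix] at hkey
    obtain ⟨t, ht⟩ := heven
    rw [ht, pow_mul, sq, hC2 _ (hcomm _ _), one_pow, mul_one] at hkey
    exact hkey.trans (hC2 _ (hpow g))
  obtain ⟨N, hN, hNc, hQc⟩ := hm
  haveI := hN
  rw [card_eq_card_quotient_mul_card_subgroup N]
  refine Nat.mul_le_mul ?_ ?_
  · obtain ⟨q, hq⟩ := IsCyclic.exists_ofOrder_eq_natCard (α := R ⧸ N)
    rw [← hq]
    refine Nat.le_of_dvd (by positivity) (orderOf_dvd_of_pow_eq_one ?_)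
    obtain ⟨g, rfl⟩ := QuotientGroup.mk_surjective q
    rw [← QuotientGroup.mk_pow, hall, QuotientGroup.mk_one]
  · obtain ⟨q, hq⟩ := IsCyclic.exists_ofOrder_eq_natCard (α := N)
    rw [← hq]
    exact Nat.le_of_dvd (by positivity) (orderOf_dvd_of_pow_eq_one (Subtype.ext (hall q)))

end CfsgLib.PGroup
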