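import Cfsg.Prelude.Def_PLocal
import Mathlib

/-!
Uniserial action of a `p`-group on a `p`-group.
-/

set_option autoImplicit false
set_option linter.style.haveILetI false

namespace CfsgLib.PGroup

open Subgroup
open scoped commutatorElement

variable {L : Type*} [Group L]

theorem mem_normalizer_of_forall_conj {H : Subgroup L} {x : L}
    (h₁ : ∀ h ∈ H, x * h * x⁻¹ ∈ H) (h₂ : ∀ h ∈ H, x⁻¹ * h * x ∈ H) :
    x ∈ Subgroup.normalizer (H : Set L) := by
  rw [mem_normalizer_iff]
  exact fun h => ⟨h₁ h, fun hh => by simpa [mul_assoc] using h₂ _ hh⟩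

theorem le_normalizer_of_forall_conj {H K : Subgroup L} (h : ∀ x ∈ K, ∀ y ∈ H, x * y * x⁻¹ ∈ H) :
    K ≤ Subgroup.normalizer (H : Set L) := fun x hx =>
  mem_normalizer_of_forall_conj (h x hx) fun y hy => by
    simpa using h x⁻¹ (inv_mem hx) y hy

theorem conj_mem_of_mem_normalizer {H : Subgroup L} {x h : L}
    (hx : x ∈ Subgroup.normalizer (H : Set L)) (hh : h ∈ H) : x * h * x⁻¹ ∈ H :=
  (mem_normalizer_iff.1 hx h).1 hh

/-- `⁅H, K⁆` is normalised by `H`. -/
theorem left_le_normalizer_commutator (H K : Subgroup L) :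
    H ≤ Subgroup.normalizer ((⁅H, K⁆ : Subgroup L) : Set L) := by
  refine le_normalizer_of_forall_conj fun h hh y hy => ?_
  have hle : ⁅H, K⁆ ≤ (⁅H, K⁆ : Subgroup L).comap (MulAut.conj h).toMonoidHom := by
    rw [Subgroup.commutator_le]
    intro x hx k hk
    show h * ⁅x, k⁆ * h⁻¹ ∈ (⁅H, K⁆ : Subgroup L)
    rw [show h * ⁅x, k⁆ * h⁻¹ = ⁅h * x, k⁆ * ⁅h, k⁆⁻¹ by simp only [commutatorElement_def]; group]
    exact mul_mem (commutator_mem_commutator (mul_mem hh hx) hk)
      (inv_mem (commutator_mem_commutator hh hk))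
  exact hle hy

theorem right_le_normalizer_commutator (H K : Subgroup L) :
    K ≤ Subgroup.normalizer ((⁅H, K⁆ : Subgroup L) : Set L) := by
  rw [Subgroup.commutator_comm]; exact left_le_normalizer_commutator K H

variable [Finite L] {p : ℕ} [Fact p.Prime] {N G : Subgroup L}

theorem commutator_ne_self (hN : IsPGroup p N) (hG : IsPGroup p G) {H : Subgroup L} (hH : H ≤ N)
    (hGH : G ≤ Subgroup.normalizer (H : Set L)) (hne : H ≠ ⊥) : ⁅H, G⁆ ≠ H := by
  intro he
  have hY : IsPGroup p (H ⊔ G : Subgroup L) :=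
    IsPGroup.to_sup_of_normal_left' (hN.to_le hH) hG hGH
  obtain ⟨c, hc⟩ := (isNilpotent_iff_lowerCentralSeries (H ⊔ G)).1 hY.isNilpotent
  refine hne (eq_bot_iff.2 (hc ▸ ?_))
  clear hc
  induction c with
  | zero => exact le_sup_left
  | succ c ih => exact he.symm.le.trans (commutator_mono ih le_sup_right)

section
variable (hN : IsPGroup p N) (hG : IsPGroup p G) (hGN : G ≤ Subgroup.normalizer (N : Set L))
include hN hG hGN

omit hN hG [Finite L] [Fact p.Prime] in
theorem iterCommutator_invariant (i : ℕ) :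
    Cfsg.iterCommutator N G i ≤ N ∧
      G ≤ Subgroup.normalizer (Cfsg.iterCommutator N G i : Set L) := by
  induction i with
  | zero => exact ⟨le_rfl, hGN⟩
  | succ i ih =>
    exact ⟨(le_normalizer_iff_commutator_le_left.1 ih.2).trans ih.1,
      right_le_normalizer_commutator _ _⟩

omit hN hG [Finite L] [Fact p.Prime] in
theorem iterCommutator_succ_le (i : ℕ) :
    Cfsg.iterCommutator N G (i + 1) ≤ Cfsg.iterCommutator N G i :=
  le_normalizer_iff_commutator_le_left.1 (iterCommutator_invariant hGN i).2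

theorem card_commutator_mul_le {H : Subgroup L} (hH : H ≤ N)
    (hGH : G ≤ Subgroup.normalizer (H : Set L)) (hne : H ≠ ⊥) :
    Nat.card (⁅H, G⁆ : Subgroup L) * p ≤ Nat.card H := by
  have hp := (Fact.out : p.Prime)
  have hle : ⁅H, G⁆ ≤ H := le_normalizer_iff_commutator_le_left.1 hGH
  have hlt : Nat.card (⁅H, G⁆ : Subgroup L) < Nat.card H :=
    lt_of_le_of_ne (card_le_of_le hle) fun h =>
      commutator_ne_self hN hG hH hGH hne (eq_of_le_of_card_ge hle h.ge)
  obtain ⟨u, hu⟩ := (hN.to_le (hle.trans hH)).exists_card_eq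
  obtain ⟨v, hv⟩ := (hN.to_le hH).exists_card_eq
  rw [hu, hv] at hlt ⊢
  rw [← pow_succ]
  exact Nat.pow_le_pow_right hp.pos ((Nat.pow_lt_pow_iff_right hp.one_lt).1 hlt)

/-- If the chain has length `n`, its terms have the expected orders. -/
theorem card_iterCommutator {n : ℕ} (hn : Nat.card N = p ^ n)
    (hbot : Cfsg.iterCommutator N G (n - 1) ≠ ⊥ ∨ n = 0) {i : ℕ} (hi : i ≤ n) :
    Nat.card (Cfsg.iterCommutator N G i) = p ^ (n - i) := by
  have hp := (Fact.out : p.Prime)
  set M := Cfsg.iterCommutator N G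
  have hinv := iterCommutator_invariant (N := N) (G := G) hGN
  rcases Nat.eq_zero_or_pos n with rfl | hn0
  · rw [Nat.le_zero.1 hi]
    exact hn
  have hb : M (n - 1) ≠ ⊥ := hbot.resolve_right (by omega)
  have hne : ∀ i ≤ n - 1, M i ≠ ⊥ := by
    intro i hi he
    apply hb
    obtain ⟨d, hd⟩ := Nat.exists_eq_add_of_le hi
    rw [hd]
    clear hd hi hb
    induction d with
    | zero => exact he
    | succ d ih => exact le_bot_iff.1 ((iterCommutator_succ_le hGN (i + d)).trans ih.le)
  have hstep : ∀ i ≤ n - 1, Nat.card (M (i + 1)) * p ≤ Nat.card (M i) := fun i hi =>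
    card_commutator_mul_le hN hG hGN (hinv i).1 (hinv i).2 (hne i hi)
  have hup : ∀ i ≤ n, Nat.card (M i) * p ^ i ≤ p ^ n := by
    intro i
    induction i with
    | zero =>
      intro _
      rw [pow_zero, mul_one]
      exact hn.le
    | succ i ih =>
      intro hi
      refine le_trans ?_ (ih (by omega))
      rw [pow_succ', ← mul_assoc]
      exact Nat.mul_le_mul_right _ (hstep i (by omega))
  have hlow : ∀ d ≤ n - 1, p ^ (d + 1) ≤ Nat.card (M (n - 1 - d)) := by
    intro d
    induction d with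
    | zero =>
      intro _
      obtain ⟨u, hu⟩ := (hN.to_le (hinv (n - 1)).1).exists_card_eq
      rw [pow_one, Nat.sub_zero, hu]
      refine Nat.le_self_pow (fun h0 => hb ?_) p
      exact Subgroup.card_eq_one.1 (by rw [hu, h0, pow_zero])
    | succ d ih =>
      intro hd
      have h1 := hstep (n - 1 - (d + 1)) (by omega)
      rw [show n - 1 - (d + 1) + 1 = n - 1 - d by omega] at h1
      refine le_trans ?_ h1
      rw [pow_succ]
      exact Nat.mul_le_mul_right _ (ih (by omega))
  rcases eq_or_lt_of_le hi with rfl | hlt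
  · have h := hup i le_rfl
    have := Nat.card_pos (α := M i)
    rw [Nat.sub_self, pow_zero]
    have := Nat.pow_pos (n := i) hp.pos
    nlinarith
  · refine le_antisymm ?_ ?_
    · have h := hup i hi
      conv_rhs at h => rw [← Nat.sub_add_cancel hi, pow_add]
      exact Nat.le_of_mul_le_mul_right h (Nat.pow_pos hp.pos)
    · have h := hlow (n - 1 - i) (by omega)
      rwa [show n - 1 - i + 1 = n - i by omega, show n - 1 - (n - 1 - i) = i by omega] at h

/-- The terms of a chain of length `n` are the only invariant subgroups. -/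
theorem eq_iterCommutator {n : ℕ} (hn : Nat.card N = p ^ n)
    (hbot : Cfsg.iterCommutator N G (n - 1) ≠ ⊥ ∨ n = 0) :
    ∀ d ≤ n, ∀ H : Subgroup L, H ≤ Cfsg.iterCommutator N G (n - d) →
      G ≤ Subgroup.normalizer (H : Set L) →
        ∃ j, n - d ≤ j ∧ j ≤ n ∧ H = Cfsg.iterCommutator N G j := by
  have hp := (Fact.out : p.Prime)
  set M := Cfsg.iterCommutator N G
  have hinv := iterCommutator_invariant (N := N) (G := G) hGN
  have hc := fun {i : ℕ} => card_iterCommutator hN hG hGN hn hbot (i := i)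
  intro d
  induction d with
  | zero =>
    intro _ H hH _
    refine ⟨n, le_rfl, le_rfl, le_antisymm hH ?_⟩
    have h1 : M n = ⊥ := Subgroup.card_eq_one.1 (by rw [hc le_rfl, Nat.sub_self, pow_zero])
    rw [h1]
    exact bot_le
  | succ d ih =>
    intro hd H hH hGH
    set i := n - (d + 1) with hidef
    have hi1 : n - d = i + 1 := by omega
    rw [hi1] at ih
    by_cases hle : H ≤ M (i + 1)
    · obtain ⟨j, h1, h2, h3⟩ := ih (by omega) H hle hGH
      exact ⟨j, by omega, h2, h3⟩
    have hHN : H ≤ N := hH.trans (hinv i).1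
    have hsup : H ⊔ M (i + 1) = M i := by
      refine eq_of_le_of_card_ge (sup_le hH (iterCommutator_succ_le hGN i)) ?_
      obtain ⟨u, hu⟩ := (hN.to_le (sup_le hHN (hinv (i + 1)).1)).exists_card_eq
      have hlt : Nat.card (M (i + 1)) < Nat.card (H ⊔ M (i + 1) : Subgroup L) := by
        refine lt_of_le_of_ne (card_le_of_le le_sup_right) fun h => hle ?_
        rw [eq_of_le_of_card_ge (le_sup_right : M (i + 1) ≤ H ⊔ M (i + 1)) h.ge]
        exact le_sup_left
      rw [hu, hc (by omega : i + 1 ≤ n), Nat.pow_lt_pow_iff_right hp.one_lt] at hlt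
      rw [hu, hc (by omega : i ≤ n)]
      exact Nat.pow_le_pow_right hp.pos (by omega)
    have hKinv : G ≤ Subgroup.normalizer ((H ⊓ M (i + 1) : Subgroup L) : Set L) :=
      le_normalizer_of_forall_conj fun g hg y hy =>
        ⟨conj_mem_of_mem_normalizer (hGH hg) hy.1,
          conj_mem_of_mem_normalizer ((hinv (i + 1)).2 hg) hy.2⟩
    obtain ⟨j, hj1, hj2, hj⟩ := ih (by omega) _ inf_le_right hKinv
    rcases eq_or_lt_of_le hj1 with hje | hjlt
    · refine ⟨i, le_rfl, by omega, ?_⟩
      rw [← hsup]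
      exact (sup_eq_left.2 ((le_of_eq (by rw [hj, ← hje])).trans inf_le_left)).symm
    exfalso
    set T := M (i + 2)
    have hjT : M j ≤ T := by
      have : ∀ e, M (i + 2 + e) ≤ T := by
        intro e
        induction e with
        | zero => exact le_rfl
        | succ e ihe => exact (iterCommutator_succ_le hGN _).trans ihe
      simpa [Nat.add_sub_cancel' (by omega : i + 2 ≤ j)] using this (j - (i + 2))
    have hHT : ∀ x ∈ H, ∀ g ∈ G, ⁅x, g⁆ ∈ T := fun x hx g hg => by
      refine hjT (hj ▸ ⟨?_, ?_⟩)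
      · exact le_normalizer_iff_commutator_le_left.1 hGH (commutator_mem_commutator hx hg)
      · exact commutator_mem_commutator (hH hx) hg
    have hMT : M (i + 1) ≤ Subgroup.normalizer (T : Set L) := left_le_normalizer_commutator _ _
    have hHn : H ≤ Subgroup.normalizer (T : Set L) := by
      refine le_normalizer_of_forall_conj fun x hx y hy => ?_
      have hle' : T ≤ T.comap (MulAut.conj x).toMonoidHom := by
        show ⁅M (i + 1), G⁆ ≤ _
        rw [Subgroup.commutator_le]
        intro m hm g hg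
        show x * ⁅m, g⁆ * x⁻¹ ∈ T
        have hm' : x * m * x⁻¹ ∈ M (i + 1) :=
          conj_mem_of_mem_normalizer (left_le_normalizer_commutator (M i) G (hH hx)) hm
        have hcT := hHT x hx g hg
        rw [show x * ⁅m, g⁆ * x⁻¹ = ((x * m * x⁻¹) * ⁅x, g⁆ * (x * m * x⁻¹)⁻¹ * ⁅x, g⁆⁻¹) *
          (⁅x, g⁆ * ⁅x * m * x⁻¹, g⁆ * ⁅x, g⁆⁻¹) by simp only [commutatorElement_def]; group]
        refine mul_mem (mul_mem (conj_mem_of_mem_normalizer (hMT hm') hcT) (inv_mem hcT))
          (mul_mem (mul_mem hcT ?_) (inv_mem hcT))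
        exact commutator_mem_commutator hm' hg
      exact hle' hy
    let S : Subgroup L :=
      { carrier := {a | a ∈ Subgroup.normalizer (T : Set L) ∧ ∀ g ∈ G, ⁅a, g⁆ ∈ T}
        one_mem' := ⟨one_mem _, fun g _ => by rw [commutatorElement_one_left]; exact one_mem T⟩
        mul_mem' := fun {a b} ha hb => ⟨mul_mem ha.1 hb.1, fun g hg => by
          rw [show ⁅a * b, g⁆ = a * ⁅b, g⁆ * a⁻¹ * ⁅a, g⁆ by
            simp only [commutatorElement_def]; group]
          exact mul_mem (conj_mem_of_mem_normalizer ha.1 (hb.2 g hg)) (ha.2 g hg)⟩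
        inv_mem' := fun {a} ha => ⟨inv_mem ha.1, fun g hg => by
          rw [show ⁅a⁻¹, g⁆ = a⁻¹ * ⁅a, g⁆⁻¹ * a⁻¹⁻¹ by simp only [commutatorElement_def]; group]
          exact conj_mem_of_mem_normalizer (inv_mem ha.1) (inv_mem (ha.2 g hg))⟩ }
    have hS : H ⊔ M (i + 1) ≤ S :=
      sup_le (fun x hx => ⟨hHn hx, hHT x hx⟩)
        fun m hm => ⟨hMT hm, fun g hg => commutator_mem_commutator hm hg⟩
    have hfin : M (i + 1) ≤ T := by
      show ⁅M i, G⁆ ≤ T
      rw [← hsup, Subgroup.commutator_le]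
      exact fun a ha g hg => (hS ha).2 g hg
    have h2 := card_le_of_le hfin
    rw [hc (by omega : i + 1 ≤ n), hc (by omega : i + 2 ≤ n),
      Nat.pow_le_pow_iff_right hp.one_lt] at h2
    omega

/-- Each term of a chain of length `n` is normal in `N`. -/
theorem iterCommutator_normal {n : ℕ} (hn : Nat.card N = p ^ n)
    (hbot : Cfsg.iterCommutator N G (n - 1) ≠ ⊥ ∨ n = 0) {i : ℕ} (hi : i ≤ n) :
    N ≤ Subgroup.normalizer (Cfsg.iterCommutator N G i : Set L) := by
  have hp := (Fact.out : p.Prime)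
  set M := Cfsg.iterCommutator N G
  have hinv := iterCommutator_invariant (N := N) (G := G) hGN
  have hc := fun {i : ℕ} => card_iterCommutator hN hG hGN hn hbot (i := i)
  suffices key : ∀ d ≤ i, M (i - d) ≤ Subgroup.normalizer (M i : Set L) by
    simpa [M, Cfsg.iterCommutator] using key i le_rfl
  intro d
  induction d with
  | zero => intro _; exact Subgroup.le_normalizer
  | succ d ih =>
    intro hd x hx
    set j := i - (d + 1)
    have hj : i - d = j + 1 := by omega
    rw [hj] at ih
    have hMj := ih (by omega)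
    set H := (M i).map (MulAut.conj x).toMonoidHom
    have hxN : x ∈ N := (hinv j).1 hx
    have hHN : H ≤ N := by
      rintro _ ⟨y, hy, rfl⟩
      exact mul_mem (mul_mem hxN ((hinv i).1 hy)) (inv_mem hxN)
    have hHinv : G ≤ Subgroup.normalizer (H : Set L) := by
      refine le_normalizer_of_forall_conj fun g hg => ?_
      rintro _ ⟨y, hy, rfl⟩
      have hu : x⁻¹ * ⁅g, x⁆ * x ∈ M (j + 1) := by
        have h1 : ⁅g, x⁆ ∈ M (j + 1) := by
          rw [← commutatorElement_inv]; exact inv_mem (commutator_mem_commutator hx hg)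
        show x⁻¹ * ⁅g, x⁆ * x ∈ ⁅M j, G⁆
        simpa using conj_mem_of_mem_normalizer (left_le_normalizer_commutator (M j) G
          (inv_mem hx)) h1
      refine ⟨(x⁻¹ * ⁅g, x⁆ * x) * (g * y * g⁻¹) * (x⁻¹ * ⁅g, x⁆ * x)⁻¹,
        conj_mem_of_mem_normalizer (hMj hu) (conj_mem_of_mem_normalizer ((hinv i).2 hg) hy), ?_⟩
      simp only [MulEquiv.coe_toMonoidHom, MulAut.conj_apply, commutatorElement_def]
      group
    obtain ⟨k, -, hk, hHk⟩ := eq_iterCommutator hN hG hGN hn hbot n le_rfl H
      (by rw [Nat.sub_self]; exact hHN) hHinv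
    have hki : k = i := by
      have h1 : Nat.card H = Nat.card (M i) :=
        card_map_of_injective (MulAut.conj x).injective
      rw [hHk, hc hk, hc hi] at h1
      have := Nat.pow_right_injective hp.two_le h1
      omega
    rw [hki] at hHk
    refine mem_normalizer_of_forall_conj (fun y hy => ?_) fun y hy => ?_
    · exact hHk.le ⟨y, hy, rfl⟩
    · obtain ⟨z, hz, hzy⟩ := hHk.ge hy
      rw [← hzy]
      simpa [mul_assoc] using hz

end

end CfsgLib.PGroup
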