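import Cfsg.Prelude.Def_PLocal
import Cfsg.Agent.Lib.StructC.Regular

/-!
Powers in regular `p`-groups: the `p ^ n`-th powers of a subgroup form a subgroup, the
characterisation of regularity by `p`-th powers, and regular 2-groups are abelian.
-/

set_option autoImplicit false
set_option linter.style.haveILetI false

namespace CfsgLib.PGroup

open Subgroup
open scoped commutatorElement

variable {G : Type*} [Group G] {p : ℕ}

theorem conj_mem_powerClosure {k : ℕ} {H : Subgroup G} {g c : G}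
    (hg : ∀ h : G, h ∈ H → g * h * g⁻¹ ∈ H) (hc : c ∈ Cfsg.powerClosure p k H) :
    g * c * g⁻¹ ∈ Cfsg.powerClosure p k H := by
  have h : Cfsg.powerClosure p k H ≤
      (Cfsg.powerClosure p k H).comap (MulAut.conj g).toMonoidHom := by
    rw [Cfsg.powerClosure, closure_le]
    rintro _ ⟨x, hx, rfl⟩
    show g * x ^ p ^ k * g⁻¹ ∈ closure {y : G | ∃ x ∈ H, y = x ^ p ^ k}
    exact subset_closure ⟨g * x * g⁻¹, hg x hx, conj_pow.symm⟩
  exact h hc

theorem powerClosure_le (k : ℕ) (H : Subgroup G) : Cfsg.powerClosure p k H ≤ H := by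
  rw [Cfsg.powerClosure, closure_le]
  rintro _ ⟨x, hx, rfl⟩
  exact pow_mem hx _

theorem powerClosure_mono (k : ℕ) {H K : Subgroup G} (h : H ≤ K) :
    Cfsg.powerClosure p k H ≤ Cfsg.powerClosure p k K :=
  closure_mono fun _ ⟨x, hx, he⟩ => ⟨x, h hx, he⟩

theorem pow_mem_powerClosure (k : ℕ) {H : Subgroup G} {x : G} (hx : x ∈ H) :
    x ^ p ^ k ∈ Cfsg.powerClosure p k H :=
  subset_closure ⟨x, hx, rfl⟩

theorem conj_mem_derived {H : Subgroup G} {g c : G} (hg : g ∈ H) (hc : c ∈ ⁅H, H⁆) :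
    g * c * g⁻¹ ∈ ⁅H, H⁆ := by
  have h : ⁅H, H⁆ ≤ (⁅H, H⁆ : Subgroup G).comap (MulAut.conj g).toMonoidHom := by
    rw [Subgroup.commutator_le]
    intro x hx y hy
    show g * ⁅x, y⁆ * g⁻¹ ∈ (⁅H, H⁆ : Subgroup G)
    rw [show g * ⁅x, y⁆ * g⁻¹ = ⁅g * x * g⁻¹, g * y * g⁻¹⁆ by
      simp only [commutatorElement_def]; group]
    exact commutator_mem_commutator (mul_mem (mul_mem hg hx) (inv_mem hg))
      (mul_mem (mul_mem hg hy) (inv_mem hg))
  exact h hc

/-- The condition defining regularity at level `k`, up to congruence. -/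
def PowLaw (p : ℕ) (G : Type*) [Group G] (k : ℕ) : Prop :=
  ∀ a b : G, ∃ c ∈ Cfsg.powerClosure p k ⁅closure ({a, b} : Set G), closure ({a, b} : Set G)⁆,
    (a * b) ^ p ^ k = a ^ p ^ k * b ^ p ^ k * c

variable [Finite G] [Fact p.Prime]

theorem powLaw_mul_eq_pow (hG : IsPGroup p G) {k : ℕ} (hk : PowLaw p G k) (a b : G) :
    ∃ x ∈ closure ({a, b} : Set G), a ^ p ^ k * b ^ p ^ k = x ^ p ^ k := by
  induction hm : Nat.card (closure ({a, b} : Set G)) using Nat.strong_induction_on
    generalizing a b with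
  | _ m ih =>
    subst hm
    set K := closure ({a, b} : Set G) with hKdef
    have haK : a ∈ K := subset_closure (Set.mem_insert a {b})
    have hbK : b ∈ K := subset_closure (Set.mem_insert_of_mem a rfl)
    by_cases hab : a * b = b * a
    · exact ⟨a * b, mul_mem haK hbK, ((show Commute a b from hab).mul_pow _).symm⟩
    have hKne : K ≠ ⊥ := fun h => hab (by
      rw [h, mem_bot] at haK
      rw [haK, one_mul, mul_one])
    have hsmall : ∀ u v : G, ∀ H : Subgroup G, u ∈ H → v ∈ H → Nat.card H < Nat.card K →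
        ∃ x ∈ H, u ^ p ^ k * v ^ p ^ k = x ^ p ^ k := by
      intro u v H hu hv hlt
      have hle : closure ({u, v} : Set G) ≤ H := by
        rw [closure_le]
        rintro z (rfl | rfl) <;> assumption
      obtain ⟨x, hx, he⟩ := ih _ (lt_of_le_of_lt (card_le_of_le hle) hlt) u v rfl
      exact ⟨x, hle hx, he⟩
    have hD := CfsgLib.StructC.card_derived_lt hG hKne
    obtain ⟨c, hc, he⟩ := hk a b
    obtain ⟨z, hz, rfl⟩ : ∃ z ∈ ⁅K, K⁆, c = z ^ p ^ k := by
      clear he
      rw [Cfsg.powerClosure] at hc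
      induction hc using Subgroup.closure_induction with
      | mem x hx => exact hx
      | one => exact ⟨1, one_mem _, (one_pow _).symm⟩
      | mul x y _ _ hx hy =>
        obtain ⟨u, hu, rfl⟩ := hx
        obtain ⟨v, hv, rfl⟩ := hy
        exact hsmall u v _ hu hv hD
      | inv x _ hx =>
        obtain ⟨u, hu, rfl⟩ := hx
        exact ⟨u⁻¹, inv_mem hu, (inv_pow _ _).symm⟩
    -- a proper subgroup containing `ab` and the derived subgroup
    have hzK : z ∈ K := commutator_le_self K hz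
    let H := (zpowers (⟨a * b, mul_mem haK hbK⟩ : K) ⊔ frattini K).map K.subtype
    have hlt : Nat.card H < Nat.card K := by
      refine lt_of_le_of_ne (card_le_of_le (map_subtype_le _)) fun h => hab ?_
      have htop : H = K := eq_of_le_of_card_ge (map_subtype_le _) h.ge
      have htop' : zpowers (⟨a * b, mul_mem haK hbK⟩ : K) ⊔ frattini K = ⊤ := by
        apply map_injective K.subtype_injective
        rw [← MonoidHom.range_eq_map, range_subtype]
        exact htop
      have hcyc := frattini_nongenerating htop'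
      obtain ⟨i, hi⟩ := mem_zpowers_iff.1 (hcyc ▸ mem_top (⟨a, haK⟩ : K))
      have hi' : (a * b) ^ i = a := congrArg Subtype.val hi
      have h1 : a * (a * b) = a * b * a :=
        calc a * (a * b) = (a * b) ^ i * (a * b) := by rw [hi']
          _ = a * b * (a * b) ^ i := (((Commute.refl (a * b)).zpow_right i).symm).eq
          _ = a * b * a := by rw [hi']
      rw [mul_assoc] at h1
      exact mul_left_cancel h1
    have h1 : a * b ∈ H :=
      ⟨⟨a * b, mul_mem haK hbK⟩, mem_sup_left (mem_zpowers _), rfl⟩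
    have h2 : z⁻¹ ∈ H := by
      refine inv_mem ⟨⟨z, hzK⟩, mem_sup_right ?_, rfl⟩
      have hz' : (⟨z, hzK⟩ : K) ∈ commutator K := by
        rw [← map_subtype_commutator] at hz
        obtain ⟨w, hw, hwz⟩ := hz
        rwa [show (⟨z, hzK⟩ : K) = w from Subtype.ext hwz.symm]
      have hle : commutator K ≤ frattini K := by
        rw [commutator_eq_closure, closure_le]
        rintro _ ⟨u, v, rfl⟩
        have h := CfsgLib.StructC.comm_mem_frattini (hG.to_subgroup K) u⁻¹ v⁻¹
        simpa [commutatorElement_def, mul_assoc] using h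
      exact hle hz'
    obtain ⟨x, hx, hxe⟩ := hsmall (a * b) z⁻¹ H h1 h2 hlt
    refine ⟨x, map_subtype_le _ hx, ?_⟩
    rw [← hxe, inv_pow, he, mul_inv_cancel_right]

theorem powerClosure_eq_setOf (hG : IsPGroup p G) {k : ℕ} (hk : PowLaw p G k) (H : Subgroup G) :
    (Cfsg.powerClosure p k H : Set G) = {y : G | ∃ x ∈ H, y = x ^ p ^ k} := by
  refine Set.Subset.antisymm (fun y hy => ?_) fun y hy => subset_closure hy
  rw [SetLike.mem_coe, Cfsg.powerClosure] at hy
  induction hy using Subgroup.closure_induction with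
  | mem x hx => exact hx
  | one => exact ⟨1, one_mem _, (one_pow _).symm⟩
  | mul x y _ _ hx hy =>
    obtain ⟨u, hu, rfl⟩ := hx
    obtain ⟨v, hv, rfl⟩ := hy
    obtain ⟨w, hw, he⟩ := powLaw_mul_eq_pow hG hk u v
    refine ⟨w, ?_, he⟩
    refine (closure_le _).2 ?_ hw
    rintro z (rfl | rfl) <;> assumption
  | inv x _ hx =>
    obtain ⟨u, hu, rfl⟩ := hx
    exact ⟨u⁻¹, inv_mem hu, (inv_pow _ _).symm⟩

theorem commutator_powerClosure_le (hG : IsPGroup p G) {k : ℕ} (hk : PowLaw p G k)
    (H : Subgroup G) :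
    ⁅Cfsg.powerClosure p k H, Cfsg.powerClosure p k H⁆ ≤ Cfsg.powerClosure p k ⁅H, H⁆ := by
  set N := Cfsg.powerClosure p k ⁅H, H⁆
  rw [Subgroup.commutator_le]
  intro u hu v hv
  rw [← SetLike.mem_coe, powerClosure_eq_setOf hG hk] at hu
  obtain ⟨x, hx, rfl⟩ := hu
  have hvH : v ∈ H := powerClosure_le k H hv
  obtain ⟨c, hc, he⟩ := hk x (v * x⁻¹ * v⁻¹)
  have hx' : v * x⁻¹ * v⁻¹ ∈ H := mul_mem (mul_mem hvH (inv_mem hx)) (inv_mem hvH)
  have hle : closure ({x, v * x⁻¹ * v⁻¹} : Set G) ≤ H := by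
    rw [closure_le]
    rintro z (rfl | rfl) <;> assumption
  have e : ⁅x ^ p ^ k, v⁆ = (x * (v * x⁻¹ * v⁻¹)) ^ p ^ k * c⁻¹ := by
    rw [he, conj_pow, inv_pow, commutatorElement_def]
    group
  rw [e]
  refine mul_mem (pow_mem_powerClosure k ?_)
    (inv_mem (powerClosure_mono k (commutator_mono hle hle) hc))
  rw [show x * (v * x⁻¹ * v⁻¹) = ⁅x, v⁆ by rw [commutatorElement_def]; group]
  exact commutator_mem_commutator hx hvH

/-- A group satisfying the `p`-th power law satisfies all `p ^ n`-th power laws. -/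
theorem powLaw_all (hG : IsPGroup p G) (h1 : PowLaw p G 1) : ∀ n, PowLaw p G n
  | 0 => fun a b => ⟨1, one_mem _, by simp⟩
  | n + 1 => by
    intro a b
    have hn := powLaw_all hG h1 n
    set K := closure ({a, b} : Set G) with hKdef
    have haK : a ∈ K := subset_closure (Set.mem_insert a {b})
    have hbK : b ∈ K := subset_closure (Set.mem_insert_of_mem a rfl)
    obtain ⟨c, hc, he⟩ := h1 a b
    rw [← SetLike.mem_coe, powerClosure_eq_setOf hG h1] at hc
    obtain ⟨z, hz, rfl⟩ := hc
    have hzK : z ∈ K := commutator_le_self K hz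
    simp only [pow_one] at he
    set N := Cfsg.powerClosure p (n + 1) ⁅K, K⁆
    have hN : ∀ {g c : G}, g ∈ K → c ∈ N → g * c * g⁻¹ ∈ N := fun hg hc =>
      conj_mem_powerClosure (fun h hh => conj_mem_derived hg hh) hc
    have key : ∀ u v : G, u ∈ Cfsg.powerClosure p 1 K → v ∈ Cfsg.powerClosure p 1 K →
        ∃ c ∈ N, (u * v) ^ p ^ n = u ^ p ^ n * v ^ p ^ n * c := by
      intro u v hu hv
      obtain ⟨c, hc, he⟩ := hn u v
      refine ⟨c, ?_, he⟩
      have hle : closure ({u, v} : Set G) ≤ Cfsg.powerClosure p 1 K := by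
        rw [closure_le]
        rintro w (rfl | rfl) <;> assumption
      have h2 := powerClosure_mono n
        ((commutator_mono hle hle).trans (commutator_powerClosure_le hG h1 K)) hc
      refine (closure_le _).2 ?_ h2
      rintro _ ⟨w, hw, rfl⟩
      rw [← SetLike.mem_coe, powerClosure_eq_setOf hG h1] at hw
      obtain ⟨t, ht, rfl⟩ := hw
      refine subset_closure ⟨t, ht, ?_⟩
      rw [← pow_mul, ← pow_add, add_comm]
    have hpow : ∀ {w : G}, w ∈ K → w ^ p ∈ Cfsg.powerClosure p 1 K := fun {w} hw => by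
      simpa using pow_mem_powerClosure (p := p) 1 hw
    obtain ⟨c₁, hc₁, e₁⟩ := key (a ^ p * b ^ p) (z ^ p)
      (mul_mem (hpow haK) (hpow hbK)) (hpow hzK)
    obtain ⟨c₂, hc₂, e₂⟩ := key (a ^ p) (b ^ p) (hpow haK) (hpow hbK)
    have hz' : (z ^ p) ^ p ^ n ∈ N := by
      rw [← pow_mul, ← pow_succ']
      exact pow_mem_powerClosure (n + 1) hz
    refine ⟨c₂ * (z ^ p) ^ p ^ n * c₁, mul_mem (mul_mem hc₂ hz') hc₁, ?_⟩
    rw [pow_succ', pow_mul, pow_mul, pow_mul, he, e₁, e₂]
    simp only [mul_assoc]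

omit [Finite G] [Fact p.Prime] in
theorem powLaw_of_regular (hG : Cfsg.IsRegularPGroup p G) (k : ℕ) : PowLaw p G k :=
  fun a b => hG.2 a b k

omit [Finite G] [Fact p.Prime] in
/-- If the generators of `K` commute modulo a subgroup `M` of `K` normalised by `K`, then
`⁅K, K⁆ ≤ M`. -/
theorem derived_closure_pair_le {a b : G} {M : Subgroup G}
    (hM : ∀ g ∈ closure ({a, b} : Set G), ∀ m ∈ M, g * m * g⁻¹ ∈ M)
    (hab : ⁅a, b⁆ ∈ M) : ⁅closure ({a, b} : Set G), closure ({a, b} : Set G)⁆ ≤ M := by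
  set K := closure ({a, b} : Set G)
  have hba : ⁅b, a⁆ ∈ M := by rw [← commutatorElement_inv]; exact inv_mem hab
  have key : ∀ s, s = a ∨ s = b → ∀ x ∈ K, ⁅x, s⁆ ∈ M := by
    intro s hs x hx
    induction hx using Subgroup.closure_induction with
    | mem y hy =>
      rcases hs with rfl | rfl <;> rcases hy with rfl | hy
      · rw [commutatorElement_self]; exact one_mem M
      · obtain rfl : y = b := hy; exact hba
      · exact hab
      · obtain rfl : y = s := hy
        rw [commutatorElement_self]; exact one_mem M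
    | one => rw [commutatorElement_one_left]; exact one_mem M
    | mul x y hx hy ihx ihy =>
      rw [show ⁅x * y, s⁆ = x * ⁅y, s⁆ * x⁻¹ * ⁅x, s⁆ by simp only [commutatorElement_def]; group]
      exact mul_mem (hM x hx _ ihy) ihx
    | inv x hx ihx =>
      rw [show ⁅x⁻¹, s⁆ = x⁻¹ * ⁅x, s⁆⁻¹ * x⁻¹⁻¹ by simp only [commutatorElement_def]; group]
      exact hM _ (inv_mem hx) _ (inv_mem ihx)
  rw [Subgroup.commutator_le]
  intro x hx y hy
  induction hy using Subgroup.closure_induction generalizing x with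
  | mem z hz => exact key z (by simpa using hz) x hx
  | one => rw [commutatorElement_one_right]; exact one_mem M
  | mul y z hy hz ihy ihz =>
    rw [show ⁅x, y * z⁆ = ⁅x, y⁆ * (y * ⁅x, z⁆ * y⁻¹) by simp only [commutatorElement_def]; group]
    exact mul_mem (ihy x hx) (hM y hy _ (ihz x hx))
  | inv y hy ihy =>
    rw [show ⁅x, y⁻¹⁆ = y⁻¹ * ⁅x, y⁆⁻¹ * y⁻¹⁻¹ by simp only [commutatorElement_def]; group]
    exact hM _ (inv_mem hy) _ (inv_mem (ihy x hx))

/-- A regular 2-group is abelian. -/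
theorem comm_of_regular_two {G : Type*} [Group G] [Finite G] (hG : Cfsg.IsRegularPGroup 2 G)
    (a b : G) : a * b = b * a := by
  haveI : Fact (Nat.Prime 2) := ⟨Nat.prime_two⟩
  by_contra hne
  set K := closure ({a, b} : Set G) with hKdef
  have haK : a ∈ K := subset_closure (Set.mem_insert a {b})
  have hbK : b ∈ K := subset_closure (Set.mem_insert_of_mem a rfl)
  obtain ⟨c, hc, he⟩ := hG.2 a b 1
  simp only [pow_one] at he
  set M := Cfsg.powerClosure 2 1 ⁅K, K⁆
  have hMn : ∀ g ∈ K, ∀ m ∈ M, g * m * g⁻¹ ∈ M := fun g hg m hm =>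
    conj_mem_powerClosure (fun h hh => conj_mem_derived hg hh) hm
  have hab : ⁅b, a⁆ ∈ M := by
    have h1 : ⁅b, a⁆ = (a * b * b) * c * (a * b * b)⁻¹ := by
      have h2 : c = (a ^ 2 * b ^ 2)⁻¹ * (a * b) ^ 2 := by rw [he]; group
      rw [h2, commutatorElement_def, pow_two, pow_two, pow_two]
      group
    rw [h1]
    exact hMn _ (mul_mem (mul_mem haK hbK) hbK) c hc
  have hle : ⁅K, K⁆ ≤ M := derived_closure_pair_le hMn (by
    rw [← commutatorElement_inv]; exact inv_mem hab)
  set D := ⁅K, K⁆ with hD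
  have hMΦ : M ≤ (frattini D).map D.subtype := by
    simp only [M, Cfsg.powerClosure]
    rw [closure_le]
    rintro _ ⟨x, hx, rfl⟩
    refine ⟨(⟨x, hx⟩ : D) ^ (2 ^ 1), ?_, rfl⟩
    rw [pow_one]
    exact CfsgLib.StructC.pow_mem_frattini (hG.1.to_subgroup D) _
  have htop : frattini D = ⊤ := by
    apply map_injective D.subtype_injective
    rw [← MonoidHom.range_eq_map, range_subtype]
    exact le_antisymm (map_subtype_le _) (hle.trans hMΦ)
  haveI : Nontrivial D := (nontrivial_iff_ne_bot D).2 fun h => hne (by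
    have h1 : ⁅a, b⁆ ∈ D := commutator_mem_commutator haK hbK
    rwa [h, mem_bot, commutatorElement_eq_one_iff_mul_comm] at h1)
  exact CfsgLib.StructC.frattini_ne_top_of_nontrivial htop

end CfsgLib.PGroup
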