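import Cfsg.Prelude.Def_PLocal
import Cfsg.Agent.Lib.Transfer.ClassTwo
import Cfsg.Agent.Lib.Transfer.Frobenius

/-!
For `Inn P ≤ G ≤ Aut P` a `G`-invariant subgroup `D ≤ [P, O^p G]` of exponent `p` (`4`) with
`[D, P] ≤ Z(D)` on which `p'`-elements of `G` act faithfully.
-/

set_option autoImplicit false
set_option linter.style.haveILetI false

namespace CfsgLib.PGroup

open Subgroup
open scoped commutatorElement

variable {P : Type*} [Group P]

theorem commute_of_fixed {α : MulAut P} {x c : P} (hc : α c = c) (hxc : α ⁅x, c⁆ = ⁅x, c⁆) :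
    Commute (x⁻¹ * α x) c := by
  rw [map_commutatorElement, hc] at hxc
  simp only [commutatorElement_def] at hxc
  have h : α x * c * (α x)⁻¹ = x * c * x⁻¹ := mul_right_cancel hxc
  show x⁻¹ * α x * c = c * (x⁻¹ * α x)
  calc x⁻¹ * α x * c = x⁻¹ * (α x * c * (α x)⁻¹) * α x := by group
    _ = c * (x⁻¹ * α x) := by rw [h]; group

variable [Finite P] {p : ℕ} [Fact p.Prime]

/-- An automorphism of order prime to `p` fixing the difference `x⁻¹ α x` fixes `x`. -/
theorem eq_of_fixed_diff (hP : IsPGroup p P) {α : MulAut P} (hα : (orderOf α).Coprime p) {x : P}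
    (hu : α (x⁻¹ * α x) = x⁻¹ * α x) : α x = x := by
  set u := x⁻¹ * α x with hudef
  have hpow : ∀ k : ℕ, (α ^ k) x = x * u ^ k := by
    intro k
    induction k with
    | zero => simp
    | succ k ih =>
      rw [pow_succ' α, MulAut.mul_apply, ih, map_mul, map_pow, hu, pow_succ', ← mul_assoc]
      congr 1
      rw [hudef]; group
  have h1 : u ^ orderOf α = 1 := by
    have h := hpow (orderOf α)
    rw [pow_orderOf_eq_one, MulAut.one_apply] at h
    exact mul_left_cancel (a := x) (by rw [← h, mul_one])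
  obtain ⟨k, hk⟩ := hP u
  have h2 : orderOf u = 1 := Nat.eq_one_of_dvd_coprimes (Nat.Coprime.pow_right k hα)
    (orderOf_dvd_of_pow_eq_one h1) (orderOf_dvd_of_pow_eq_one hk)
  rw [orderOf_eq_one_iff, hudef, inv_mul_eq_one] at h2
  exact h2.symm

set_option maxHeartbeats 2000000 in
theorem exists_critical_invariant (hP : IsPGroup p P) (G : Subgroup (MulAut P))
    (hG : ∀ g : P, MulAut.conj g ∈ G) :
    ∃ D : Subgroup P, (∀ α ∈ G, D.map α.toMonoidHom = D) ∧
      D ≤ closure {y : P | ∃ α ∈ Cfsg.pResidual p ↥G, ∃ x : P, y = x⁻¹ * (α : MulAut P) x} ∧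
      (∀ d ∈ D, d ^ p = 1 ∨ (p = 2 ∧ d ^ 4 = 1)) ∧
      ⁅D, (⊤ : Subgroup P)⁆ ≤ D ⊓ centralizer (D : Set P) ∧
      (∀ α ∈ G, (orderOf α).Coprime p → (∀ d ∈ D, α d = d) → α = 1) ∧
      ∀ A : Subgroup P, A ≤ D → IsMulCommutative ↥A →
        (∀ B : Subgroup P, A ≤ B → B ≤ D → IsMulCommutative ↥B → B = A) →
        A.Normal ∧ ∀ α ∈ G, (∀ a ∈ A, α a = a) → ∃ k : ℕ, orderOf α = p ^ k := by
  classical
  have hp := (Fact.out : p.Prime)
  set R := closure {y : P | ∃ α ∈ Cfsg.pResidual p ↥G, ∃ x : P, y = x⁻¹ * (α : MulAut P) x} with hR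
  obtain ⟨e, he, hpe⟩ : ∃ e : ℕ, (e = p ∧ p ≠ 2 ∨ e = 4 ∧ p = 2) ∧ p ∣ e := by
    rcases eq_or_ne p 2 with h | h
    · exact ⟨4, Or.inr ⟨rfl, h⟩, h ▸ ⟨2, rfl⟩⟩
    · exact ⟨p, Or.inl ⟨rfl, h⟩, dvd_rfl⟩
  let Inv : Subgroup P → Prop := fun D => ∀ α ∈ G, ∀ d ∈ D, α d ∈ D
  have hInvN : ∀ {D}, Inv D → D.Normal := fun hD => ⟨fun d hd g => hD _ (hG g) d hd⟩
  obtain ⟨D, -, hD⟩ := Finite.exists_le_maximal
    (p := fun D : Subgroup P => D ≤ R ∧ Inv D ∧ (∀ d ∈ D, d ^ e = 1) ∧
      ∀ d ∈ D, ∀ g : P, ⁅d, g⁆ ∈ centralizer (D : Set P)) (a := ⊥)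
    ⟨bot_le, fun α _ d hd => by rw [mem_bot.1 hd, map_one]; exact one_mem _,
      fun d hd => by rw [mem_bot.1 hd, one_pow],
      fun d hd g => by rw [mem_bot.1 hd, commutatorElement_one_left]; exact one_mem _⟩
  obtain ⟨hDR, hDi, hDe, hDc⟩ := hD.prop
  haveI := hInvN hDi
  have hDD : ∀ d ∈ D, ∀ g : P, ⁅d, g⁆ ∈ D := fun d hd g => by
    have h := mul_mem hd ((inferInstance : D.Normal).conj_mem _ (inv_mem hd) g)
    simpa [commutatorElement_def, mul_assoc] using h
  -- `p'`-elements fixing `D` are trivial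
  have hdet : ∀ α ∈ G, (orderOf α).Coprime p → (∀ d ∈ D, α d = d) → α = 1 := by
    intro α₀ hα₀G hα₀p hα₀D
    by_contra hne
    let S : Set (MulAut P) := {α | α ∈ G ∧ (orderOf α).Coprime p ∧ ∀ d ∈ D, α d = d}
    have hSR : ∀ α ∈ S, ∀ x, x⁻¹ * α x ∈ R := fun α hα x => by
      refine subset_closure ⟨⟨α, hα.1⟩, subset_closure ?_, x, rfl⟩
      show (orderOf (⟨α, hα.1⟩ : G)).Coprime p
      rw [← Subgroup.orderOf_coe]
      exact hα.2.1
    have hSconj : ∀ α ∈ S, ∀ β ∈ G, β * α * β⁻¹ ∈ S := fun α hα β hβ => by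
      refine ⟨mul_mem (mul_mem hβ hα.1) (inv_mem hβ), ?_, fun d hd => ?_⟩
      · rw [show β * α * β⁻¹ = MulAut.conj β α from rfl, MulEquiv.orderOf_eq]
        exact hα.2.1
      · rw [MulAut.mul_apply, MulAut.mul_apply, hα.2.2 _ (hDi _ (inv_mem hβ) d hd),
          ← MulAut.mul_apply, mul_inv_cancel, MulAut.one_apply]
    have hinvc : ∀ (T : Set P), (∀ β ∈ G, ∀ t ∈ T, β t ∈ T) → Inv (closure T) := by
      intro T hT β hβ d hd
      have h : closure T ≤ (closure T).comap β.toMonoidHom := by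
        rw [closure_le]; exact fun t ht => subset_closure (hT β hβ t ht)
      exact h hd
    have hRi : Inv R := hinvc _ (by
      rintro β hβ _ ⟨α, hα, x, rfl⟩
      have hn : (Cfsg.pResidual p ↥G).Normal := by
        refine ⟨fun a ha g => ?_⟩
        have h : Cfsg.pResidual p ↥G ≤
            (Cfsg.pResidual p ↥G).comap (MulAut.conj g).toMonoidHom := by
          rw [Cfsg.pResidual, closure_le]
          intro b hb
          refine subset_closure ?_
          show (orderOf (MulAut.conj g b)).Coprime p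
          rw [MulEquiv.orderOf_eq]; exact hb
        exact h ha
      refine ⟨⟨β, hβ⟩ * α * ⟨β, hβ⟩⁻¹, hn.conj_mem α hα _, β x, ?_⟩
      simp)
    obtain ⟨Q, -, hQ⟩ := exists_minimal_le_of_wellFoundedLT
      (P := fun Q : Subgroup P => Q ≤ R ∧ Inv Q ∧ ∃ α ∈ S, ∃ x ∈ Q, α x ≠ x) R
      ⟨le_rfl, hRi, α₀, ⟨hα₀G, hα₀p, hα₀D⟩, by
        by_contra! hall
        exact hne (MulEquiv.ext fun x => eq_of_fixed_diff hP hα₀p
          (hall _ (hSR α₀ ⟨hα₀G, hα₀p, hα₀D⟩ x)))⟩
    obtain ⟨hQR, hQi, α₁, hα₁, x₁, hx₁, hx₁α⟩ := hQ.prop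
    haveI := hInvN hQi
    have hmin : ∀ T : Subgroup P, T ≤ Q → Inv T → T ≠ Q → ∀ α ∈ S, ∀ t ∈ T, α t = t := by
      intro T hT hTi hne' α hα t ht
      by_contra hcon
      exact hne' (le_antisymm hT (hQ.le_of_le ⟨hT.trans hQR, hTi, α, hα, t, ht, hcon⟩ hT))
    -- `Q` is generated by the differences
    set U := {y : P | ∃ α ∈ S, ∃ x ∈ Q, y = x⁻¹ * α x}
    have hUQ : closure U ≤ Q := by
      rw [closure_le]
      rintro _ ⟨α, hα, x, hx, rfl⟩
      exact mul_mem (inv_mem hx) (hQi α hα.1 x hx)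
    have hQU : closure U = Q := by
      by_contra hne'
      refine hx₁α (eq_of_fixed_diff hP hα₁.2.1 (hmin _ hUQ (hinvc _ ?_) hne' α₁ hα₁ _
        (subset_closure ⟨α₁, hα₁, x₁, hx₁, rfl⟩)))
      rintro β hβ _ ⟨α, hα, x, hx, rfl⟩
      exact ⟨β * α * β⁻¹, hSconj α hα β hβ, β x, hQi β hβ x hx, by simp⟩
    have hQbot : Q ≠ ⊥ := fun h => hx₁α (by rw [h, mem_bot] at hx₁; rw [hx₁, map_one])
    -- the `G`-invariant subgroup generated by `[Q, P]` and the `p`-th powers
    set F := closure ({y : P | ∃ x ∈ Q, ∃ g : P, y = ⁅x, g⁆} ∪ {y : P | ∃ x ∈ Q, y = x ^ p})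
    have hcommQ : ∀ x ∈ Q, ∀ g : P, ⁅x, g⁆ ∈ Q := fun x hx g => by
      have h := mul_mem hx ((inferInstance : Q.Normal).conj_mem _ (inv_mem hx) g)
      simpa [commutatorElement_def, mul_assoc] using h
    have hFQ : F ≤ Q := by
      rw [closure_le]
      rintro _ (⟨x, hx, g, rfl⟩ | ⟨x, hx, rfl⟩)
      exacts [hcommQ x hx g, pow_mem hx p]
    have hFi : Inv F := hinvc _ (by
      rintro β hβ _ (⟨x, hx, g, rfl⟩ | ⟨x, hx, rfl⟩)
      · exact Or.inl ⟨β x, hQi β hβ x hx, β g, map_commutatorElement β x g⟩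
      · exact Or.inr ⟨β x, hQi β hβ x hx, map_pow β x p⟩)
    have hFne : F ≠ Q := by
      intro hFeq
      haveI := hP.isNilpotent
      set M := ⁅Q, (⊤ : Subgroup P)⁆
      haveI : M.Normal := inferInstance
      have hMQ : M < Q := by
        refine lt_of_le_of_ne (Subgroup.commutator_le_left Q ⊤) fun h => hQbot ?_
        haveI : Group.IsNilpotent (⊤ : Subgroup P) := Group.isNilpotent_top.2 inferInstance
        exact CfsgLib.Transfer.eq_bot_of_le_commutator le_top h.ge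
      let q := (QuotientGroup.mk' M).comp Q.subtype
      have hker : ∀ z : Q, q z = 1 ↔ (z : P) ∈ M := fun z => QuotientGroup.eq_one_iff _
      have hQ' : IsPGroup p q.range := (hP.to_subgroup Q).of_surjective _ q.rangeRestrict_surjective
      haveI : Nontrivial q.range := by
        obtain ⟨z, hzQ, hzM⟩ := SetLike.exists_of_lt hMQ
        exact ⟨⟨q ⟨z, hzQ⟩, ⟨z, hzQ⟩, rfl⟩, 1, fun h => hzM ((hker _).1 (congrArg Subtype.val h))⟩
      have hle : F ≤ ((frattini q.range).comap q.rangeRestrict).map Q.subtype := by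
        rw [closure_le]
        rintro _ (⟨x, hx, g, rfl⟩ | ⟨x, hx, rfl⟩)
        · refine ⟨⟨_, hcommQ x hx g⟩, ?_, rfl⟩
          have : q.rangeRestrict ⟨_, hcommQ x hx g⟩ = 1 := Subtype.ext
            ((hker _).2 (commutator_mem_commutator hx (mem_top g)))
          show q.rangeRestrict _ ∈ frattini q.range
          rw [this]; exact one_mem _
        · exact ⟨⟨x, hx⟩ ^ p, by
            show q.rangeRestrict _ ∈ frattini q.range
            rw [map_pow]
            exact CfsgLib.Transfer.pow_mem_frattini hQ' _, rfl⟩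
      have htop : frattini q.range = ⊤ := by
        apply comap_injective q.rangeRestrict_surjective
        apply map_injective Q.subtype_injective
        rw [comap_top, ← MonoidHom.range_eq_map, range_subtype]
        exact le_antisymm (map_subtype_le _) (hFeq.ge.trans hle)
      exact bot_ne_top (frattini_nongenerating (by rw [htop, bot_sup_eq]) : (⊥ : Subgroup q.range) = ⊤)
    have hFfix := hmin F hFQ hFi hFne
    have hcommF : ∀ x ∈ Q, ∀ g : P, ⁅x, g⁆ ∈ F := fun x hx g =>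
      subset_closure (Or.inl ⟨x, hx, g, rfl⟩)
    -- anything fixed by `S` with commutators in a fixed set centralises `Q`
    have hcentQ : ∀ c, (∀ α ∈ S, α c = c) → (∀ α ∈ S, ∀ x ∈ Q, α ⁅x, c⁆ = ⁅x, c⁆) →
        c ∈ centralizer (Q : Set P) := by
      intro c h1 h2
      rw [← hQU, centralizer_closure, mem_centralizer_iff]
      rintro _ ⟨α, hα, x, hx, rfl⟩
      exact (commute_of_fixed (h1 α hα) (h2 α hα x hx)).eq
    have hFc : ∀ c ∈ F, c ∈ centralizer (Q : Set P) := fun c hc =>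
      hcentQ c (fun α hα => hFfix α hα c hc) fun α hα x hx => hFfix α hα _ (hcommF x hx c)
    have hDQ : ∀ d ∈ D, d ∈ centralizer (Q : Set P) := fun d hd =>
      hcentQ d (fun α hα => hα.2.2 d hd) fun α hα x _ => hα.2.2 _ (by
        rw [← commutatorElement_inv]; exact inv_mem (hDD d hd x))
    -- exponent of `Q`
    have hcen : ∀ a b : Q, ⁅a, b⁆ ∈ center Q := fun a b => mem_center_iff.2 fun w =>
      Subtype.ext (mem_centralizer_iff.1 (hFc _ (hcommF a a.2 b)) w w.2)
    have hcp : ∀ a b : Q, ⁅a, b⁆ ^ p = 1 := fun a b => by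
      rw [← CfsgLib.Transfer.commutatorElement_pow_left hcen, commutatorElement_eq_one_iff_mul_comm]
      exact Subtype.ext
        (mem_centralizer_iff.1 (hFc ((a : P) ^ p)
          (Subgroup.subset_closure (Or.inr ⟨a, a.2, rfl⟩))) b b.2).symm
    have hmul : ∀ a b : P, a ∈ Q → b ∈ Q → (a * b) ^ e = a ^ e * b ^ e := by
      intro a b ha hb
      have h : ((⟨a, ha⟩ : Q) * ⟨b, hb⟩) ^ e = (⟨a, ha⟩ : Q) ^ e * (⟨b, hb⟩ : Q) ^ e := by
        rw [CfsgLib.Transfer.mul_pow_class_two hcen]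
        obtain ⟨k, hk⟩ : p ∣ e.choose 2 := by
          rcases he with ⟨rfl, h2⟩ | ⟨rfl, h2⟩
          · exact hp.dvd_choose_self (by norm_num) (lt_of_le_of_ne hp.two_le (Ne.symm h2))
          · subst h2; exact ⟨3, by decide⟩
        rw [hk, pow_mul, hcp, one_pow, mul_one]
      exact congrArg Subtype.val h
    have hQe : ∀ x ∈ Q, x ^ e = 1 := by
      intro x hx
      rw [← hQU] at hx
      suffices h : x ∈ Q ∧ x ^ e = 1 from h.2
      induction hx using Subgroup.closure_induction with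
      | mem z hz =>
        obtain ⟨α, hα, x, hx, rfl⟩ := hz
        refine ⟨mul_mem (inv_mem hx) (hQi α hα.1 x hx), ?_⟩
        have hxF : x ^ e ∈ F := by
          obtain ⟨k, hk⟩ := hpe
          rw [hk, pow_mul]
          have hx' : x ^ p ∈ F := Subgroup.subset_closure (Or.inr ⟨x, hx, rfl⟩)
          exact pow_mem hx' k
        rw [hmul _ _ (inv_mem hx) (hQi α hα.1 x hx), inv_pow, ← map_pow, hFfix α hα _ hxF,
          inv_mul_cancel]
      | one => exact ⟨one_mem Q, one_pow e⟩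
      | mul u w _ _ hu hw => exact ⟨mul_mem hu.1 hw.1, by rw [hmul u w hu.1 hw.1, hu.2, hw.2, one_mul]⟩
      | inv u _ hu => exact ⟨inv_mem hu.1, by rw [inv_pow, hu.2, inv_one]⟩
    -- `D Q` contradicts maximality
    have hsup : ∀ z, z ∈ D ⊔ Q → ∃ d ∈ D, ∃ w ∈ Q, z = d * w := fun z hz => by
      obtain ⟨d, hd, w, hw, hdw⟩ := mem_sup_of_normal_left.1 hz
      exact ⟨d, hd, w, hw, hdw.symm⟩
    have hcom : ∀ d ∈ D, ∀ w ∈ Q, Commute d w := fun d hd w hw =>
      (mem_centralizer_iff.1 (hDQ d hd) w hw).symm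
    have hle : D ⊔ Q ≤ D := by
      refine hD.le_of_ge ⟨sup_le hDR hQR, ?_, ?_, ?_⟩ le_sup_left
      · intro β hβ z hz
        obtain ⟨d, hd, w, hw, rfl⟩ := hsup z hz
        rw [map_mul]
        exact mul_mem (mem_sup_left (hDi β hβ d hd)) (mem_sup_right (hQi β hβ w hw))
      · intro z hz
        obtain ⟨d, hd, w, hw, rfl⟩ := hsup z hz
        rw [(hcom d hd w hw).mul_pow, hDe d hd, hQe w hw, one_mul]
      · intro z hz g
        obtain ⟨d, hd, w, hw, rfl⟩ := hsup z hz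
        rw [show ⁅d * w, g⁆ = d * ⁅w, g⁆ * d⁻¹ * ⁅d, g⁆ by simp only [commutatorElement_def]; group,
          (hcom d hd _ (hcommQ w hw g)).eq, mul_inv_cancel_right]
        rw [mem_centralizer_iff]
        intro u hu
        obtain ⟨d', hd', w', hw', rfl⟩ := hsup u hu
        have c1 : Commute d' ⁅w, g⁆ := hcom d' hd' _ (hcommQ w hw g)
        have c2 : Commute w' ⁅w, g⁆ := mem_centralizer_iff.1 (hFc _ (hcommF w hw g)) w' hw'
        have c3 : Commute d' ⁅d, g⁆ := mem_centralizer_iff.1 (hDc d hd g) d' hd'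
        have c4 : Commute w' ⁅d, g⁆ := (hcom _ (hDD d hd g) w' hw').symm
        exact ((c1.mul_right c3).mul_left (c2.mul_right c4)).eq
    exact hx₁α (hα₁.2.2 x₁ (hle (mem_sup_right hx₁)))
  refine ⟨D, fun α hα => ?_, hDR, fun d hd => ?_, ?_, hdet, ?_⟩
  · refine le_antisymm ?_ fun d hd => ?_
    · rintro _ ⟨d, hd, rfl⟩; exact hDi α hα d hd
    · exact ⟨α⁻¹ d, hDi _ (inv_mem hα) d hd, by simp⟩
  · rcases he with ⟨rfl, -⟩ | ⟨rfl, h2⟩
    exacts [Or.inl (hDe d hd), Or.inr ⟨h2, hDe d hd⟩]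
  · rw [Subgroup.commutator_le]
    exact fun d hd g _ => ⟨hDD d hd g, hDc d hd g⟩
  intro A hAD hAc hAmax
  haveI := hAc
  have hcentA : ∀ z ∈ D, z ∈ centralizer (A : Set P) → z ∈ A := by
    intro z hz hzc
    haveI := Subgroup.isMulCommutative_closure (k := insert z (A : Set P)) (by
      intro a ha b hb
      rcases ha with rfl | ha <;> rcases hb with rfl | hb
      · rfl
      · exact ((mem_centralizer_iff.1 hzc b hb)).symm
      · exact mem_centralizer_iff.1 hzc a ha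
      · exact congrArg Subtype.val (mul_comm' (⟨a, ha⟩ : A) ⟨b, hb⟩))
    have h1 := hAmax (closure (insert z (A : Set P)))
      (fun a ha => subset_closure (Or.inr ha)) ((closure_le _).2 (by
        rintro a (rfl | ha)
        exacts [hz, hAD ha])) inferInstance
    rw [← h1]
    exact subset_closure (Or.inl rfl)
  have hcomA : ∀ d ∈ D, ∀ g : P, ⁅d, g⁆ ∈ A := fun d hd g =>
    hcentA _ (hDD d hd g) (centralizer_le hAD (hDc d hd g))
  refine ⟨⟨fun a ha g => ?_⟩, fun α hα hfix => ?_⟩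
  · have h := mul_mem ha (hcomA _ (inv_mem (hAD ha)) g)
    simpa [commutatorElement_def, mul_assoc] using h
  -- the `p'`-part of `α` fixes `D`
  have hkey : ∀ β ∈ G, (orderOf β).Coprime p → (∀ a ∈ A, β a = a) → β = 1 := by
    intro β hβ hβp hβA
    refine hdet β hβ hβp fun d hd => eq_of_fixed_diff hP hβp (hβA _ ?_)
    refine hcentA _ (mul_mem (inv_mem hd) (hDi β hβ d hd)) ?_
    rw [mem_centralizer_iff]
    intro a ha
    refine (commute_of_fixed (hβA a ha) (hβA _ ?_)).eq.symm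
    exact hcomA d hd a
  obtain ⟨k, m, hm, hkm⟩ := Nat.exists_eq_pow_mul_and_not_dvd (orderOf_pos α).ne' p hp.ne_one
  refine ⟨k, ?_⟩
  have h1 : α ^ p ^ k = 1 := by
    refine hkey _ (pow_mem hα _) ?_ fun a ha => ?_
    · have hdvd : orderOf (α ^ p ^ k) ∣ m := orderOf_dvd_of_pow_eq_one (by
        rw [← pow_mul, ← hkm, pow_orderOf_eq_one])
      exact Nat.Coprime.coprime_dvd_left hdvd ((Nat.Prime.coprime_iff_not_dvd hp).2 hm).symm
    · have h2 : ∀ j : ℕ, (α ^ j) a = a := by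
        intro j
        induction j with
        | zero => simp
        | succ j ih => rw [pow_succ, MulAut.mul_apply, hfix a ha, ih]
      exact h2 _
  refine Nat.dvd_antisymm (orderOf_dvd_of_pow_eq_one h1) ?_
  rw [hkm]; exact dvd_mul_right _ _

end CfsgLib.PGroup
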