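import Cfsg.Agent.Lib.Transfer.MaxClass
import Cfsg.Agent.Lib.StructC.BurnsideBasis

/-!
Normal subgroups of a `p`-group of maximal class.
-/

set_option autoImplicit false
set_option linter.style.haveILetI false

namespace CfsgLib.PGroup

open Subgroup
open scoped commutatorElement

/-- A non-cyclic group of order `p ^ 2` has `p + 1` subgroups of order `p`. -/
theorem card_subgroups_prime_sq {V : Type*} [Group V] [Finite V] {p : ℕ} [Fact p.Prime]
    (hV : Nat.card V = p ^ 2) (hnc : ¬ IsCyclic V) :
    Nat.card {H : Subgroup V // Nat.card H = p} = p + 1 := by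
  have hp := (Fact.out : p.Prime)
  classical
  haveI := Fintype.ofFinite V
  haveI := Fintype.ofFinite (Subgroup V)
  have hexp : ∀ v : V, v ≠ 1 → orderOf v = p := by
    intro v hv
    obtain ⟨i, hi, ho⟩ := (Nat.dvd_prime_pow hp).1 (hV ▸ orderOf_dvd_natCard v)
    interval_cases i
    · exact absurd (orderOf_eq_one_iff.1 (by rw [ho, pow_zero])) hv
    · rw [ho, pow_one]
    · exact absurd (isCyclic_of_orderOf_eq_card v (by rw [ho, hV])) hnc
  let e : (Σ H : {H : Subgroup V // Nat.card H = p}, {x : (H.1 : Subgroup V) // x ≠ 1}) ≃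
      {v : V // v ≠ 1} :=
    { toFun := fun s => ⟨s.2.1, fun h => s.2.2 (Subtype.ext h)⟩
      invFun := fun v => ⟨⟨zpowers v.1, by rw [Nat.card_zpowers, hexp v.1 v.2]⟩,
        ⟨⟨v.1, mem_zpowers v.1⟩, fun h => v.2 (congrArg Subtype.val h)⟩⟩
      left_inv := by
        rintro ⟨⟨H, hH⟩, ⟨⟨x, hx⟩, hx1⟩⟩
        have hxv : x ≠ 1 := fun h => hx1 (Subtype.ext h)
        have heq : zpowers x = H := eq_of_le_of_card_ge (zpowers_le.2 hx)
          (by rw [hH, Nat.card_zpowers, hexp x hxv])
        subst heq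
        rfl
      right_inv := fun v => rfl }
  have hk := Nat.card_congr e
  have hne : ∀ {X : Type _} [Group X] [Fintype X], Nat.card {x : X // x ≠ 1} = Nat.card X - 1 := by
    intro X _ _
    classical
    rw [Nat.card_eq_fintype_card, Fintype.card_subtype_compl, Fintype.card_subtype_eq,
      Nat.card_eq_fintype_card]
  rw [Nat.card_sigma, hne, hV] at hk
  have hsum : ∀ H : {H : Subgroup V // Nat.card H = p}, Nat.card {x : (H.1 : Subgroup V) // x ≠ 1}
      = p - 1 := fun H => by
    haveI := Fintype.ofFinite H.1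
    rw [hne, H.2]
  simp only [hsum, Finset.sum_const, Finset.card_univ, smul_eq_mul] at hk
  rw [Nat.card_eq_fintype_card]
  have h2 : p ^ 2 - 1 = (p + 1) * (p - 1) := by
    obtain ⟨q, rfl⟩ : ∃ q, p = q + 1 := ⟨p - 1, by have := hp.two_le; omega⟩
    simp only [Nat.add_sub_cancel]
    rw [show (q + 1) ^ 2 = (q + 1 + 1) * q + 1 by ring, Nat.add_sub_cancel]
  rw [h2] at hk
  exact Nat.eq_of_mul_eq_mul_right (by have := hp.two_le; omega) hk

variable {G : Type*} [Group G] [Finite G] {p : ℕ} [Fact p.Prime]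

theorem maxClass_card_lcs {n : ℕ} (hn : 3 ≤ n) (hG : Nat.card G = p ^ n)
    (hcl : Group.nilpotencyClass G = n - 1) :
    (¬ IsCyclic (G ⧸ (⊤ : Subgroup G).lowerCentralSeries 1)) ∧
    ∀ i, 1 ≤ i → i ≤ n - 1 →
      Nat.card ((⊤ : Subgroup G).lowerCentralSeries i) = p ^ (n - 1 - i) := by
  have hp := (Fact.out : p.Prime)
  have hP : IsPGroup p G := IsPGroup.of_card hG
  haveI := hP.isNilpotent
  set γ := (⊤ : Subgroup G).lowerCentralSeries
  have hbot : ∀ i, γ i = ⊥ → n - 1 ≤ i := fun i hi =>
    hcl ▸ Subgroup.lowerCentralSeries_eq_bot_iff_nilpotencyClass_le.1 hi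
  have hstep : ∀ i, i < n - 1 → Nat.card (γ (i + 1)) * p ≤ Nat.card (γ i) := by
    intro i hi
    have hle : γ (i + 1) ≤ γ i := Subgroup.lowerCentralSeries_antitone _ (by omega)
    have hlt : Nat.card (γ (i + 1)) < Nat.card (γ i) := by
      refine lt_of_le_of_ne (card_le_of_le hle) fun h => ?_
      have he : γ (i + 1) = γ i := eq_of_le_of_card_ge hle h.ge
      have hall : ∀ d, γ (i + d) = γ i := by
        intro d
        induction d with
        | zero => rfl
        | succ d ih =>
          show ⁅γ (i + d), (⊤ : Subgroup G)⁆ = γ i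
          rw [ih]
          exact he
      have h0 : γ (i + (n - 1)) = ⊥ := Subgroup.lowerCentralSeries_eq_bot_iff_nilpotencyClass_le.2 (by omega)
      rw [hall] at h0
      have := hbot i h0
      omega
    obtain ⟨u, hu⟩ := (hP.to_subgroup (γ (i + 1))).exists_card_eq
    obtain ⟨v, hv⟩ := (hP.to_subgroup (γ i)).exists_card_eq
    rw [hu, hv] at hlt ⊢
    rw [← pow_succ]
    exact Nat.pow_le_pow_right hp.pos ((Nat.pow_lt_pow_iff_right hp.one_lt).1 hlt)
  have hnc : ¬ IsCyclic (G ⧸ γ 1) := by
    intro h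
    have hle : γ 1 ≤ frattini G := by
      show (⊤ : Subgroup G).lowerCentralSeries 1 ≤ _
      rw [top_lowerCentralSeries_one, commutator_eq_closure, closure_le]
      rintro _ ⟨u, v, rfl⟩
      have hc := CfsgLib.StructC.comm_mem_frattini hP u⁻¹ v⁻¹
      simpa [commutatorElement_def, mul_assoc] using hc
    obtain ⟨z, hz⟩ := IsCyclic.exists_generator (α := G ⧸ γ 1)
    obtain ⟨x, rfl⟩ := QuotientGroup.mk'_surjective (γ 1) z
    have htop : zpowers x ⊔ frattini G = ⊤ := by
      refine eq_top_iff.2 fun g _ => ?_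
      obtain ⟨k, hk⟩ := mem_zpowers_iff.1 (hz (QuotientGroup.mk' (γ 1) g))
      rw [← map_zpow, QuotientGroup.mk'_apply, QuotientGroup.mk'_apply, QuotientGroup.eq] at hk
      rw [← mul_inv_cancel_left (x ^ k) g]
      exact mul_mem (mem_sup_left (zpow_mem (mem_zpowers x) k)) (mem_sup_right (hle hk))
    have hcyc := frattini_nongenerating htop
    haveI : IsCyclic G := ⟨x, fun g => mem_zpowers_iff.1 (hcyc.ge (mem_top g))⟩
    have h1 : γ 1 = ⊥ := by
      show (⊤ : Subgroup G).lowerCentralSeries 1 = ⊥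
      rw [top_lowerCentralSeries_one, commutator_eq_closure, eq_bot_iff, closure_le]
      rintro _ ⟨u, v, rfl⟩
      letI := IsCyclic.commGroup (α := G)
      exact commutatorElement_eq_one_iff_mul_comm.2 (mul_comm u v)
    have := hbot 1 h1
    omega
  refine ⟨hnc, ?_⟩
  have hup : ∀ i, 1 ≤ i → i ≤ n - 1 → Nat.card (γ i) * p ^ (i + 1) ≤ p ^ n := by
    intro i
    induction i with
    | zero => omega
    | succ i ih =>
      intro _ hi
      rcases Nat.eq_zero_or_pos i with rfl | h0
      · have hidx : p ^ 2 ≤ (γ 1).index := by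
          obtain ⟨u, hu⟩ := hP.index (γ 1)
          rw [hu]
          refine Nat.pow_le_pow_right hp.pos ?_
          by_contra hlt
          apply hnc
          interval_cases u
          · haveI : Subsingleton (G ⧸ γ 1) :=
              (Nat.card_eq_one_iff_unique.1 (by rw [← index_eq_card, hu, pow_zero])).1
            infer_instance
          · exact isCyclic_of_prime_card (p := p) (by rw [← index_eq_card, hu, pow_one])
        rw [show (0 + 1 + 1) = 2 by omega, ← hG, ← (γ 1).card_mul_index]
        exact Nat.mul_le_mul_left _ hidx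
      · refine le_trans ?_ (ih (by omega) (by omega))
        rw [pow_succ' p (i + 1), ← mul_assoc]
        exact Nat.mul_le_mul_right _ (hstep i (by omega))
  have hlow : ∀ d, d ≤ n - 2 → p ^ d ≤ Nat.card (γ (n - 1 - d)) := by
    intro d
    induction d with
    | zero => intro _; exact Nat.card_pos
    | succ d ih =>
      intro hd
      refine le_trans ?_ (hstep (n - 1 - (d + 1)) (by omega))
      rw [show n - 1 - (d + 1) + 1 = n - 1 - d by omega, pow_succ]
      exact Nat.mul_le_mul_right _ (ih (by omega))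
  intro i hi1 hi
  refine le_antisymm ?_ ?_
  · have h := hup i hi1 hi
    conv_rhs at h => rw [show n = n - 1 - i + (i + 1) by omega, pow_add]
    exact Nat.le_of_mul_le_mul_right h (Nat.pow_pos hp.pos)
  · have h := hlow (n - 1 - i) (by omega)
    rwa [show n - 1 - (n - 1 - i) = i by omega] at h

theorem maxClass_normal_eq {n : ℕ} (hn : 3 ≤ n) (hG : Nat.card G = p ^ n)
    (hcl : Group.nilpotencyClass G = n - 1) (N : Subgroup G) [N.Normal] {r : ℕ} (hr : 2 ≤ r)
    (hN : N.index = p ^ r) : N = (⊤ : Subgroup G).lowerCentralSeries (r - 1) := by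
  have hp := (Fact.out : p.Prime)
  have hrn : r ≤ n := by
    have h := N.index_dvd_card
    rw [hN, hG] at h
    exact (Nat.pow_dvd_pow_iff_le_right hp.one_lt).1 h
  haveI := (IsPGroup.of_card hG).isNilpotent
  have hQ : Nat.card (G ⧸ N) = p ^ r := by rw [← index_eq_card, hN]
  have hc : Group.nilpotencyClass (G ⧸ N) ≤ r - 1 :=
    (CfsgLib.Transfer.nilpotencyClass_le_of_card hQ).trans (max_le le_rfl (by omega))
  have hle : (⊤ : Subgroup G).lowerCentralSeries (r - 1) ≤ N := by
    have h1 := map_lowerCentralSeries (S := (⊤ : Subgroup G)) (QuotientGroup.mk' N) (r - 1)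
    rw [map_top_of_surjective _ (QuotientGroup.mk'_surjective N),
      Subgroup.lowerCentralSeries_eq_bot_iff_nilpotencyClass_le.2 hc, Subgroup.map_eq_bot_iff,
      QuotientGroup.ker_mk'] at h1
    exact h1
  refine (eq_of_le_of_card_ge hle ?_).symm
  have h2 := N.card_mul_index
  rw [hN, hG] at h2
  rw [(maxClass_card_lcs hn hG hcl).2 (r - 1) (by omega) (by omega),
    show n - 1 - (r - 1) = n - r by omega]
  exact (Nat.eq_of_mul_eq_mul_right (Nat.pow_pos hp.pos)
    (by rw [h2, ← pow_add, Nat.sub_add_cancel hrn])).le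

theorem maxClass_card_normal_index_prime {n : ℕ} (hn : 3 ≤ n) (hG : Nat.card G = p ^ n)
    (hcl : Group.nilpotencyClass G = n - 1) :
    Nat.card {N : Subgroup G // N.Normal ∧ N.index = p} = p + 1 := by
  have hp := (Fact.out : p.Prime)
  obtain ⟨hnc, hcard⟩ := maxClass_card_lcs hn hG hcl
  set D := (⊤ : Subgroup G).lowerCentralSeries 1 with hD
  have hV : Nat.card (G ⧸ D) = p ^ 2 := by
    have h := D.card_mul_index
    rw [hcard 1 le_rfl (by omega), hG] at h
    rw [← index_eq_card]
    refine Nat.eq_of_mul_eq_mul_left (Nat.pow_pos (n := n - 1 - 1) hp.pos) ?_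
    rw [h, ← pow_add]
    congr 1
    omega
  have hDcomm : D = _root_.commutator G := top_lowerCentralSeries_one
  haveI : IsMulCommutative (G ⧸ D) := IsPGroup.isMulCommutative_of_card_eq_prime_sq hV
  rw [← card_subgroups_prime_sq hV hnc]
  have hle : ∀ N : Subgroup G, N.Normal → N.index = p → D ≤ N := by
    intro N hNn hi
    haveI := hNn
    haveI : IsCyclic (G ⧸ N) := isCyclic_of_prime_card (p := p) (by rw [← index_eq_card, hi])
    rw [hDcomm, commutator_eq_closure, closure_le]
    rintro _ ⟨u, v, rfl⟩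
    rw [SetLike.mem_coe, ← QuotientGroup.eq_one_iff]
    letI := IsCyclic.commGroup (α := G ⧸ N)
    simp only [commutatorElement_def, QuotientGroup.mk_mul, QuotientGroup.mk_inv,
      mul_inv_cancel_comm, mul_inv_cancel]
  refine Nat.card_congr
    { toFun := fun N => ⟨N.1.map (QuotientGroup.mk' D), ?_⟩
      invFun := fun H => ⟨H.1.comap (QuotientGroup.mk' D), ?_, ?_⟩
      left_inv := fun N => Subtype.ext ?_
      right_inv := fun H => Subtype.ext ?_ }
  · have h1 := (N.1.map (QuotientGroup.mk' D)).card_mul_index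
    rw [N.1.index_map_eq (QuotientGroup.mk'_surjective D)
      (by rw [QuotientGroup.ker_mk']; exact hle N.1 N.2.1 N.2.2), N.2.2, hV, pow_two] at h1
    exact Nat.eq_of_mul_eq_mul_right hp.pos h1
  · exact (normal_of_isMulCommutative H.1).comap _
  · rw [index_comap_of_surjective _ (QuotientGroup.mk'_surjective D)]
    have h1 := H.1.card_mul_index
    rw [H.2, hV, pow_two] at h1
    exact Nat.eq_of_mul_eq_mul_left hp.pos h1
  · show (N.1.map (QuotientGroup.mk' D)).comap (QuotientGroup.mk' D) = N.1
    rw [comap_map_eq, QuotientGroup.ker_mk']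
    exact sup_eq_left.2 (hle N.1 N.2.1 N.2.2)
  · exact map_comap_eq_self_of_surjective (QuotientGroup.mk'_surjective D) H.1

end CfsgLib.PGroup
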