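import Cfsg.Prelude.Def_PLocal
import Mathlib

/-!
A `p`-group with an elementary abelian normal subgroup `A` of index `p` on which some element has
non-zero norm maps onto a Sylow `p`-subgroup of `S_{p^2}`.
-/

set_option autoImplicit false
set_option linter.style.haveILetI false

namespace CfsgLib.PGroup

open Subgroup Polynomial

variable {p : ℕ} [Fact p.Prime]

/-- An invariant subgroup of `ZMod p → ZMod p` containing a vector of non-zero coordinate sum is
everything. -/
theorem eq_top_of_sum_ne_zero (W : AddSubgroup (ZMod p → ZMod p))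
    (hW : ∀ w ∈ W, (fun i => w (i + 1)) ∈ W) {v : ZMod p → ZMod p} (hv : v ∈ W)
    (hs : ∑ i, v i ≠ 0) : W = ⊤ := by
  classical
  let S : Module.End (ZMod p) (ZMod p → ZMod p) :=
    LinearMap.funLeft (ZMod p) (ZMod p) (fun i => i + 1)
  have hS : ∀ (n : ℕ) (w : ZMod p → ZMod p), (S ^ n) w = fun i => w (i + n) := by
    intro n
    induction n with
    | zero => intro w; simp
    | succ n ih =>
      intro w
      rw [pow_succ, Module.End.mul_apply, ih]
      funext i
      simp [S, add_assoc]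
  let W' : Submodule (ZMod p) (ZMod p → ZMod p) := AddSubgroup.toZModSubmodule p W
  have hW' : ∀ (f : (ZMod p)[X]) (w : ZMod p → ZMod p), w ∈ W' → aeval S f w ∈ W' := by
    intro f
    induction f using Polynomial.induction_on' with
    | add f g hf hg => intro w hw; rw [map_add]; exact add_mem (hf w hw) (hg w hw)
    | monomial n a =>
      intro w hw
      rw [aeval_monomial, Module.End.mul_apply, Module.algebraMap_end_apply]
      refine W'.smul_mem a ?_
      induction n generalizing w with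
      | zero => simpa using hw
      | succ n ih =>
        rw [pow_succ, Module.End.mul_apply]
        exact ih _ (hW w hw)
  let e0 : ZMod p → ZMod p := Pi.single 0 1
  let f : (ZMod p)[X] := ∑ j : ZMod p, monomial (-j).val (v j)
  have hf : aeval S f e0 = v := by
    funext i
    simp only [f, map_sum, aeval_monomial, LinearMap.sum_apply, Module.End.mul_apply,
      Module.algebraMap_end_apply, Finset.sum_apply, Pi.smul_apply, hS, ZMod.natCast_val,
      ZMod.cast_id', id_eq, smul_eq_mul]
    rw [Finset.sum_eq_single i]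
    · simp [e0]
    · intro j _ hj
      have : i + -j ≠ 0 := by rwa [← sub_eq_add_neg, sub_ne_zero, ne_comm]
      simp [e0, this]
    · simp
  have hf1 : f.eval 1 ≠ 0 := by
    simpa [f, eval_finsetSum, eval_monomial] using hs
  have hcop : IsCoprime f ((X : (ZMod p)[X]) ^ p - 1) := by
    have h1 : ((X : (ZMod p)[X]) ^ p - 1) = (X - C 1) ^ p := by
      rw [sub_pow_char, map_one, one_pow]
    rw [h1]
    exact ((((irreducible_X_sub_C (1 : ZMod p)).coprime_iff_not_dvd).2 fun h =>
      hf1 (dvd_iff_isRoot.1 h)).symm).pow_right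
  obtain ⟨a, b, hab⟩ := hcop
  have he0 : e0 ∈ W' := by
    have h := congrArg (fun g : (ZMod p)[X] => aeval S g e0) hab
    have hSp : (S ^ p) e0 = e0 := by funext i; simp [hS]
    simp only [map_add, map_mul, map_sub, map_pow, aeval_X, map_one, LinearMap.add_apply,
      Module.End.mul_apply, LinearMap.sub_apply, Module.End.one_apply, hf, hSp, sub_self,
      map_zero, add_zero] at h
    rw [← h]
    exact hW' a v hv
  rw [eq_top_iff]
  intro w _
  have hw : w = ∑ j : ZMod p, w j • (S ^ (-j).val) e0 := by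
    funext i
    simp only [Finset.sum_apply, Pi.smul_apply, hS, ZMod.natCast_val, ZMod.cast_id', id_eq,
      smul_eq_mul]
    rw [Finset.sum_eq_single i]
    · simp [e0]
    · intro j _ hj
      have : i + -j ≠ 0 := by rwa [← sub_eq_add_neg, sub_ne_zero, ne_comm]
      simp [e0, this]
    · simp
  show w ∈ W'
  rw [hw]
  refine Submodule.sum_mem _ fun j _ => Submodule.smul_mem _ _ ?_
  have h := hW' (X ^ (-j).val) e0 he0
  simpa using h

/-- A Sylow `p`-subgroup of `S_{p^2}` has order `p ^ (p + 1)`. -/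
theorem card_sylow_perm_sq (Q : Sylow p (Equiv.Perm (Fin (p ^ 2)))) :
    Nat.card (Q : Subgroup (Equiv.Perm (Fin (p ^ 2)))) = p ^ (p + 1) := by
  have hp := (Fact.out : p.Prime)
  rw [Q.card_eq_multiplicity, Nat.card_perm, Nat.card_fin, pow_two,
    Nat.factorization_factorial_mul hp]
  congr 1
  have h := Nat.factorization_factorial_mul hp (n := 1)
  rw [mul_one] at h
  rw [h, Nat.factorial_one, Nat.factorization_one]
  simp [add_comm]

set_option maxHeartbeats 1000000 in
theorem exists_surjective_sylow_perm_sq {P : Type*} [Group P] [Finite P] (hP : IsPGroup p P)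
    (A : Subgroup P) [A.Normal] (hA : Cfsg.IsElementaryAbelian p A) (hidx : A.index = p) (x y : P)
    (hx : x ∈ A) (hy : y ∉ A)
    (hprod : ((List.range p).map (fun i => (y ^ i)⁻¹ * x * y ^ i)).prod ≠ 1) :
    ∃ (Q : Sylow p (Equiv.Perm (Fin (p ^ 2))))
      (f : P →* ↥(Q : Subgroup (Equiv.Perm (Fin (p ^ 2))))), Function.Surjective f := by
  classical
  have hp := (Fact.out : p.Prime)
  haveI := hA.1
  set ν := ((List.range p).map (fun i => (y ^ i)⁻¹ * x * y ^ i)).prod with hν
  have hterm : ∀ i : ℕ, (y ^ i)⁻¹ * x * y ^ i ∈ A := fun i => by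
    simpa using (inferInstance : A.Normal).conj_mem x hx (y ^ i)⁻¹
  have hνA : ν ∈ A := by
    refine list_prod_mem fun z hz => ?_
    obtain ⟨i, -, rfl⟩ := List.mem_map.1 hz
    exact hterm i
  -- a hyperplane of `A` avoiding `ν`
  obtain ⟨B, -, hB⟩ := Finite.exists_le_maximal (p := fun B : Subgroup A => ⟨ν, hνA⟩ ∉ B) (a := ⊥)
    (fun h => hprod (congrArg Subtype.val (mem_bot.1 h)))
  have hBp : B.index = p := by
    haveI : B.Normal := normal_of_isMulCommutative B
    have hsup : ∀ a : A, ∃ i : ℤ, a * (⟨ν, hνA⟩ : A) ^ i ∈ B := by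
      intro a
      by_cases ha : a ∈ B
      · exact ⟨0, by simpa using ha⟩
      have hmem : (⟨ν, hνA⟩ : A) ∈ B ⊔ zpowers a := by
        by_contra h
        exact ha ((hB.le_of_ge h le_sup_left) (mem_sup_right (mem_zpowers a)))
      obtain ⟨b, hb, z, hz, he⟩ := mem_sup_of_normal_left.1 hmem
      obtain ⟨i, rfl⟩ := mem_zpowers_iff.1 hz
      have hap : a ^ (p : ℤ) = 1 := by
        rw [zpow_natCast]; exact Subtype.ext (hA.2 a a.2)
      have hi : ¬ (p : ℤ) ∣ i := by
        rintro ⟨c, rfl⟩
        rw [zpow_mul, hap, one_zpow, mul_one] at he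
        exact hB.prop (he ▸ hb)
      obtain ⟨r, q, hrq⟩ := ((Nat.prime_iff_prime_int.1 hp).coprime_iff_not_dvd.2 hi).symm
      refine ⟨-r, ?_⟩
      have : a * (⟨ν, hνA⟩ : A) ^ (-r) = b ^ (-r) * (a ^ (p : ℤ)) ^ q := by
        have hcom : Commute b (a ^ i) := mul_comm' b (a ^ i)
        rw [← he, hcom.mul_zpow, ← mul_assoc, mul_comm' a (b ^ (-r)), mul_assoc, ← zpow_mul,
          ← zpow_one_add, ← zpow_mul]
        congr 2
        linear_combination -hrq
      rw [this, hap, one_zpow, mul_one]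
      exact zpow_mem hb _
    haveI : B.Normal := normal_of_isMulCommutative B
    rw [index_eq_card]
    have hgen : ∀ z : A ⧸ B, z ∈ zpowers ((⟨ν, hνA⟩ : A) : A ⧸ B) := by
      intro z
      induction z using QuotientGroup.induction_on with
      | _ a =>
        obtain ⟨i, hi⟩ := hsup a
        refine mem_zpowers_iff.2 ⟨-i, ?_⟩
        have := (QuotientGroup.eq_one_iff _).2 hi
        rw [QuotientGroup.mk_mul, QuotientGroup.mk_zpow, mul_eq_one_iff_eq_inv] at this
        rw [this, zpow_neg]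
    rw [← orderOf_eq_card_of_forall_mem_zpowers hgen]
    refine orderOf_eq_prime ?_ fun h => hB.prop ((QuotientGroup.eq_one_iff _).1 h)
    rw [← QuotientGroup.mk_pow, show (⟨ν, hνA⟩ : A) ^ p = 1 from Subtype.ext (hA.2 ν hνA),
      QuotientGroup.mk_one]
  -- the linear form with kernel `B`
  haveI : B.Normal := normal_of_isMulCommutative B
  haveI : IsCyclic (A ⧸ B) := isCyclic_of_prime_card (p := p) (by rw [← index_eq_card, hBp])
  obtain ⟨ε⟩ : Nonempty (A ⧸ B ≃* Multiplicative (ZMod p)) :=
    ⟨(zmodMulEquivOfGenerator (G := A ⧸ B) (Classical.choose_spec IsCyclic.exists_generator)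
      (by rw [← index_eq_card, hBp])).symm⟩
  let lam : A → ZMod p := fun a => Multiplicative.toAdd (ε (a : A ⧸ B))
  have hlam_mul : ∀ a b, lam (a * b) = lam a + lam b := fun a b => by simp [lam]
  have hlam_ker : ∀ a, lam a = 0 ↔ a ∈ B := fun a => by
    simp [lam, QuotientGroup.eq_one_iff]
  let c : ℤ → A → A := fun i a =>
    ⟨y ^ i * a * (y ^ i)⁻¹, (inferInstance : A.Normal).conj_mem a a.2 _⟩
  have hyp : y ^ p ∈ A := by simpa [hidx] using A.pow_index_mem y
  have hAc : ∀ a b : P, a ∈ A → b ∈ A → a * b = b * a := fun a b ha hb =>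
    congrArg Subtype.val (mul_comm' (⟨a, ha⟩ : A) ⟨b, hb⟩)
  have hper : ∀ (i k : ℤ) (a : A), c (i + p * k) a = c i a := by
    intro i k a
    refine Subtype.ext ?_
    show y ^ (i + p * k) * (a : P) * (y ^ (i + p * k))⁻¹ = y ^ i * a * (y ^ i)⁻¹
    rw [zpow_add, show y ^ i * y ^ ((p : ℤ) * k) * (a : P) = y ^ i * (y ^ ((p : ℤ) * k) * a) by
      rw [mul_assoc], hAc _ _ (by rw [zpow_mul, zpow_natCast]; exact zpow_mem hyp k) a.2]
    group
  have hmod : ∀ (i : ℤ) (a : A), c i a = c ((i : ZMod p).val : ℤ) a := by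
    intro i a
    rw [ZMod.val_intCast]
    conv_lhs => rw [← Int.emod_add_mul_ediv i p, hper]
  have hc_mul : ∀ i a b, c i (a * b) = c i a * c i b := fun i a b => Subtype.ext (by
    simp [c, mul_assoc])
  let φ : A →* Multiplicative (ZMod p → ZMod p) :=
    MonoidHom.mk' (fun a => Multiplicative.ofAdd (fun j => lam (c (j.val : ℤ) a)))
      (fun a b => by
        rw [← ofAdd_add]
        congr 1
        funext j
        simp [hc_mul, hlam_mul])
  let W : AddSubgroup (ZMod p → ZMod p) := (φ.range).toAddSubgroup'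
  have hWmem : ∀ w : ZMod p → ZMod p, w ∈ W ↔ ∃ a, (fun j => lam (c (j.val : ℤ) a)) = w := by
    intro w
    exact ⟨fun ⟨a, ha⟩ => ⟨a, congrArg Multiplicative.toAdd ha⟩,
      fun ⟨a, ha⟩ => ⟨a, congrArg Multiplicative.ofAdd ha⟩⟩
  have hWinv : ∀ w ∈ W, (fun i => w (i + 1)) ∈ W := by
    intro w hw
    obtain ⟨a, rfl⟩ := (hWmem w).1 hw
    refine (hWmem _).2 ⟨c 1 a, funext fun j => ?_⟩
    show lam (c _ (c 1 a)) = lam (c ((j + 1).val : ℤ) a)
    congr 1
    have h : c (j.val : ℤ) (c 1 a) = c ((j.val : ℤ) + 1) a := Subtype.ext (by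
      simp [c, zpow_add, mul_assoc])
    rw [h, hmod]
    simp
  have hsum : ∑ i : ZMod p, (fun j : ZMod p => lam (c (j.val : ℤ) ⟨x, hx⟩)) i ≠ 0 := by
    have hl : lam ⟨ν, hνA⟩ ≠ 0 := fun h => hB.prop ((hlam_ker _).1 h)
    intro h0
    apply hl
    let t : ℕ → A := fun i => ⟨(y ^ i)⁻¹ * x * y ^ i, hterm i⟩
    have hνt : (⟨ν, hνA⟩ : A) = ((List.range p).map t).prod := by
      refine Subtype.ext ?_
      show ν = A.subtype _
      rw [map_list_prod, List.map_map, hν]
      rfl
    let L : A →* Multiplicative (ZMod p) := MonoidHom.mk' (fun a => ε (a : A ⧸ B)) (by simp)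
    have hL : ∀ a, lam a = Multiplicative.toAdd (L a) := fun a => rfl
    rw [hL, hνt, map_list_prod, List.map_map, ← h0]
    rw [show ((List.range p).map (L ∘ t)).prod = ∏ i ∈ Finset.range p, L (t i) by
      rw [← List.toFinset_range, List.prod_toFinset _ List.nodup_range]; rfl, toAdd_prod]
    refine Finset.sum_bij' (fun i _ => -(i : ZMod p)) (fun j _ => (-j).val) ?_ ?_ ?_ ?_ ?_
    · intros; exact Finset.mem_univ _
    · intro j _; exact Finset.mem_range.2 (ZMod.val_lt _)
    · intro i hi; simp [ZMod.val_cast_of_lt (Finset.mem_range.1 hi)]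
    · intro j _; simp
    · intro i _
      show lam (t i) = lam (c _ _)
      congr 1
      have h := hmod (-(i : ℤ)) ⟨x, hx⟩
      simp only [Int.cast_neg, Int.cast_natCast] at h
      rw [← h]
      exact Subtype.ext (by simp [t, c])
  have hWtop : W = ⊤ := eq_top_of_sum_ne_zero W hWinv ((hWmem _).2 ⟨⟨x, hx⟩, rfl⟩) hsum
  -- the action on the cosets of `B`
  let B' : Subgroup P := B.map A.subtype
  have hB'A : B' ≤ A := map_subtype_le _
  have hB'idx : B'.index = p ^ 2 := by
    rw [index_map_subtype, hBp, hidx, pow_two]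
  haveI : Fintype (P ⧸ B') := Fintype.ofFinite _
  let e : P ⧸ B' ≃ Fin (p ^ 2) := Fintype.equivFinOfCardEq (by
    rw [← Nat.card_eq_fintype_card, ← index_eq_card, hB'idx])
  let g : P →* Equiv.Perm (Fin (p ^ 2)) :=
    (e.permCongrHom.toMonoidHom).comp (MulAction.toPermHom P (P ⧸ B'))
  have hker : g.ker = B'.normalCore := by
    rw [normalCore_eq_ker]
    ext z
    simp [g, MonoidHom.mem_ker]
  have hrange : IsPGroup p g.range := hP.of_surjective _ g.rangeRestrict_surjective
  obtain ⟨Q, hQ⟩ := hrange.exists_le_sylow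
  refine ⟨Q, g.codRestrict (Q : Subgroup _) (fun z => hQ ⟨z, rfl⟩), fun q => ?_⟩
  suffices hge : Nat.card (Q : Subgroup (Equiv.Perm (Fin (p ^ 2)))) ≤ Nat.card g.range by
    have heq := eq_of_le_of_card_ge hQ hge
    obtain ⟨z, hz⟩ := (heq.ge q.2 : (q : Equiv.Perm (Fin (p ^ 2))) ∈ g.range)
    exact ⟨z, Subtype.ext hz⟩
  rw [card_sylow_perm_sq, ← Subgroup.index_ker, hker]
  have hKA : B'.normalCore ≤ A := (normalCore_le B').trans hB'A
  rw [← relIndex_mul_index hKA, hidx, pow_succ]
  refine Nat.mul_le_mul_right _ ?_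
  have hkerφ : B'.normalCore.subgroupOf A ≤ φ.ker := by
    intro a ha
    rw [MonoidHom.mem_ker]
    show Multiplicative.ofAdd _ = Multiplicative.ofAdd (0 : ZMod p → ZMod p)
    congr 1
    funext j
    refine (hlam_ker _).2 ?_
    obtain ⟨b, hb, hbe⟩ : y ^ (j.val : ℤ) * (a : P) * (y ^ (j.val : ℤ))⁻¹ ∈ B' :=
      normalCore_le B' ((inferInstance : B'.normalCore.Normal).conj_mem _ ha _)
    have : c (j.val : ℤ) a = b := Subtype.ext hbe.symm
    rw [this]
    exact hb
  calc p ^ p = Nat.card φ.range := by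
        have htop : φ.range = ⊤ := eq_top_iff.2 fun w _ => by
          obtain ⟨a, ha⟩ := (hWmem (Multiplicative.toAdd w)).1 (hWtop ▸ AddSubgroup.mem_top _)
          exact ⟨a, congrArg Multiplicative.ofAdd ha⟩
        rw [htop, card_top, Nat.card_congr Multiplicative.toAdd, Nat.card_fun, Nat.card_zmod]
    _ = φ.ker.index := (Subgroup.index_ker φ).symm
    _ ≤ B'.normalCore.relIndex A :=
        Nat.le_of_dvd (Nat.pos_of_ne_zero index_ne_zero_of_finite) (index_dvd_of_le hkerφ)

end CfsgLib.PGroup
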