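import Cfsg.Agent.Lib.StructC.Regular
import Cfsg.Agent.Lib.Transfer.PGroupNormal

/-!
`p`-groups, `p` odd, in which the elements of order `p` are central and form a group of order at
most `p ^ 2`: they have a characteristic series with small factors.
-/

set_option autoImplicit false
set_option linter.style.haveILetI false

universe u

namespace CfsgLib.PGroup

open Subgroup
open scoped commutatorElement

variable {p : ℕ} [Fact p.Prime]

/-- A property of normal subgroups is inherited upwards along steps of index not divisible by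
`p ^ 3`. -/
def StepClosed (p : ℕ) {G : Type u} [Group G] (P : Subgroup G → Prop) : Prop :=
  ∀ N M : Subgroup G, N.Normal → M.Normal → N ≤ M → ¬ p ^ 3 ∣ N.relIndex M → P N → P M

theorem StepClosed.comap {G : Type u} [Group G] {P : Subgroup G → Prop} (h : StepClosed p P)
    (O : Subgroup G) [O.Normal] :
    StepClosed p (fun S : Subgroup (G ⧸ O) => P (S.comap (QuotientGroup.mk' O))) := by
  intro N M hN hM hNM hd hP
  refine h _ _ (hN.comap _) (hM.comap _) (comap_mono hNM) ?_ hP
  rwa [relIndex_comap, map_comap_eq_self_of_surjective (QuotientGroup.mk'_surjective O)]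

/-- If all elements of order `p` of `X` are central in `X` then `x ^ p = y ^ p` forces
`(x y⁻¹) ^ p = 1`. -/
theorem pow_eq_pow_of_central_omega {G : Type u} [Group G] [Finite G] (hp : p ≠ 2) {X : Subgroup G}
    (hX : IsPGroup p X) (hc : ∀ x ∈ X, x ^ p = 1 → ∀ y ∈ X, y * x = x * y) {x y : G}
    (hx : x ∈ X) (hy : y ∈ X) (h : x ^ p = y ^ p) : (x * y⁻¹) ^ p = 1 := by
  have hpr := (Fact.out : p.Prime)
  induction hm : Nat.card (closure ({x, y} : Set G)) using Nat.strong_induction_on
    generalizing x y with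
  | _ m ih =>
    subst hm
    by_cases hxy : x * y = y * x
    · rw [(show Commute x y⁻¹ from (show Commute x y from hxy).inv_right).mul_pow, inv_pow, h,
        mul_inv_cancel]
    set z := y⁻¹ * x * y with hz
    have hzX : z ∈ X := mul_mem (mul_mem (inv_mem hy) hx) hy
    have hzp : z ^ p = x ^ p := by
      have e := conj_pow (a := y⁻¹) (b := x) (i := p)
      rw [inv_inv] at e
      rw [hz, e, h, mul_assoc, ((Commute.refl y).pow_left p).eq, inv_mul_cancel_left]
    have hlt : Nat.card (closure ({z, x} : Set G)) < Nat.card (closure ({x, y} : Set G)) := by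
      have h0 := CfsgLib.StructC.card_pair_conj_lt hX (x := (⟨x, hx⟩ : X)) (y := ⟨y, hy⟩)
        (fun e => hxy (congrArg Subtype.val e :))
      have hmap : ∀ u v : X, Nat.card (closure ({u, v} : Set X)) =
          Nat.card (closure ({(u : G), (v : G)} : Set G)) := fun u v => by
        rw [← card_map_of_injective X.subtype_injective, MonoidHom.map_closure, Set.image_pair]
        rfl
      rw [hmap, hmap] at h0
      rw [Set.pair_comm]
      exact h0
    have hcp := ih _ hlt hzX hx hzp rfl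
    set c := z * x⁻¹ with hcdef
    have hcc : ∀ w ∈ X, Commute w c := hc c (mul_mem hzX (inv_mem hx)) hcp
    have hcomm : ⁅y⁻¹, x⁆ = c := by
      rw [hcdef, hz, commutatorElement_def, inv_inv]
    have hpow := CfsgLib.Transfer.mul_pow_of_commute_commutator (x := x) (y := y⁻¹)
      (by rw [hcomm]; exact hcc x hx) (by rw [hcomm]; exact hcc _ (inv_mem hy)) p
    rw [hcomm, inv_pow, h, mul_inv_cancel, one_mul] at hpow
    obtain ⟨k, hk⟩ := hpr.dvd_choose_self (k := 2) (by norm_num)
      (lt_of_le_of_ne hpr.two_le (Ne.symm hp))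
    rw [hpow, hk, pow_mul, hcp, one_pow]

theorem central_omega_steps : ∀ (n : ℕ) {G : Type u} [Group G] [Finite G] (X : Subgroup G),
    X.Normal → Nat.card X = n → p ≠ 2 → IsPGroup p X →
    (∀ x ∈ X, x ^ p = 1 → ∀ y ∈ X, y * x = x * y) →
    Nat.card {x : G // x ∈ X ∧ x ^ p = 1} ≤ p ^ 2 →
    ∀ P : Subgroup G → Prop, P ⊥ → StepClosed p P → P X := by
  intro n
  induction n using Nat.strong_induction_on with
  | _ n ih => ?_
  intro G _ _ X hXn hn hp hX hc hsmall P hbot hstep
  have hpr := (Fact.out : p.Prime)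
  by_cases hX1 : X = ⊥
  · rw [hX1]; exact hbot
  let O : Subgroup G :=
    { carrier := {x | x ∈ X ∧ x ^ p = 1}
      one_mem' := ⟨one_mem X, one_pow p⟩
      mul_mem' := fun {a b} ha hb => ⟨mul_mem ha.1 hb.1, by
        rw [(show Commute a b from hc b hb.1 hb.2 a ha.1).mul_pow, ha.2, hb.2, one_mul]⟩
      inv_mem' := fun {a} ha => ⟨inv_mem ha.1, by rw [inv_pow, ha.2, inv_one]⟩ }
  haveI hOn : O.Normal := ⟨fun x hx g => ⟨hXn.conj_mem x hx.1 g, by
    rw [conj_pow, hx.2, mul_one, mul_inv_cancel]⟩⟩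
  have hOX : O ≤ X := fun x hx => hx.1
  have hOne : O ≠ ⊥ := by
    obtain ⟨j, hj⟩ := hX.exists_card_eq
    haveI : Nontrivial X := (nontrivial_iff_ne_bot X).2 hX1
    obtain ⟨z, hz⟩ := exists_prime_orderOf_dvd_card' (G := X) p (by
      have := Finite.one_lt_card (α := X)
      rcases j with _ | j
      · rw [pow_zero] at hj; omega
      · rw [hj]; exact dvd_pow_self p (by omega))
    intro h
    have h1 : (z : G) ∈ O := ⟨z.2, by rw [← hz, ← Subgroup.orderOf_coe, pow_orderOf_eq_one]⟩
    rw [h, mem_bot] at h1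
    rw [← Subgroup.orderOf_coe, h1, orderOf_one] at hz
    exact hpr.ne_one hz.symm
  have hOstep : P O := by
    refine hstep ⊥ O inferInstance hOn bot_le ?_ hbot
    rw [relIndex_bot_left]
    exact fun hd => absurd ((Nat.le_of_dvd Nat.card_pos hd).trans hsmall)
      (not_le.2 (Nat.pow_lt_pow_right hpr.one_lt (by norm_num)))
  set f := QuotientGroup.mk' O
  set Y := X.map f
  have hYn : Y.Normal := hXn.map f (QuotientGroup.mk'_surjective O)
  have hcomapY : Y.comap f = X := by
    rw [comap_map_eq, QuotientGroup.ker_mk']; exact sup_eq_left.2 hOX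
  have hlt : Nat.card Y < n := by
    rw [← hn]
    have h1 := relIndex_mul_relIndex ⊥ O X bot_le hOX
    rw [relIndex_bot_left, relIndex_bot_left] at h1
    have h2 : Nat.card Y = O.relIndex X := by
      rw [← relIndex_ker, QuotientGroup.ker_mk']
    rw [h2, ← h1]
    refine lt_mul_left ?_ (O.one_lt_card_iff_ne_bot.2 hOne)
    refine Nat.pos_of_ne_zero fun h0 => ?_
    rw [h0, mul_zero] at h1
    exact Nat.card_pos.ne' h1.symm
  have hroot : ∀ x ∈ X, (x ^ p ∈ O → ∀ y ∈ X, ⁅x, y⁆ ∈ O) := by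
    intro x hx hxp y hy
    have h1 : (y * x⁻¹ * y⁻¹) ^ p = (x⁻¹) ^ p := by
      rw [conj_pow, inv_pow]
      rw [show y * (x ^ p)⁻¹ = (x ^ p)⁻¹ * y from
        ((show Commute y (x ^ p) from hc _ hxp.1 hxp.2 y hy).inv_right).eq, mul_inv_cancel_right]
    have hx' : y * x⁻¹ * y⁻¹ ∈ X := mul_mem (mul_mem hy (inv_mem hx)) (inv_mem hy)
    have h2 := pow_eq_pow_of_central_omega hp hX hc hx' (inv_mem hx) h1
    rw [inv_inv] at h2
    refine ⟨mul_mem (mul_mem (mul_mem hx hy) (inv_mem hx)) (inv_mem hy), ?_⟩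
    have e : ⁅x, y⁆ = x * (y * x⁻¹ * y⁻¹ * x) * x⁻¹ := by rw [commutatorElement_def]; group
    rw [e, conj_pow, h2, mul_one, mul_inv_cancel]
  have hroots : ∀ w ∈ Y, w ^ p = 1 → ∃ x ∈ X, f x = w ∧ x ^ p ∈ O := by
    rintro _ ⟨x, hx, rfl⟩ hw
    rw [← map_pow] at hw
    exact ⟨x, hx, rfl, (QuotientGroup.eq_one_iff _).1 hw⟩
  have key := ih _ hlt Y hYn rfl hp (hX.map f) ?_ ?_
    (fun S => P (S.comap f)) ?_ (hstep.comap O)
  · simpa [hcomapY] using key
  · intro w hw hwp v hv
    obtain ⟨x, hx, rfl, hxp⟩ := hroots w hw hwp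
    obtain ⟨y, hy, rfl⟩ := hv
    refine (commutatorElement_eq_one_iff_mul_comm.1 ?_).symm
    rw [← map_commutatorElement]
    exact (QuotientGroup.eq_one_iff _).2 (hroot x hx hxp y hy)
  · choose g hgX hgw hgp using hroots
    refine le_trans (Nat.card_le_card_of_injective
      (fun w : {w // w ∈ Y ∧ w ^ p = 1} =>
        (⟨g w.1 w.2.1 w.2.2 ^ p, (hgp w.1 w.2.1 w.2.2)⟩ : {x : G // x ∈ X ∧ x ^ p = 1})) ?_) hsmall
    intro a b hab
    have h := congrArg Subtype.val hab
    have h1 := pow_eq_pow_of_central_omega hp hX hc (hgX a.1 a.2.1 a.2.2) (hgX b.1 b.2.1 b.2.2) h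
    have h2 : f (g a.1 a.2.1 a.2.2 * (g b.1 b.2.1 b.2.2)⁻¹) = 1 :=
      (QuotientGroup.eq_one_iff _).2 ⟨mul_mem (hgX _ _ _) (inv_mem (hgX _ _ _)), h1⟩
    rw [map_mul, map_inv, hgw, hgw, mul_inv_eq_one] at h2
    exact Subtype.ext h2
  · show P ((⊥ : Subgroup (G ⧸ O)).comap f)
    rw [MonoidHom.comap_bot, QuotientGroup.ker_mk']
    exact hOstep

end CfsgLib.PGroup
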