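import Cfsg.Prelude.Def_PLocal
import Cfsg.Prelude.Def_OddOrderLocal
import Cfsg.Agent.Lib.Transfer.RankTwo
import Cfsg.Agent.Lib.Transfer.UniqueOrderP
import Cfsg.Agent.Lib.Transfer.MaxClass
import Cfsg.Agent.Lib.PGroup.RegularPower

/-!
`p`-groups, `p > 3`, with `|Ω₁| ≤ p ^ 2`: quotients inherit the bound, and they are metacyclic.
-/

set_option autoImplicit false
set_option linter.style.haveILetI false

universe u

namespace CfsgLib.PGroup

open Subgroup
open scoped commutatorElement

variable {p : ℕ} [Fact p.Prime]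

theorem closure_pow_congr {A B : Type*} [Group A] [Group B] (e : A ≃* B) :
    Nat.card (closure {x : B | x ^ p = 1}) = Nat.card (closure {x : A | x ^ p = 1}) := by
  have h : closure {x : B | x ^ p = 1} = (closure {x : A | x ^ p = 1}).map e.toMonoidHom := by
    rw [MonoidHom.map_closure]
    congr 1
    ext x
    constructor
    · intro hx
      refine ⟨e.symm x, ?_, e.apply_symm_apply x⟩
      show e.symm x ^ p = 1
      rw [← map_pow, hx, map_one]
    · rintro ⟨y, hy, rfl⟩
      show (e y) ^ p = 1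
      rw [← map_pow, hy, map_one]
  rw [h]
  exact card_map_of_injective e.injective

theorem card_omega_quotient_prime {R : Type u} [Group R] [Finite R] (hp3 : 3 < p)
    (hR : IsPGroup p R) (hO : Nat.card (closure {x : R | x ^ p = 1}) ≤ p ^ 2) (Z : Subgroup R)
    [Z.Normal] (hZ : Nat.card Z = p) :
    Nat.card (closure {x : R ⧸ Z | x ^ p = 1}) ≤ p ^ 2 := by
  have hp := (Fact.out : p.Prime)
  by_contra hbig
  have hQ : IsPGroup p (R ⧸ Z) := hR.to_quotient Z
  have hnc : ¬ IsCyclic (R ⧸ Z) := by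
    intro hc
    apply hbig
    classical
    haveI := Fintype.ofFinite (R ⧸ Z)
    letI := IsCyclic.commGroup (α := R ⧸ Z)
    have hle : closure {x : R ⧸ Z | x ^ p = 1} ≤ (powMonoidHom p : R ⧸ Z →* R ⧸ Z).ker :=
      (closure_le _).2 fun x hx => hx
    refine (card_le_of_le hle).trans ?_
    refine le_trans ?_ (Nat.le_self_pow two_ne_zero p)
    refine le_trans (le_of_eq ?_) (IsCyclic.card_pow_eq_one_le (α := R ⧸ Z) hp.pos)
    rw [Nat.card_eq_fintype_card, Fintype.card_subtype]
    exact congrArg Finset.card (Finset.filter_congr fun a _ => Iff.rfl)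
  obtain ⟨E, hEn, hEc, hEe, hE⟩ :=
    CfsgLib.Transfer.exists_normal_elementary_sq (by omega) hQ hnc
  haveI := hEn
  obtain ⟨x, hx, hxE⟩ : ∃ x : R ⧸ Z, x ^ p = 1 ∧ x ∉ E := by
    by_contra! hall
    exact hbig ((card_le_of_le ((closure_le _).2 hall)).trans hE.le)
  set M := E ⊔ zpowers x with hM
  have hMcard : Nat.card M = p ^ 3 := by
    have hi : E.relIndex M = p := by
      rw [hM, relIndex_sup_left]
      have h1 := relIndex_ker (K := zpowers x) (QuotientGroup.mk' E)
      rw [QuotientGroup.ker_mk'] at h1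
      rw [h1, MonoidHom.map_zpowers, Nat.card_zpowers]
      refine orderOf_eq_prime ?_ fun h => hxE ((QuotientGroup.eq_one_iff x).1 h)
      rw [← map_pow, hx, map_one]
    have h2 := relIndex_mul_relIndex ⊥ E M bot_le le_sup_left
    rw [relIndex_bot_left, relIndex_bot_left, hi, hE] at h2
    rw [← h2]; ring
  have h3 : ∀ {X : Type u} [Group X] [Finite X], Nat.card X ∣ p ^ 4 → ∀ a b c : X,
      ⁅⁅a, b⁆, c⁆ ∈ center X := by
    intro X _ _ hX a b c
    rw [mem_center_iff]
    intro g
    have h := commutator_mem_commutator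
      (commutator_mem_commutator (commutator_mem_commutator (mem_top a) (mem_top b)) (mem_top c))
      (mem_top g)
    rw [← commutator_def, CfsgLib.Transfer.class_three_of_card_dvd hX, mem_bot,
      commutatorElement_eq_one_iff_mul_comm] at h
    exact h.symm
  have hM4 : Nat.card M ∣ p ^ 4 := hMcard ▸ pow_dvd_pow p (by norm_num)
  have hMgen : ∀ y : M, y ∈ closure {z : M | z ^ p = 1} := by
    intro y
    have hle : M ≤ (closure {z : M | z ^ p = 1}).map M.subtype := by
      rw [hM, sup_le_iff]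
      refine ⟨fun z hz => ⟨⟨z, mem_sup_left hz⟩, subset_closure (Subtype.ext (hEe z hz)), rfl⟩,
        zpowers_le.2 ⟨⟨x, mem_sup_right (mem_zpowers x)⟩, subset_closure (Subtype.ext hx), rfl⟩⟩
    obtain ⟨w, hw, hwy⟩ := hle y.2
    exact (Subtype.ext hwy : w = y) ▸ hw
  have hMexp : ∀ y : M, y ^ p = 1 := fun y =>
    CfsgLib.Transfer.pow_eq_one_of_mem_closure_class_three hp hp3 (h3 hM4) (hMgen y)
  have hMc : ∀ a b c : M, ⁅⁅a, b⁆, c⁆ = 1 := by
    intro a b c
    haveI := (hQ.to_subgroup M).isNilpotent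
    have hcl : Group.nilpotencyClass M ≤ 2 :=
      (CfsgLib.Transfer.nilpotencyClass_le_of_card hMcard).trans (by simp)
    have h := Subgroup.lowerCentralSeries_eq_bot_iff_nilpotencyClass_le.2 hcl
    have hm : ⁅⁅a, b⁆, c⁆ ∈ (⊤ : Subgroup M).lowerCentralSeries 2 :=
      commutator_mem_commutator (commutator_mem_commutator (mem_top a) (mem_top b)) (mem_top c)
    rwa [h, mem_bot] at hm
  -- the preimage of `M` and its `p`-th power map
  set M' := M.comap (QuotientGroup.mk' Z)
  have hM'card : Nat.card M' = p ^ 4 := by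
    have hZM : Z ≤ M' := fun z hz => by
      show (z : R ⧸ Z) ∈ M
      rw [(QuotientGroup.eq_one_iff z).2 hz]; exact one_mem _
    have hi : Z.relIndex M' = p ^ 3 := by
      conv_lhs => rw [← QuotientGroup.ker_mk' Z]
      rw [relIndex_ker, map_comap_eq_self_of_surjective (QuotientGroup.mk'_surjective Z), hMcard]
    have h2 := relIndex_mul_relIndex ⊥ Z M' bot_le hZM
    rw [relIndex_bot_left, relIndex_bot_left, hi, hZ] at h2
    rw [← h2]; ring
  let red : M' →* M :=
    ((QuotientGroup.mk' Z).comp M'.subtype).codRestrict M fun y => y.2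
  have hred : ∀ y : M', red y = 1 → (y : R) ∈ Z := fun y hy =>
    (QuotientGroup.eq_one_iff _).1 (congrArg Subtype.val hy)
  have hpowZ : ∀ y : M', (y : R) ^ p ∈ Z := fun y =>
    hred (y ^ p) (by rw [map_pow, hMexp])
  have htriZ : ∀ a b c : M', ((⁅⁅a, b⁆, c⁆ : M') : R) ∈ Z := fun a b c =>
    hred _ (by rw [map_commutatorElement, map_commutatorElement, hMc])
  have hZc : ∀ z ∈ Z, ∀ g : R, g * z = z * g := by
    haveI : Nontrivial R := by
      rw [← Finite.one_lt_card_iff_nontrivial]
      exact lt_of_lt_of_le (hZ.symm ▸ hp.one_lt) Z.card_le_card_group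
    obtain ⟨M₀, hM₀n, -, hM₀c, hM₀, -⟩ := CfsgLib.Transfer.exists_chief_below hR Z
      (fun h => by rw [h, card_bot] at hZ; exact hp.ne_one hZ.symm)
    have hbot : M₀ = ⊥ := Subgroup.card_eq_one.1 (by
      rw [hZ] at hM₀c
      exact (Nat.eq_of_mul_eq_mul_left hp.pos (by rw [← hM₀c, mul_one])))
    intro z hz g
    have := hM₀ z hz g
    rw [hbot, mem_bot, mul_inv_eq_one, mul_inv_eq_iff_eq_mul] at this
    exact this
  have hZp : ∀ z ∈ Z, z ^ p = 1 := fun z hz => by
    have h := congrArg Subtype.val (pow_card_eq_one' (x := (⟨z, hz⟩ : Z)))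
    rwa [hZ] at h
  have hc3 := h3 (X := M') (hM'card ▸ dvd_rfl)
  obtain ⟨k, hk⟩ := hp.dvd_choose_self (k := 2) (by norm_num) (by omega)
  obtain ⟨l, hl⟩ : p ∣ (p + 1).choose 3 := by
    rw [show (p + 1).choose 3 = p.choose 2 + p.choose 3 from Nat.choose_succ_succ p 2]
    exact dvd_add ⟨k, hk⟩ (hp.dvd_choose_self (by norm_num) hp3)
  have htri : ∀ a b c : M', ⁅⁅a, b⁆, c⁆ ^ p = 1 := fun a b c =>
    Subtype.ext (hZp _ (htriZ a b c))
  have hcom : ∀ a b : M', ⁅b, a⁆ ^ p = 1 := by
    intro a b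
    set c := ⁅b, a⁆ with hc
    have h1 : c * a = b * a * b⁻¹ := by rw [hc, commutatorElement_def]; group
    have h2 : (c * a) ^ p = a ^ p := by
      rw [h1, conj_pow]
      refine Subtype.ext ?_
      show (b : R) * (a : R) ^ p * (b : R)⁻¹ = (a : R) ^ p
      rw [hZc _ (hpowZ a) b, mul_inv_cancel_right]
    have hac : ⁅a, c⁆ ∈ center M' := by
      rw [show ⁅a, c⁆ = ⁅c, a⁆⁻¹ from (commutatorElement_inv c a).symm, hc]
      exact inv_mem (hc3 b a a)
    have hd : ⁅⁅a, c⁆, c⁆ = 1 :=
      commutatorElement_eq_one_iff_mul_comm.2 (mem_center_iff.1 hac c).symm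
    have he : ⁅⁅a, c⁆, a⁆ = 1 :=
      commutatorElement_eq_one_iff_mul_comm.2 (mem_center_iff.1 hac a).symm
    rw [CfsgLib.Transfer.mul_pow_class_three (by rw [hd]; exact one_mem _)
      (by rw [he]; exact one_mem _), hd, he, one_pow, one_pow, mul_one, mul_one, hk, pow_mul,
      show ⁅a, c⁆ = ⁅c, a⁆⁻¹ from (commutatorElement_inv c a).symm, inv_pow, hc, htri, inv_one,
      one_pow, mul_one] at h2
    exact mul_eq_right.1 h2
  let π : M' →* M' := MonoidHom.mk' (fun y => y ^ p) fun a b => by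
    rw [CfsgLib.Transfer.mul_pow_class_three (hc3 b a a) (hc3 b a b), hk, hl, pow_mul, hcom,
      pow_mul, htri, show 2 * (p * l) = p * (2 * l) by ring, pow_mul, htri]
    simp
  have hrange : Nat.card π.range ≤ p := by
    refine le_trans ?_ hZ.le
    refine Nat.card_le_card_of_injective (fun y => ⟨((y : M') : R), ?_⟩) fun a b h => ?_
    · obtain ⟨w, hw⟩ := y.2
      rw [← hw]
      exact hpowZ w
    · exact Subtype.ext (Subtype.ext (congrArg (fun z : Z => (z : R)) h))
  have hker : Nat.card π.ker ≤ p ^ 2 := by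
    refine le_trans ?_ hO
    refine Nat.card_le_card_of_injective (fun y => ⟨((y : M') : R), subset_closure ?_⟩) fun a b h =>
      Subtype.ext (Subtype.ext (congrArg Subtype.val h :))
    exact congrArg Subtype.val (show (y : M') ^ p = 1 from y.2)
  have h2 := π.ker.card_mul_index
  rw [index_ker, hM'card] at h2
  have : p ^ 4 ≤ p ^ 2 * p := h2 ▸ Nat.mul_le_mul hker hrange
  rw [← pow_succ] at this
  exact absurd this (not_le.2 (Nat.pow_lt_pow_right hp.one_lt (by norm_num)))

/-- `|Ω₁(R)| ≤ p ^ 2` is inherited by quotients, `p > 3`. -/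
theorem card_omega_quotient : ∀ (n : ℕ) {R : Type u} [Group R] [Finite R], Nat.card R = n →
    3 < p → IsPGroup p R → Nat.card (closure {x : R | x ^ p = 1}) ≤ p ^ 2 →
    ∀ (T : Subgroup R) [T.Normal], Nat.card (closure {x : R ⧸ T | x ^ p = 1}) ≤ p ^ 2 := by
  intro n
  induction n using Nat.strong_induction_on with
  | _ n ih => ?_
  intro R _ _ hn hp3 hR hO T _
  have hp := (Fact.out : p.Prime)
  by_cases hT : T = ⊥
  · subst hT
    rw [closure_pow_congr (p := p) (QuotientGroup.quotientBot (G := R)).symm]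
    exact hO
  obtain ⟨j, hj⟩ := (hR.to_subgroup T).exists_card_eq
  have hj0 : j ≠ 0 := by
    rintro rfl
    exact hT (Subgroup.card_eq_one.1 hj)
  obtain ⟨Z, hZn, hZT, hZ⟩ := CfsgLib.Transfer.exists_normal_le_card hR T (k := 1)
    (hj ▸ pow_dvd_pow p (Nat.one_le_iff_ne_zero.2 hj0))
  rw [pow_one] at hZ
  haveI := hZn
  have h1 := card_omega_quotient_prime hp3 hR hO Z hZ
  have hlt : Nat.card (R ⧸ Z) < n := by
    rw [← hn, ← Subgroup.index_eq_card, ← Z.card_mul_index, hZ]
    exact lt_mul_left (Nat.pos_of_ne_zero index_ne_zero_of_finite) hp.one_lt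
  have h2 := ih _ hlt rfl hp3 (hR.to_quotient Z) h1 (T.map (QuotientGroup.mk' Z))
  exact (closure_pow_congr (p := p) (QuotientGroup.quotientQuotientEquivQuotient Z T hZT)).symm ▸ h2

theorem isMetacyclic_of_gen {R : Type u} [Group R] (v b : R) (hn : (zpowers v).Normal)
    (h : closure ({v, b} : Set R) = ⊤) : Cfsg.IsMetacyclic R := by
  refine ⟨zpowers v, hn, inferInstance, ⟨(b : R ⧸ zpowers v), fun z => ?_⟩⟩
  induction z using QuotientGroup.induction_on with
  | _ g =>
    have hg : g ∈ closure ({v, b} : Set R) := h ▸ mem_top g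
    have hle : closure ({v, b} : Set R) ≤
        (zpowers (b : R ⧸ zpowers v)).comap (QuotientGroup.mk' (zpowers v)) := by
      rw [closure_le]
      rintro z (rfl | rfl)
      · show (z : R ⧸ zpowers z) ∈ zpowers (b : R ⧸ zpowers z)
        rw [(QuotientGroup.eq_one_iff z).2 (mem_zpowers z)]
        exact one_mem _
      · exact mem_zpowers _
    exact mem_zpowers_iff.1 (hle hg)

end CfsgLib.PGroup
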