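import Cfsg.Agent.Lib.PGroup.OddActionTwo
import Cfsg.Agent.Lib.PGroup.MetacyclicTwoAut
import Cfsg.Agent.Lib.PGroup.SmallOmega
import Cfsg.Agent.Lib.OddLocal.PGroup

/-!
Invariant noncentral abelian normal subgroups of `2`-groups without normal `E₈` are homocyclic of
rank two, with an automorphism acting without fixed points.
-/

set_option autoImplicit false
set_option linter.style.haveILetI false

universe u

namespace CfsgLib.PGroup

open Subgroup
open scoped commutatorElement

variable {X : Type u} [Group X]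

/-- `W` is homocyclic of rank two and exponent `2 ^ m`, with `D = W[2]`; `φ` acts on it without
fixed points and with order three. -/
structure HomoData (W D : Subgroup X) (φ : MulAut X) (m : ℕ) : Prop where
  inv : ∀ w ∈ W, φ w ∈ W
  comm : ∀ a ∈ W, ∀ b ∈ W, a * b = b * a
  one_le : 1 ≤ m
  pow_eq : ∀ w ∈ W, w ^ (2 ^ m) = 1
  sq_root : ∀ w ∈ W, w ^ (2 ^ (m - 1)) = 1 → ∃ v ∈ W, v * v = w
  fpf : ∀ w ∈ W, φ w = w → w = 1
  cube : ∀ w ∈ W, φ (φ (φ w)) = w
  memD : ∀ w, w ∈ D ↔ w ∈ W ∧ w * w = 1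
  cardD : Nat.card D = 4
  gen : ∀ a ∈ W, (∀ v ∈ W, v * v ≠ a) → closure ({a, φ a} : Set X) = W

namespace HomoData

variable {W D : Subgroup X} {φ : MulAut X} {m : ℕ}

theorem le (h : HomoData W D φ m) : D ≤ W := fun w hw => ((h.memD w).1 hw).1

theorem sq (h : HomoData W D φ m) {w : X} (hw : w ∈ D) : w * w = 1 := ((h.memD w).1 hw).2

theorem invD (h : HomoData W D φ m) {w : X} (hw : w ∈ D) : φ w ∈ D :=
  (h.memD _).2 ⟨h.inv w (h.le hw), by rw [← map_mul, h.sq hw, map_one]⟩

theorem norm (h : HomoData W D φ m) {w : X} (hw : w ∈ W) : w * φ w * φ (φ w) = 1 := by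
  refine h.fpf _ (mul_mem (mul_mem hw (h.inv w hw)) (h.inv _ (h.inv w hw))) ?_
  rw [map_mul, map_mul, h.cube w hw]
  rw [h.comm _ (mul_mem (h.inv w hw) (h.inv _ (h.inv w hw))) _ hw, mul_assoc]

/-- `φ` permutes the three involutions of `D` transitively. -/
theorem mem_four [Finite X] (h : HomoData W D φ m) {s : X} (hs : s ∈ D) (hs1 : s ≠ 1) {t : X}
    (ht : t ∈ D) : t = 1 ∨ t = s ∨ t = φ s ∨ t = φ (φ s) := by
  classical
  by_contra hne
  push Not at hne
  obtain ⟨h1, h2, h3, h4⟩ := hne
  have e1 : φ s ≠ 1 := fun e => hs1 (φ.injective (e.trans (map_one φ).symm))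
  have e2 : φ (φ s) ≠ 1 := fun e => e1 (φ.injective (e.trans (map_one φ).symm))
  have e3 : φ s ≠ s := fun e => hs1 (h.fpf s (h.le hs) e)
  have e4 : φ (φ s) ≠ φ s := fun e => e3 (φ.injective e)
  have e5 : φ (φ s) ≠ s := fun e => by
    have := congrArg φ e
    rw [h.cube s (h.le hs)] at this
    exact e3 this.symm
  set F : Finset X := {1, s, φ s, φ (φ s), t}
  have hF : F.card = 5 := by
    simp [F, Ne.symm hs1, Ne.symm e1, Ne.symm e2, Ne.symm h1, Ne.symm e3, Ne.symm e5, Ne.symm h2,
      Ne.symm e4, Ne.symm h3, Ne.symm h4]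
  have hmem : ∀ w ∈ F, w ∈ D := by
    intro w hw
    simp only [F, Finset.mem_insert, Finset.mem_singleton] at hw
    rcases hw with rfl | rfl | rfl | rfl | rfl
    exacts [one_mem D, hs, h.invD hs, h.invD (h.invD hs), ht]
  have := Nat.card_le_card_of_injective (fun w : F => (⟨w.1, hmem w.1 w.2⟩ : D))
    fun a b e => Subtype.ext (Subtype.mk.inj e)
  rw [Nat.card_eq_finsetCard, hF, h.cardD] at this
  omega

/-- Minimal exponent descent. -/
theorem exists_min_pow (h : HomoData W D φ m) {w : X} (hw : w ∈ W) :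
    ∃ s, s ≤ m ∧ w ^ (2 ^ s) = 1 ∧ ∀ t, t < s → w ^ (2 ^ t) ≠ 1 := by
  classical
  have hex : ∃ s, w ^ (2 ^ s) = 1 := ⟨m, h.pow_eq w hw⟩
  exact ⟨Nat.find hex, Nat.find_min' hex (h.pow_eq w hw), Nat.find_spec hex,
    fun t ht => Nat.find_min hex ht⟩

/-- An element of `W` centralized by `x` that is not an involution gives one of order four. -/
theorem exists_four (h : HomoData W D φ m) {w : X} (hw : w ∈ W) (hw2 : w * w ≠ 1) :
    ∃ k : ℕ, (w ^ k) * (w ^ k) ∈ D ∧ (w ^ k) * (w ^ k) ≠ 1 := by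
  obtain ⟨s, -, hs, hmin⟩ := h.exists_min_pow hw
  have h2 : 2 ≤ s := by
    by_contra hlt
    refine hw2 ?_
    have : s = 0 ∨ s = 1 := by omega
    rcases this with rfl | rfl
    · rw [pow_zero, pow_one] at hs; rw [hs, one_mul]
    · rw [pow_one, _root_.sq] at hs; exact hs
  obtain ⟨j, rfl⟩ : ∃ j, s = j + 2 := ⟨s - 2, by omega⟩
  refine ⟨2 ^ j, ?_, ?_⟩
  · rw [← pow_add, ← two_mul, ← pow_succ']
    refine (h.memD _).2 ⟨pow_mem hw _, ?_⟩
    rw [← pow_add, ← two_mul, ← pow_succ']
    exact hs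
  · rw [← pow_add, ← two_mul, ← pow_succ']
    exact hmin _ (by omega)

end HomoData

/-- Restriction of invariant automorphisms to a subgroup. -/
noncomputable def restrictAct (A : Subgroup (MulAut X)) (W : Subgroup X) (hW : IsAInvariant A W) :
    A →* MulAut W :=
  MonoidHom.mk' (fun α =>
    { toFun := fun w => ⟨(α : MulAut X) w, hW _ α.2 w w.2⟩
      invFun := fun w => ⟨(α : MulAut X)⁻¹ w, hW _ (inv_mem α.2) w w.2⟩
      left_inv := fun w => Subtype.ext (MulAut.inv_apply_self X (α : MulAut X) (w : X))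
      right_inv := fun w => Subtype.ext (MulAut.apply_inv_self X (α : MulAut X) (w : X))
      map_mul' := fun a b => Subtype.ext (map_mul (α : MulAut X) (a : X) (b : X)) })
    fun α β => MulEquiv.ext fun w => Subtype.ext rfl

theorem restrictAct_coe (A : Subgroup (MulAut X)) (W : Subgroup X) (hW : IsAInvariant A W)
    (α : A) (w : W) : ((restrictAct A W hW α w : W) : X) = (α : MulAut X) (w : X) := rfl

theorem isMetacyclic_of_index_frattini {W : Type u} [Group W] [Finite W] (hW : IsPGroup 2 W)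
    (hc : ∀ a b : W, a * b = b * a) (h4 : (frattini W).index ≤ 4) : Cfsg.IsMetacyclic W := by
  have hnorm : ∀ S : Subgroup W, S.Normal := fun S => ⟨fun s hs g => by
    rw [hc g s, mul_inv_cancel_right]; exact hs⟩
  suffices ∃ a b : W, closure ({a, b} : Set W) ⊔ frattini W = ⊤ by
    obtain ⟨a, b, hab⟩ := this
    exact isMetacyclic_of_gen a b (hnorm _) (frattini_nongenerating hab)
  by_cases htop : frattini W = ⊤
  · exact ⟨1, 1, by rw [htop, sup_top_eq]⟩
  obtain ⟨a, ha⟩ : ∃ a, a ∉ frattini W := by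
    by_contra hall
    push Not at hall
    exact htop (top_le_iff.1 fun g _ => hall g)
  set S := zpowers a ⊔ frattini W
  have hlt : ∀ {P Q : Subgroup W}, P < Q → 2 * Q.index ≤ P.index := by
    intro P Q hPQ
    rw [← relIndex_mul_index hPQ.le]
    refine Nat.mul_le_mul_right _ ?_
    have h1 : P.relIndex Q ≠ 1 := fun e => hPQ.not_ge (relIndex_eq_one.1 e)
    have h0 : P.relIndex Q ≠ 0 := index_ne_zero_of_finite
    omega
  have hS : frattini W < S :=
    lt_of_le_of_ne le_sup_right fun e => ha (e ▸ mem_sup_left (mem_zpowers a))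
  by_cases hStop : S = ⊤
  · refine ⟨a, a, top_le_iff.1 ?_⟩
    rw [← hStop]
    exact sup_le_sup_right (zpowers_le.2 (subset_closure (Set.mem_insert _ _))) _
  obtain ⟨b, hb⟩ : ∃ b, b ∉ S := by
    by_contra hall
    push Not at hall
    exact hStop (top_le_iff.1 fun g _ => hall g)
  refine ⟨a, b, ?_⟩
  set T := zpowers b ⊔ S
  have hT : S < T := lt_of_le_of_ne le_sup_right fun e => hb (e ▸ mem_sup_left (mem_zpowers b))
  have h1 : T.index ≤ 1 := by
    have := hlt hS
    have := hlt hT
    omega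
  have hTtop : T = ⊤ :=
    index_eq_one.1 (le_antisymm h1 (Nat.one_le_iff_ne_zero.2 index_ne_zero_of_finite))
  refine top_le_iff.1 ?_
  rw [← hTtop]
  have ha' : zpowers a ≤ closure ({a, b} : Set W) :=
    zpowers_le.2 (subset_closure (Set.mem_insert a _))
  have hb' : zpowers b ≤ closure ({a, b} : Set W) :=
    zpowers_le.2 (subset_closure (Set.mem_insert_of_mem a (Set.mem_singleton b)))
  have hS' : S ≤ closure ({a, b} : Set W) ⊔ frattini W :=
    sup_le (le_trans ha' le_sup_left) le_sup_right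
  exact sup_le (le_trans hb' le_sup_left) hS'

/-- An invariant noncentral normal abelian subgroup is homocyclic of rank two. -/
theorem exists_homoData [Finite X] (hX : IsPGroup 2 X)
    (hscn : ¬ ∃ A : Subgroup X, A.Normal ∧ Subgroup.centralizer (A : Set X) = A ∧
      ∃ E : Subgroup X, E ≤ A ∧ Cfsg.IsElementaryAbelian 2 E ∧ Nat.card E = 8)
    {A : Subgroup (MulAut X)} (hA : Odd (Nat.card A)) (hfull : IsFullAction A)
    (W : Subgroup X) (hWn : W.Normal) (hc : ∀ a ∈ W, ∀ b ∈ W, a * b = b * a)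
    (hinv : IsAInvariant A W) (hmove : ∃ α ∈ A, ∃ w ∈ W, α w ≠ w) :
    ∃ (φ : MulAut X) (D : Subgroup X) (m : ℕ), φ ∈ A ∧ HomoData W D φ m ∧ D ≤ center X ∧
      (¬ W ≤ center X → 2 ≤ m) := by
  classical
  haveI := Fact.mk Nat.prime_two
  haveI : Finite (MulAut X) := Finite.of_injective (fun e => (e : X → X)) DFunLike.coe_injective
  have hWc : ∀ a b : W, a * b = b * a := fun a b => Subtype.ext (hc a a.2 b b.2)
  letI : CommGroup W := { (inferInstance : Group W) with mul_comm := hWc }
  have hWp : IsPGroup 2 W := hX.to_subgroup W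
  set ρ := restrictAct A W hinv
  -- the involutions
  set sq2 : W →* W := powMonoidHom 2
  set D := sq2.ker.map W.subtype with hD
  have hmemD : ∀ w, w ∈ D ↔ w ∈ W ∧ w * w = 1 := by
    intro w
    constructor
    · rintro ⟨v, hv, rfl⟩
      have hv' : v ^ 2 = 1 := hv
      rw [_root_.sq] at hv'
      exact ⟨v.2, congrArg Subtype.val hv'⟩
    · rintro ⟨hw, h2⟩
      refine ⟨⟨w, hw⟩, ?_, rfl⟩
      show (⟨w, hw⟩ : W) ^ 2 = 1
      rw [_root_.sq]
      exact Subtype.ext h2
  haveI hDn : D.Normal := ⟨fun d hd x => by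
    obtain ⟨hdW, hd2⟩ := (hmemD d).1 hd
    refine (hmemD _).2 ⟨hWn.conj_mem d hdW x, ?_⟩
    calc x * d * x⁻¹ * (x * d * x⁻¹) = x * (d * d) * x⁻¹ := by group
      _ = 1 := by rw [hd2, mul_one, mul_inv_cancel]⟩
  have hD4 : Nat.card D ≤ 4 := card_normal_elementary_le_four hX hscn D
    (fun a ha b hb => hc a ((hmemD a).1 ha).1 b ((hmemD b).1 hb).1) fun a ha => ((hmemD a).1 ha).2
  have hidx : sq2.range.index = Nat.card D := by
    rw [hD, card_map_of_injective W.subtype_injective]
    have h1 := sq2.ker.card_mul_index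
    have h2 := sq2.range.card_mul_index
    rw [index_ker] at h1
    have : Nat.card sq2.range * sq2.range.index = Nat.card sq2.range * Nat.card sq2.ker := by
      rw [h2, ← h1, mul_comm]
    exact Nat.eq_of_mul_eq_mul_left Nat.card_pos this
  have hΦ : frattini W = sq2.range := by
    refine le_antisymm (CfsgLib.Transfer.frattini_le_of_elementary_quotient (p := 2) sq2.range
      (fun a b => by rw [commutatorElement_eq_one_iff_mul_comm.2 (hWc a b)]; exact one_mem _)
      (fun a => ⟨a, rfl⟩)) ?_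
    rintro _ ⟨a, rfl⟩
    exact CfsgLib.StructC.pow_mem_frattini hWp a
  have hm : Cfsg.IsMetacyclic W := isMetacyclic_of_index_frattini hWp hWc (by rw [hΦ, hidx]; exact hD4)
  -- an element of `A` of order three on `W`
  obtain ⟨α, hα⟩ : ∃ α : A, ρ α ≠ 1 := by
    by_contra hall
    push Not at hall
    obtain ⟨β, hβ, y, hy, hne⟩ := hmove
    refine hne ?_
    have := congrArg (fun θ : MulAut W => ((θ ⟨y, hy⟩ : W) : X)) (hall ⟨β, hβ⟩)
    simpa [ρ, restrictAct_coe] using this
  obtain ⟨α', h3⟩ : ∃ α' : A, orderOf (ρ α') = 3 := by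
    set o := orderOf (ρ α)
    have ho : Odd o := hA.of_dvd_nat ((orderOf_map_dvd ρ α).trans (orderOf_dvd_natCard α))
    obtain ⟨q, hq, hqo⟩ := Nat.exists_prime_and_dvd (n := o) (fun e => hα (orderOf_eq_one_iff.1 e))
    refine ⟨α ^ (o / q), ?_⟩
    have hq' : orderOf (ρ (α ^ (o / q))) = q := by
      rw [map_pow, orderOf_pow, Nat.gcd_eq_right (Nat.div_dvd_of_dvd hqo)]
      exact Nat.div_div_self hqo ho.pos.ne'
    rw [hq']
    by_contra hne
    have hq2 : q ≠ 2 := fun e => (Nat.not_even_iff_odd.2 ho) (even_iff_two_dvd.2 (e ▸ hqo))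
    haveI := Fact.mk hq
    have := CfsgLib.Invol.aut_eq_one_of_metacyclic hWp hm (ρ (α ^ (o / q)))
      (by rw [hq']; exact (Nat.coprime_primes hq Nat.prime_two).2 hq2)
      (by rw [hq']; exact (Nat.coprime_primes hq Nat.prime_three).2 hne)
    rw [this, orderOf_one] at hq'
    exact hq.ne_one hq'.symm
  set ψ := ρ α'
  obtain ⟨hgen, hprod, hnc⟩ := metacyclic_two_frattini hWp hm ψ h3
  obtain ⟨m, hm1, hexp, -, ⟨e⟩⟩ := homocyclic_of_fpf hWp hWc ψ hnc hgen
  have hψ : ∀ w : W, ((ψ w : W) : X) = (α' : MulAut X) (w : X) := fun w => rfl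
  have hDcard : Nat.card D = 4 := by
    refine le_antisymm hD4 ?_
    by_contra hlt
    rw [← hidx, ← hΦ] at hlt
    obtain ⟨j, hj⟩ := hWp.index (frattini W)
    have hj1 : j ≤ 1 := by
      by_contra hj1
      refine hlt ?_
      rw [hj]
      exact le_trans (by norm_num) (Nat.pow_le_pow_right (by norm_num) (show 2 ≤ j by omega))
    apply hnc
    haveI : IsCyclic (W ⧸ frattini W) := by
      have hcard : Nat.card (W ⧸ frattini W) = 2 ^ j := by rw [← index_eq_card]; exact hj
      interval_cases j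
      · haveI : Subsingleton (W ⧸ frattini W) := (Nat.card_eq_one_iff_unique.1 (by simpa using hcard)).1
        infer_instance
      · exact isCyclic_of_prime_card (p := 2) (by simpa using hcard)
    obtain ⟨g, hg⟩ := IsCyclic.exists_generator (α := W ⧸ frattini W)
    obtain ⟨g, rfl⟩ := QuotientGroup.mk_surjective g
    have : zpowers g ⊔ frattini W = ⊤ := by
      refine top_le_iff.1 fun w _ => ?_
      obtain ⟨i, hi⟩ := hg (w : W ⧸ frattini W)
      have hi' : ((g ^ i : W) : W ⧸ frattini W) = (w : W ⧸ frattini W) := hi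
      rw [← mul_inv_cancel_left (g ^ i) w]
      exact mul_mem (mem_sup_left (zpow_mem (mem_zpowers g) i))
        (mem_sup_right (QuotientGroup.eq.1 hi'))
    exact ⟨g, fun w => (frattini_nongenerating this).ge (mem_top w)⟩
  have hroot : ∀ w : W, w ^ (2 ^ (m - 1)) = 1 → w ∈ sq2.range := by
    intro w hw
    by_contra hwr
    rw [← hΦ] at hwr
    set K : Subgroup W := (powMonoidHom (2 ^ (m - 1)) : W →* W).ker
    have hK : K = ⊤ := top_le_iff.1 ((hgen w).resolve_left hwr ▸ (closure_le _).2 (by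
      rintro v (rfl | rfl)
      · exact hw
      · show (ψ w) ^ 2 ^ (m - 1) = 1
        rw [← map_pow, hw, map_one]))
    have h0 : (e.symm (Multiplicative.ofAdd 1, 1)) ^ 2 ^ (m - 1) = 1 := hK.ge (mem_top _)
    rw [← map_pow, map_eq_one_iff e.symm e.symm.injective] at h0
    have h1 := congrArg (fun z => Multiplicative.toAdd z.1) h0
    simp only [Prod.pow_fst, toAdd_pow, toAdd_ofAdd, Prod.fst_one, toAdd_one, nsmul_one,
      ZMod.natCast_eq_zero_iff] at h1
    rw [Nat.pow_dvd_pow_iff_le_right (by norm_num)] at h1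
    omega
  have hfpf : ∀ w : W, ψ w = w → w = 1 := by
    let δ : W →* W := MonoidHom.mk' (fun v => v⁻¹ * ψ v) fun a b => by
      rw [map_mul, mul_inv_rev, hWc b⁻¹ a⁻¹, mul_mul_mul_comm]
    have hsurj : Function.Surjective δ := by
      rw [← MonoidHom.range_eq_top]
      by_cases htop : frattini W = ⊤
      · refine absurd ?_ hnc
        have h0 : (⊥ : Subgroup W) = ⊤ := frattini_nongenerating (by rw [htop, sup_top_eq])
        haveI : Subsingleton W := ⟨fun a b => by
          have ha : a ∈ (⊥ : Subgroup W) := h0 ▸ mem_top a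
          have hb : b ∈ (⊥ : Subgroup W) := h0 ▸ mem_top b
          rw [mem_bot] at ha hb; rw [ha, hb]⟩
        infer_instance
      obtain ⟨v, hv⟩ : ∃ v, v ∉ frattini W := by
        by_contra hall
        push Not at hall
        exact htop (top_le_iff.1 fun g _ => hall g)
      refine frattini_nongenerating (top_le_iff.1 ((hgen v).resolve_left hv ▸ (closure_le _).2 ?_))
      have h1 : v ∈ δ.range ⊔ frattini W := by
        have : v = δ (ψ v) * ((v * ψ v)⁻¹ * ψ (ψ v))⁻¹ := by
          show v = (ψ v)⁻¹ * ψ (ψ v) * _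
          rw [mul_inv_rev, inv_inv, mul_assoc, mul_inv_cancel_left, hWc v, inv_mul_cancel_left]
        rw [this]
        exact mul_mem (mem_sup_left ⟨ψ v, rfl⟩) (mem_sup_right (inv_mem (hprod v)))
      rintro w (rfl | rfl)
      · exact h1
      · have := mul_mem h1 (mem_sup_left ⟨v, rfl⟩ : δ v ∈ δ.range ⊔ frattini W)
        rwa [show v * δ v = ψ v from mul_inv_cancel_left v (ψ v)] at this
    intro w hw
    refine Finite.injective_iff_surjective.2 hsurj ?_
    show w⁻¹ * ψ w = (1 : W)⁻¹ * ψ 1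
    rw [hw, inv_mul_cancel, map_one, inv_one, mul_one]
  have hdata : HomoData W D (α' : MulAut X) m :=
    { inv := fun w hw => hinv _ α'.2 w hw
      comm := hc
      one_le := hm1
      pow_eq := fun w hw => by simpa using congrArg Subtype.val (hexp ⟨w, hw⟩)
      sq_root := fun w hw hp => by
        obtain ⟨v, hv⟩ := hroot ⟨w, hw⟩ (Subtype.ext hp)
        refine ⟨v, v.2, ?_⟩
        have hv' : v ^ 2 = ⟨w, hw⟩ := hv
        rw [_root_.sq] at hv'
        exact congrArg Subtype.val hv'
      fpf := fun w hw hf => congrArg Subtype.val (hfpf ⟨w, hw⟩ (Subtype.ext hf))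
      cube := fun w hw => by
        have h : (ψ ^ 3) ⟨w, hw⟩ = ⟨w, hw⟩ := by rw [← h3, pow_orderOf_eq_one, MulAut.one_apply]
        simpa [pow_succ, MulAut.mul_apply, hψ] using congrArg Subtype.val h
      memD := hmemD
      cardD := hDcard
      gen := fun a ha hna => by
        have hna' : (⟨a, ha⟩ : W) ∉ frattini W := by
          rw [hΦ]
          rintro ⟨v, hv⟩
          have hv' : v ^ 2 = ⟨a, ha⟩ := hv
          rw [_root_.sq] at hv'
          exact hna v v.2 (congrArg Subtype.val hv')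
        have h := congrArg (Subgroup.map W.subtype) ((hgen ⟨a, ha⟩).resolve_left hna')
        rwa [MonoidHom.map_closure, Set.image_pair, ← MonoidHom.range_eq_map, range_subtype] at h }
  have hDz : D ≤ center X := by
    obtain ⟨s, hs, hs1, hsc⟩ := CfsgLib.OddLocal.exists_center_of_normal_ne_bot hX D
      (fun e => by rw [e, card_bot] at hDcard; norm_num at hDcard)
    have hφc : ∀ g ∈ center X, (α' : MulAut X) g ∈ center X :=
      fun g hg => aInvariant_of_characteristic A (center X) _ α'.2 g hg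
    intro t ht
    rcases hdata.mem_four hs hs1 ht with rfl | rfl | rfl | rfl
    exacts [one_mem _, hsc, hφc _ hsc, hφc _ (hφc _ hsc)]
  refine ⟨α', D, m, α'.2, hdata, hDz, fun hnz => ?_⟩
  by_contra hlt
  refine hnz fun w hw => hDz ((hmemD w).2 ⟨hw, ?_⟩)
  have := hdata.pow_eq w hw
  rwa [show m = 1 by omega, pow_one, _root_.sq] at this

end CfsgLib.PGroup
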