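import Cfsg.Agent.Lib.PGroup.HomocyclicExt

/-!
A self-centralizing homocyclic rank-two subgroup with fixed-point-free action has exponent four.
-/

set_option autoImplicit false
set_option linter.style.haveILetI false

universe u

namespace CfsgLib.PGroup

open Subgroup
open scoped commutatorElement

variable {X : Type u} [Group X]

namespace HomoData

variable {W D : Subgroup X} {φ : MulAut X} {m : ℕ}

/-- An element outside the kernel of the action on elements of order four has square outside the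
centralizer of `W`, for exponent at least eight. -/
theorem sq_not_mem_of_moves [Finite X] (h : HomoData W D φ m) (hWn : W.Normal) (hDz : D ≤ center X)
    (hcube : ∀ x : X, φ (φ (φ x)) = x)
    (hgen : closure {g : X | ∃ x : X, g = x⁻¹ * φ x} = ⊤) (hm : 3 ≤ m) {x : X}
    (hx : ∃ b ∈ W, b * b ∈ D ∧ ⁅x, b⁆ ≠ 1) : x * x ∉ W := by
  intro hxx
  obtain ⟨b, hb, hb4, hne⟩ := hx
  obtain ⟨s, hs, hs1⟩ : ∃ s ∈ D, s ≠ 1 := (Subgroup.bot_or_exists_ne_one D).resolve_left fun e => by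
    have := h.cardD
    rw [e, card_bot] at this
    norm_num at this
  obtain ⟨a, ha, rfl⟩ := h.exists_root_D (by omega) hs
  have hxa : ⁅x, a⁆ ≠ 1 := fun e => hne (h.comm_four_eq_one hWn hDz hcube hgen ha hs hs1 e hb hb4)
  obtain ⟨d, hd, hd4, hq⟩ : ∃ d, d ∈ W ∧ d * d ∈ D ∧ ⁅x, d⁆ ≠ d * d := by
    by_cases e : ⁅x, a⁆ = a * a
    · refine ⟨φ a, h.inv a ha, h.mul_self_four ha hs, fun e' => ?_⟩
      rw [h.four_relation hWn hDz hcube hgen x ha hs, e, ← map_mul] at e'
      exact hs1 (h.fpf _ (h.le hs) (φ.injective e'))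
    · exact ⟨a, ha, hs, e⟩
  set q := ⁅x, d⁆
  have hqD : q ∈ D := h.comm_four_mem hWn hDz x hd hd4
  obtain ⟨w, hw, hwd⟩ := h.sq_root d hd (by
    obtain ⟨k, rfl⟩ : ∃ k, m = k + 3 := ⟨m - 3, by omega⟩
    rw [show k + 3 - 1 = 2 + k by omega, pow_add, pow_mul]
    have : d ^ (2 ^ 2) = 1 := by
      rw [show (2 : ℕ) ^ 2 = 2 * 2 from rfl, pow_mul, _root_.sq, _root_.sq, h.sq hd4]
    rw [this, one_pow])
  set c := ⁅x, w⁆
  have hc : c ∈ W := comm_mem hWn x hw
  have hcc : c * c = q := by rw [← h.comm_mul hWn x hw hw, hwd]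
  have h1 : ⁅x * x, w⁆ = ⁅x, c⁆ * c * c := by simp only [c, commutatorElement_def]; group
  rw [commutatorElement_eq_one_iff_mul_comm.2 (h.comm _ hxx _ hw), mul_assoc, hcc] at h1
  have h2 : ⁅x, c⁆ = q := by
    calc ⁅x, c⁆ = ⁅x, c⁆ * q * q := by rw [mul_assoc, h.sq hqD, mul_one]
      _ = q := by rw [← h1, one_mul]
  have h3 : ⁅x, d * c⁆ = 1 := by rw [h.comm_mul hWn x hd hc, h2, h.sq hqD]
  have h4 : d * c * (d * c) = d * d * q := by
    rw [(show Commute c d from h.comm c hc d hd).mul_mul_mul_comm, hcc]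
  have h5 : d * d * q ≠ 1 := fun e => hq (by
    calc q = d * d * (d * d * q) := by rw [← mul_assoc, h.sq hd4, one_mul]
      _ = d * d := by rw [e, mul_one])
  exact hne (h.comm_four_eq_one hWn hDz hcube hgen (mul_mem hd hc)
    (by rw [h4]; exact mul_mem hd4 hqD) (by rw [h4]; exact h5) h3 hb hb4)

/-- Elements fixing all elements of order four lower exponents by two. -/
theorem comm_pow_eq_one (h : HomoData W D φ m) (hWn : W.Normal) {e : X}
    (he : ∀ b ∈ W, b * b ∈ D → ⁅e, b⁆ = 1) {w : X} (hw : w ∈ W) {s : ℕ}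
    (hs : w ^ (2 ^ (s + 2)) = 1) : ⁅e, w⁆ ^ (2 ^ s) = 1 := by
  rw [← h.comm_pow hWn e hw]
  refine he _ (pow_mem hw _) ((h.memD _).2 ⟨mul_mem (pow_mem hw _) (pow_mem hw _), ?_⟩)
  simp only [← pow_add]
  rw [show 2 ^ s + 2 ^ s + (2 ^ s + 2 ^ s) = 2 ^ (s + 2) by ring]
  exact hs

theorem inv_fixes (h : HomoData W D φ m) (hWn : W.Normal) (hDz : D ≤ center X) {e : X}
    (he : ∀ b ∈ W, b * b ∈ D → ⁅e, b⁆ = 1) : ∀ b ∈ W, b * b ∈ D → ⁅e⁻¹, b⁆ = 1 := fun b hb hb4 => by
  rw [h.comm_inv_four hWn hDz e hb hb4]; exact he b hb hb4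

/-- `w ↦ w² [e, w]` has kernel in `D`. -/
theorem mem_D_of_mu (h : HomoData W D φ m) (hWn : W.Normal) {e : X}
    (he : ∀ b ∈ W, b * b ∈ D → ⁅e, b⁆ = 1) {w : X} (hw : w ∈ W) (h1 : w * w * ⁅e, w⁆ = 1) : w ∈ D := by
  refine (h.memD w).2 ⟨hw, ?_⟩
  by_contra hw2
  obtain ⟨s, -, hs, hmin⟩ := h.exists_min_pow hw
  have hs2 : 2 ≤ s := by
    by_contra hlt
    refine hw2 ?_
    have : s = 0 ∨ s = 1 := by omega
    rcases this with rfl | rfl
    · rw [pow_zero, pow_one] at hs; rw [hs, one_mul]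
    · rw [pow_one, _root_.sq] at hs; exact hs
  obtain ⟨j, rfl⟩ : ∃ j, s = j + 2 := ⟨s - 2, by omega⟩
  have h2 := congrArg (· ^ (2 ^ j)) (eq_inv_of_mul_eq_one_left h1)
  simp only [inv_pow, h.comm_pow_eq_one hWn he hw hs, inv_one] at h2
  rw [← _root_.sq, ← pow_mul, ← pow_succ'] at h2
  exact hmin (j + 1) (by omega) h2

/-- Every square is a value of `w ↦ w² [e, w]`. -/
theorem exists_mu_eq [Finite X] (h : HomoData W D φ m) (hWn : W.Normal) (hm : 2 ≤ m) {e : X}
    (he : ∀ b ∈ W, b * b ∈ D → ⁅e, b⁆ = 1) {r : X} (hr : r ∈ W) :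
    ∃ w ∈ W, w * w * ⁅e, w⁆ = r * r := by
  letI : CommGroup W :=
    { (inferInstance : Group W) with mul_comm := fun a b => Subtype.ext (h.comm a a.2 b b.2) }
  let μ : W →* W := MonoidHom.mk'
    (fun w => ⟨(w : X) * w * ⁅e, (w : X)⁆, mul_mem (mul_mem w.2 w.2) (comm_mem hWn e w.2)⟩)
    fun a b => by
      refine Subtype.ext ?_
      show (a : X) * b * (a * b) * ⁅e, (a : X) * b⁆ = a * a * ⁅e, (a : X)⁆ * (b * b * ⁅e, (b : X)⁆)
      rw [h.comm_mul hWn e a.2 b.2,
        (show Commute (b : X) a from h.comm b b.2 a a.2).mul_mul_mul_comm,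
        (show Commute ((b : X) * b) ⁅e, (a : X)⁆ from
          h.comm _ (mul_mem b.2 b.2) _ (comm_mem hWn e a.2)).mul_mul_mul_comm]
  let sq2 : W →* W := powMonoidHom 2
  have hrange : μ.range ≤ sq2.range := by
    rintro _ ⟨w, rfl⟩
    have hδ : ⁅e, (w : X)⁆ ^ (2 ^ (m - 1)) = 1 := by
      obtain ⟨k, rfl⟩ : ∃ k, m = k + 2 := ⟨m - 2, by omega⟩
      rw [show k + 2 - 1 = k + 1 by omega, pow_succ, pow_mul,
        h.comm_pow_eq_one hWn he w.2 (h.pow_eq _ w.2), one_pow]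
    obtain ⟨v, hv, hv2⟩ := h.sq_root _ (comm_mem hWn e w.2) hδ
    refine ⟨w * ⟨v, hv⟩, Subtype.ext ?_⟩
    show ((w : X) * v) ^ 2 = (w : X) * w * ⁅e, (w : X)⁆
    rw [_root_.sq, (show Commute v (w : X) from h.comm v hv w w.2).mul_mul_mul_comm, hv2]
  have hker : μ.ker.map W.subtype ≤ D := by
    rintro _ ⟨w, hw, rfl⟩
    exact h.mem_D_of_mu hWn he w.2 (congrArg Subtype.val hw)
  have hsqker : sq2.ker.map W.subtype = D := by
    ext z
    rw [h.memD z]
    constructor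
    · rintro ⟨v, hv, rfl⟩
      have hv' : v ^ 2 = 1 := hv
      rw [_root_.sq] at hv'
      exact ⟨v.2, congrArg Subtype.val hv'⟩
    · rintro ⟨hz, h2⟩
      refine ⟨⟨z, hz⟩, ?_, rfl⟩
      show (⟨z, hz⟩ : W) ^ 2 = 1
      rw [_root_.sq]
      exact Subtype.ext h2
  have hle : Nat.card μ.ker ≤ Nat.card sq2.ker := by
    have := card_le_of_le hker
    rw [← hsqker, card_map_of_injective W.subtype_injective,
      card_map_of_injective W.subtype_injective] at this
    exact this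
  have h1 := μ.ker.card_mul_index
  have h2 := sq2.ker.card_mul_index
  rw [index_ker] at h1 h2
  have heq : μ.range = sq2.range := by
    refine eq_of_le_of_card_ge hrange ((Nat.mul_le_mul_left_iff (Nat.card_pos (α := μ.ker))).1 ?_)
    calc Nat.card μ.ker * Nat.card sq2.range ≤ Nat.card sq2.ker * Nat.card sq2.range :=
          Nat.mul_le_mul_right _ hle
      _ = Nat.card μ.ker * Nat.card μ.range := by rw [h1, h2]
  obtain ⟨w, hw⟩ := heq.ge ⟨⟨r, hr⟩, rfl⟩
  refine ⟨w, w.2, ?_⟩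
  have hw' := congrArg Subtype.val hw
  simp only [μ, sq2, powMonoidHom_apply, MonoidHom.mk'_apply, Subgroup.coe_pow] at hw'
  rw [hw', _root_.sq]

/-- The exponent of a self-centralizing `W` is at most four. -/
theorem exponent_le_two [Finite X] (hX : IsPGroup 2 X)
    (hscn : ¬ ∃ A : Subgroup X, A.Normal ∧ Subgroup.centralizer (A : Set X) = A ∧
      ∃ E : Subgroup X, E ≤ A ∧ Cfsg.IsElementaryAbelian 2 E ∧ Nat.card E = 8)
    (h : HomoData W D φ m) (hWn : W.Normal) (hDz : D ≤ center X)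
    (hcube : ∀ x : X, φ (φ (φ x)) = x)
    (hgen : closure {g : X | ∃ x : X, g = x⁻¹ * φ x} = ⊤)
    (hCW : centralizer (W : Set X) = W) (hne : W ≠ ⊤) : m ≤ 2 := by
  classical
  haveI := Fact.mk Nat.prime_two
  by_contra hm'
  have hm : 3 ≤ m := by omega
  haveI := hWn
  -- an element of the centre of `X / W` of order two
  haveI : Nontrivial (X ⧸ W) := by
    obtain ⟨g, hg⟩ : ∃ g, g ∉ W := by
      by_contra hall
      push Not at hall
      exact hne (top_le_iff.1 fun g _ => hall g)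
    exact ⟨⟨(g : X ⧸ W), 1, fun e => hg ((QuotientGroup.eq_one_iff g).1 e)⟩⟩
  haveI := (hX.to_quotient W).center_nontrivial
  obtain ⟨z, hz⟩ := exists_prime_orderOf_dvd_card' 2
    (show 2 ∣ Nat.card (center (X ⧸ W)) by
      obtain ⟨j, hj, hj'⟩ := ((hX.to_quotient W).to_subgroup (center (X ⧸ W))).nontrivial_iff_card.1 inferInstance
      rw [hj']; exact dvd_pow_self 2 hj.ne')
  obtain ⟨e, he⟩ := QuotientGroup.mk_surjective (z : X ⧸ W)
  have heW : e ∉ W := fun hmem => by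
    rw [(QuotientGroup.eq_one_iff e).2 hmem] at he
    have : z = 1 := Subtype.ext he.symm
    rw [this, orderOf_one] at hz
    norm_num at hz
  have hex : ∀ x : X, ⁅e, x⁆ ∈ W := fun x => by
    rw [← QuotientGroup.eq_one_iff]
    refine (map_commutatorElement (QuotientGroup.mk' W) e x).trans ?_
    show ⁅(e : X ⧸ W), (x : X ⧸ W)⁆ = 1
    rw [he, commutatorElement_eq_one_iff_mul_comm]
    exact (mem_center_iff.1 z.2 _).symm
  have hee : e * e ∈ W := by
    rw [← QuotientGroup.eq_one_iff, QuotientGroup.mk_mul, he, ← Subgroup.coe_mul]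
    have : z ^ 2 = 1 := by rw [← hz]; exact pow_orderOf_eq_one z
    rw [_root_.sq] at this
    rw [this, Subgroup.coe_one]
  -- the set `T` of such elements
  have hfix : ∀ t : X, t * t ∈ W → ∀ b ∈ W, b * b ∈ D → ⁅t, b⁆ = 1 := fun t ht b hb hb4 => by
    by_contra hne'
    exact h.sq_not_mem_of_moves hWn hDz hcube hgen hm ⟨b, hb, hb4, hne'⟩ ht
  have hker : ∀ t : X, t * t ∈ W → ∀ w ∈ W, w * w * ⁅t⁻¹, w⁆ = 1 → w ∈ D := fun t ht w hw h1 =>
    h.mem_D_of_mu hWn (h.inv_fixes hWn hDz (hfix t ht)) hw h1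
  have hexp : ∀ c ∈ W, ∀ t : X, t * t ∈ W → ⁅t, c⁆ ^ (2 ^ (m - 2)) = 1 := fun c hc t ht =>
    h.comm_pow_eq_one hWn (hfix t ht) hc (by rw [show m - 2 + 2 = m by omega]; exact h.pow_eq c hc)
  -- commutators of such elements are squares
  have hcomm : ∀ s t : X, s * s ∈ W → t * t ∈ W → ⁅s, t⁆ ∈ W → ∃ r ∈ W, r * r = ⁅s, t⁆ := by
    intro s t hs ht hst
    refine h.sq_root _ hst ?_
    set c := ⁅s, t⁆
    have h1 : c * c * ⁅t, c⁆ = ⁅s, t * t⁆ := by
      have e1 : c * ⁅t, c⁆ * c = ⁅s, t * t⁆ := by simp only [c, commutatorElement_def]; group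
      rw [← e1, mul_assoc, mul_assoc, h.comm c hst ⁅t, c⁆ (comm_mem hWn t hst)]
    have h2 := congrArg (· ^ (2 ^ (m - 2))) h1
    rw [(show Commute (c * c) ⁅t, c⁆ from
        h.comm _ (mul_mem hst hst) _ (comm_mem hWn t hst)).mul_pow, hexp c hst t ht,
      hexp _ ht s hs, mul_one, ← _root_.sq, ← pow_mul, ← pow_succ'] at h2
    rwa [show m - 2 + 1 = m - 1 by omega] at h2
  -- no element with square a square
  have hroot : ∀ t : X, (∀ x, ⁅t, x⁆ ∈ W) → t * t ∈ W → (∃ r ∈ W, r * r = t * t) → t ∈ W := by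
    intro t htx htt ⟨r, hr, hrt⟩
    obtain ⟨w, hw, hwv⟩ := h.exists_mu_eq hWn (by omega) (h.inv_fixes hWn hDz (hfix t htt))
      (inv_mem hr)
    set u := t * w
    have hu : u * u = 1 := by
      calc t * w * (t * w) = t * t * (⁅t⁻¹, w⁆ * w * w) := by
            simp only [commutatorElement_def]; group
        _ = t * t * (w * w * ⁅t⁻¹, w⁆) := by
            rw [mul_assoc ⁅t⁻¹, w⁆ w w, h.comm _ (comm_mem hWn _ hw) _ (mul_mem hw hw)]
        _ = 1 := by rw [hwv, ← mul_inv_rev, hrt, mul_inv_cancel]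
    have huW : u * u ∈ W := by rw [hu]; exact one_mem W
    have hux : ∀ x, ⁅u, x⁆ ∈ W := fun x => by
      have e1 : ⁅u, x⁆ = t * ⁅w, x⁆ * t⁻¹ * ⁅t, x⁆ := by
        simp only [u, commutatorElement_def]; group
      rw [e1]
      refine mul_mem (hWn.conj_mem _ ?_ t) (htx x)
      rw [← commutatorElement_inv]
      exact inv_mem (comm_mem hWn x hw)
    have huD : u ∈ D := by
      refine mem_of_involution hX hscn D hDz (fun a ha => h.sq ha) h.cardD hu fun x => ?_
      set c := ⁅u, x⁆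
      refine hker u huW c (hux x) ?_
      have e1 : u * c = x * u⁻¹ * x⁻¹ := by
        rw [show c = u * x * u⁻¹ * x⁻¹ from rfl]
        calc u * (u * x * u⁻¹ * x⁻¹) = (u * u) * x * u⁻¹ * x⁻¹ := by group
          _ = x * u⁻¹ * x⁻¹ := by rw [hu, one_mul]
      have h1 : (u * c) * (u * c) = 1 := by
        rw [e1]
        calc x * u⁻¹ * x⁻¹ * (x * u⁻¹ * x⁻¹) = x * (u * u)⁻¹ * x⁻¹ := by group
          _ = 1 := by rw [hu, inv_one, mul_one, mul_inv_cancel]
      have h2 : u * c * (u * c) = u * u * (⁅u⁻¹, c⁆ * c * c) := by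
        simp only [commutatorElement_def]; group
      rw [h1, hu, one_mul, mul_assoc,
        h.comm _ (comm_mem hWn _ (hux x)) _ (mul_mem (hux x) (hux x))] at h2
      exact h2.symm
    have := mul_mem (h.le huD) (inv_mem hw)
    rwa [mul_inv_cancel_right] at this
  -- the three conjugates of `e`
  set f := φ e
  set g := φ f
  set a := e * e
  have hna : ∀ w ∈ W, w * w ≠ a := fun w hw e' => heW (hroot e hex hee ⟨w, hw, e'⟩)
  have htrans : ∀ t : X, (∀ x, ⁅t, x⁆ ∈ W) → ∀ x, ⁅φ t, x⁆ ∈ W := fun t ht x => by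
    have := h.inv _ (ht (φ (φ x)))
    rwa [map_commutatorElement, hcube] at this
  have hfx := htrans e hex
  have hgx := htrans f hfx
  have hff : f * f = φ a := (map_mul φ e e).symm
  have hgg : g * g = φ (φ a) := by rw [← hff, map_mul]
  have hffW : f * f ∈ W := hff ▸ h.inv a hee
  have hggW : g * g ∈ W := hgg ▸ h.inv _ (h.inv a hee)
  -- `e f g ∈ W`
  have hprod : ∀ s t : X, (∀ x, ⁅s, x⁆ ∈ W) → (∀ x, ⁅t, x⁆ ∈ W) → s * s ∈ W → t * t ∈ W →
      s * t * (s * t) ∈ W ∧ (∀ x, ⁅s * t, x⁆ ∈ W) ∧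
      ∃ r ∈ W, s * t * (s * t) = r * r * (s * s * (t * t)) := by
    intro s t hsx htx hss htt
    obtain ⟨r, hr, hr2⟩ := hcomm t s htt hss (htx s)
    have e1 : s * t * (s * t) = (s * r * s⁻¹) * (s * r * s⁻¹) * (s * s * (t * t)) := by
      calc s * t * (s * t) = s * ⁅t, s⁆ * s⁻¹ * (s * s * (t * t)) := by
            simp only [commutatorElement_def]; group
        _ = _ := by rw [← hr2]; group
    have hr' := hWn.conj_mem r hr s
    refine ⟨e1 ▸ mul_mem (mul_mem hr' hr') (mul_mem hss htt), fun x => ?_, s * r * s⁻¹, hr', e1⟩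
    have e2 : ⁅s * t, x⁆ = s * ⁅t, x⁆ * s⁻¹ * ⁅s, x⁆ := by simp only [commutatorElement_def]; group
    rw [e2]
    exact mul_mem (hWn.conj_mem _ (htx x) s) (hsx x)
  obtain ⟨hefW, hefx, r1, hr1, e1⟩ := hprod e f hex hfx hee hffW
  obtain ⟨hefgW, hefgx, r2, hr2, e2⟩ := hprod (e * f) g hefx hgx hefW hggW
  have hefg : e * f * g ∈ W := by
    refine hroot _ hefgx hefgW ⟨r2 * r1, mul_mem hr2 hr1, ?_⟩
    rw [e2, e1, hff, hgg, mul_assoc (r1 * r1), h.norm hee, mul_one,
      (show Commute r1 r2 from h.comm r1 hr1 r2 hr2).mul_mul_mul_comm]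
  -- consequences
  set b := φ a
  have hbW : b ∈ W := h.inv a hee
  have hea : ⁅e, a⁆ = 1 := commutatorElement_eq_one_iff_mul_comm.2 (by simp [a, mul_assoc])
  have hfb : ⁅f, b⁆ = 1 := by rw [← map_commutatorElement, hea, map_one]
  have hgab : ⁅e * f, a * b⁆ = 1 := by
    have h1 : φ b = (a * b)⁻¹ := eq_inv_of_mul_eq_one_right (h.norm hee)
    have h2 : Commute g (φ b) := by
      show Commute g (φ (φ a))
      rw [← hgg]
      exact (Commute.refl g).mul_right (Commute.refl g)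
    rw [h1, Commute.inv_right_iff] at h2
    have h3 : Commute (e * f * g) (a * b) := h.comm _ hefg _ (mul_mem hee hbW)
    rw [commutatorElement_eq_one_iff_mul_comm]
    have h4 := h3.mul_left h2.inv_left
    rwa [mul_inv_cancel_right] at h4
  set d := ⁅f, a⁆
  set z := ⁅e, b⁆
  have hd : d ∈ W := comm_mem hWn f hee
  have hz : z ∈ W := comm_mem hWn e hbW
  have hφz : φ z = d⁻¹ := by
    show φ ⁅e, b⁆ = d⁻¹
    rw [map_commutatorElement, eq_inv_of_mul_eq_one_right (h.norm hee)]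
    show ⁅f, (a * b)⁻¹⁆ = d⁻¹
    have h1 := h.comm_mul hWn f (inv_mem (mul_mem hee hbW)) (mul_mem hee hbW)
    rw [inv_mul_cancel, commutatorElement_one_right] at h1
    rw [eq_inv_of_mul_eq_one_left h1.symm, h.comm_mul hWn f hee hbW, hfb, mul_one]
  have hed : ⁅e, d⁆ = φ z * z⁻¹ := by
    have h1 : ⁅e * f, a * b⁆ = ⁅e, ⁅f, a * b⁆⁆ * ⁅f, a * b⁆ * ⁅e, a * b⁆ := by
      simp only [commutatorElement_def]; group
    rw [hgab, h.comm_mul hWn f hee hbW, hfb, mul_one, h.comm_mul hWn e hee hbW, hea, one_mul] at h1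
    rw [hφz]
    calc ⁅e, d⁆ = ⁅e, d⁆ * d * z * (z⁻¹ * d⁻¹) := by group
      _ = d⁻¹ * z⁻¹ := by rw [← h1, one_mul, h.comm _ (inv_mem hz) _ (inv_mem hd)]
  have hd1 : d = 1 := by
    obtain ⟨s, -, hs, hmin⟩ := h.exists_min_pow hd
    by_cases hs2 : 2 ≤ s
    · exfalso
      obtain ⟨j, rfl⟩ : ∃ j, s = j + 2 := ⟨s - 2, by omega⟩
      have h1 := h.comm_pow_eq_one hWn (hfix e hee) hd (s := j) hs
      rw [hed, (show Commute (φ z) z⁻¹ from h.comm _ (h.inv z hz) _ (inv_mem hz)).mul_pow, inv_pow,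
        mul_inv_eq_one, ← map_pow] at h1
      have hy := h.fpf _ (pow_mem hz _) h1
      refine hmin j (by omega) (inv_eq_one.1 ?_)
      rw [← inv_pow, ← hφz, ← map_pow, hy, map_one]
    · have hd2 : d * d = 1 := by
        have : s = 0 ∨ s = 1 := by omega
        rcases this with rfl | rfl
        · rw [pow_zero, pow_one] at hs; rw [hs, one_mul]
        · rw [pow_one, _root_.sq] at hs; exact hs
      have h1 := hfix e hee d hd (by rw [hd2]; exact one_mem D)
      rw [hed, mul_inv_eq_one] at h1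
      rw [← inv_inv d, ← hφz, h.fpf z hz h1, map_one, inv_one]
  have hfW : f ∈ W := by
    rw [← hCW, mem_centralizer_iff]
    intro w hw
    have hle : W ≤ centralizer ({f} : Set X) := by
      rw [← h.gen a hee hna, closure_le]
      rintro v (rfl | rfl)
      · rw [SetLike.mem_coe, mem_centralizer_singleton_iff]
        exact (commutatorElement_eq_one_iff_mul_comm.1 hd1).symm
      · rw [SetLike.mem_coe, mem_centralizer_singleton_iff]
        exact (commutatorElement_eq_one_iff_mul_comm.1 hfb).symm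
    exact mem_centralizer_singleton_iff.1 (hle hw)
  exact heW (hcube e ▸ h.inv _ (h.inv _ hfW))

end HomoData

end CfsgLib.PGroup
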