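import Cfsg.Agent.Lib.PGroup.HomocyclicData

/-!
Extensions of a homocyclic rank-two `2`-group `W` with a fixed-point-free automorphism: elements
centralizing `W`, and the action on elements of order four.
-/

set_option autoImplicit false
set_option linter.style.haveILetI false

universe u

namespace CfsgLib.PGroup

open Subgroup
open scoped commutatorElement

variable {X : Type u} [Group X]

namespace HomoData

variable {W D : Subgroup X} {φ : MulAut X} {m : ℕ}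

theorem comm_mem (hWn : W.Normal) (x : X) {w : X} (hw : w ∈ W) : ⁅x, w⁆ ∈ W := by
  rw [commutatorElement_def]
  exact mul_mem (hWn.conj_mem w hw x) (inv_mem hw)

theorem conj_eq (x w : X) : x * w * x⁻¹ = ⁅x, w⁆ * w := by rw [commutatorElement_def]; group

theorem comm_mul (h : HomoData W D φ m) (hWn : W.Normal) (x : X) {a b : X} (ha : a ∈ W) (hb : b ∈ W) :
    ⁅x, a * b⁆ = ⁅x, a⁆ * ⁅x, b⁆ := by
  calc ⁅x, a * b⁆ = ⁅x, a⁆ * (a * ⁅x, b⁆ * a⁻¹) := by simp only [commutatorElement_def]; group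
    _ = ⁅x, a⁆ * ⁅x, b⁆ := by rw [h.comm a ha _ (comm_mem hWn x hb), mul_inv_cancel_right]

theorem comm_pow (h : HomoData W D φ m) (hWn : W.Normal) (x : X) {a : X} (ha : a ∈ W) (n : ℕ) :
    ⁅x, a ^ n⁆ = ⁅x, a⁆ ^ n := by
  induction n with
  | zero => simp
  | succ n ih => rw [pow_succ, pow_succ, h.comm_mul hWn x (pow_mem ha n) ha, ih]

theorem comm_eq_one_of_central {s : X} (hs : s ∈ center X) (x : X) : ⁅x, s⁆ = 1 :=
  commutatorElement_eq_one_iff_mul_comm.2 (mem_center_iff.1 hs x)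

/-- `[x, a]` lies in `D` for `a` of order at most four. -/
theorem comm_four_mem (h : HomoData W D φ m) (hWn : W.Normal) (hDz : D ≤ center X) (x : X) {a : X}
    (ha : a ∈ W) (ha4 : a * a ∈ D) : ⁅x, a⁆ ∈ D :=
  (h.memD _).2 ⟨comm_mem hWn x ha, by
    rw [← h.comm_mul hWn x ha ha, comm_eq_one_of_central (hDz ha4)]⟩

theorem comm_left_four (h : HomoData W D φ m) (hWn : W.Normal) (hDz : D ≤ center X) (x y : X) {a : X}
    (ha : a ∈ W) (ha4 : a * a ∈ D) : ⁅x * y, a⁆ = ⁅x, a⁆ * ⁅y, a⁆ := by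
  have hy := hDz (h.comm_four_mem hWn hDz y ha ha4)
  calc ⁅x * y, a⁆ = x * ⁅y, a⁆ * x⁻¹ * ⁅x, a⁆ := by simp only [commutatorElement_def]; group
    _ = ⁅x, a⁆ * ⁅y, a⁆ := by
      rw [mem_center_iff.1 hy x, mul_inv_cancel_right, mem_center_iff.1 hy ⁅x, a⁆]

theorem comm_inv_four (h : HomoData W D φ m) (hWn : W.Normal) (hDz : D ≤ center X) (x : X) {a : X}
    (ha : a ∈ W) (ha4 : a * a ∈ D) : ⁅x⁻¹, a⁆ = ⁅x, a⁆ := by
  have h1 := h.comm_left_four hWn hDz x x⁻¹ ha ha4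
  rw [mul_inv_cancel, commutatorElement_one_left] at h1
  have h2 := h.sq (h.comm_four_mem hWn hDz x ha ha4)
  calc ⁅x⁻¹, a⁆ = ⁅x, a⁆ * ⁅x, a⁆ * ⁅x⁻¹, a⁆ := by rw [h2, one_mul]
    _ = ⁅x, a⁆ := by rw [mul_assoc, ← h1, mul_one]

theorem exists_root_D (h : HomoData W D φ m) (hm : 2 ≤ m) {s : X} (hs : s ∈ D) :
    ∃ v ∈ W, v * v = s := by
  refine h.sq_root s (h.le hs) ?_
  obtain ⟨k, rfl⟩ : ∃ k, m = k + 2 := ⟨m - 2, by omega⟩
  rw [show k + 2 - 1 = k + 1 by omega, pow_succ', pow_mul, _root_.sq, h.sq hs, one_pow]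

theorem mul_self_four (h : HomoData W D φ m) {a : X} (ha : a ∈ W) (ha4 : a * a ∈ D) :
    (φ a) * (φ a) ∈ D := by
  rw [← map_mul]; exact h.invD ha4

/-- An automorphism relation: `[x, φ a] = φ² [x, a]` on elements of order four. -/
theorem four_relation (h : HomoData W D φ m) (hWn : W.Normal) (hDz : D ≤ center X)
    (hcube : ∀ x : X, φ (φ (φ x)) = x)
    (hgen : closure {g : X | ∃ x : X, g = x⁻¹ * φ x} = ⊤) (x : X) {a : X}
    (ha : a ∈ W) (ha4 : a * a ∈ D) : ⁅x, φ a⁆ = φ (φ ⁅x, a⁆) := by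
  have key : ∀ y : X, ∀ b ∈ W, b * b ∈ D → ⁅y, b⁆ * ⁅φ y, b⁆ * ⁅φ (φ y), b⁆ = 1 := by
    intro y b hb hb4
    have hD : ∀ z, ⁅z, b⁆ ∈ D := fun z => h.comm_four_mem hWn hDz z hb hb4
    let f : X →* W :=
      MonoidHom.mk' (fun z => ⟨⁅z, b⁆ * ⁅φ z, b⁆ * ⁅φ (φ z), b⁆,
        mul_mem (mul_mem (h.le (hD _)) (h.le (hD _))) (h.le (hD _))⟩) fun z z' => by
        refine Subtype.ext ?_
        show ⁅z * z', b⁆ * ⁅φ (z * z'), b⁆ * ⁅φ (φ (z * z')), b⁆ = _ * _
        simp only [map_mul, h.comm_left_four hWn hDz _ _ hb hb4]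
        have hc : ∀ u v : X, Commute ⁅u, b⁆ ⁅v, b⁆ := fun u v => mem_center_iff.1 (hDz (hD v)) _
        rw [(hc z' (φ z)).mul_mul_mul_comm,
          ((hc z' (φ (φ z))).mul_left (hc (φ z') (φ (φ z)))).mul_mul_mul_comm]
    have hf : f y = 1 := by
      have hle : (⊤ : Subgroup X) ≤ f.ker := by
        rw [← hgen, closure_le]
        rintro _ ⟨z, rfl⟩
        show f (z⁻¹ * φ z) = 1
        have e : f (φ z) = f z := by
          refine Subtype.ext ?_
          show ⁅φ z, b⁆ * ⁅φ (φ z), b⁆ * ⁅φ (φ (φ z)), b⁆ = ⁅z, b⁆ * ⁅φ z, b⁆ * ⁅φ (φ z), b⁆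
          rw [hcube, mem_center_iff.1 (hDz (hD z)), mul_assoc]
        rw [map_mul, map_inv, e, inv_mul_cancel]
      exact hle (mem_top y)
    exact congrArg Subtype.val hf
  have hφ : ∀ u v : X, φ ⁅u, v⁆ = ⁅φ u, φ v⁆ := fun u v => map_commutatorElement φ u v
  have ha' := h.inv a ha
  have ha4' := h.mul_self_four ha ha4
  have ha'' := h.inv _ ha'
  have ha4'' := h.mul_self_four ha' ha4'
  set p := ⁅x, a⁆
  set r := ⁅x, φ a⁆
  have hp : p ∈ D := h.comm_four_mem hWn hDz x ha ha4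
  have hr : r ∈ D := h.comm_four_mem hWn hDz x ha' ha4'
  have hs : ⁅x, φ (φ a)⁆ = p * r := by
    have h1 : ⁅x, a * φ a * φ (φ a)⁆ = 1 := by rw [h.norm ha, commutatorElement_one_right]
    rw [h.comm_mul hWn x (mul_mem ha ha') ha'', h.comm_mul hWn x ha ha'] at h1
    calc ⁅x, φ (φ a)⁆ = (p * r) * (p * r * ⁅x, φ (φ a)⁆) := by
          rw [← mul_assoc, h.sq (mul_mem hp hr), one_mul]
      _ = p * r := by rw [h1, mul_one]
  have h2 := key x a ha ha4
  have e1 : ⁅φ x, a⁆ = φ p * φ r := by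
    rw [← map_mul, ← hs, hφ, h.cube a ha]
  have e2 : ⁅φ (φ x), a⁆ = φ (φ r) := by
    rw [hφ, hφ, h.cube a ha]
  rw [e1, e2] at h2
  have hn : ∀ s, s ∈ D → s * φ s = φ (φ s) := by
    intro s hs
    have h1 := h.norm (h.le hs)
    calc s * φ s = s * φ s * (φ (φ s) * φ (φ s)) := by rw [h.sq (h.invD (h.invD hs)), mul_one]
      _ = φ (φ s) := by rw [← mul_assoc, h1, one_mul]
  have h3 : φ r * φ (φ r) = r := by
    have := hn (φ r) (h.invD hr)
    rw [h.cube r (h.le hr)] at this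
    exact this
  calc r = φ (φ p) * (φ (φ p) * r) := by
        rw [← mul_assoc, h.sq (h.invD (h.invD hp)), one_mul]
    _ = φ (φ p) * (p * (φ p * φ r) * φ (φ r)) := by
        rw [mul_assoc p, mul_assoc (φ p), h3, ← mul_assoc p, hn p hp]
    _ = φ (φ p) := by rw [h2, mul_one]

/-- An element centralizing one element of order four centralizes all of them. -/
theorem comm_four_eq_one [Finite X] (h : HomoData W D φ m) (hWn : W.Normal) (hDz : D ≤ center X)
    (hcube : ∀ x : X, φ (φ (φ x)) = x)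
    (hgen : closure {g : X | ∃ x : X, g = x⁻¹ * φ x} = ⊤) {x a : X}
    (ha : a ∈ W) (ha4 : a * a ∈ D) (ha1 : a * a ≠ 1) (hxa : ⁅x, a⁆ = 1) {b : X} (hb : b ∈ W)
    (hb4 : b * b ∈ D) : ⁅x, b⁆ = 1 := by
  have h1 : ⁅x, φ a⁆ = 1 := by rw [h.four_relation hWn hDz hcube hgen x ha ha4, hxa, map_one, map_one]
  have h2 : ⁅x, φ (φ a)⁆ = 1 := by
    rw [h.four_relation hWn hDz hcube hgen x (h.inv a ha) (h.mul_self_four ha ha4), h1, map_one,
      map_one]
  suffices ∃ c, c ∈ W ∧ ⁅x, c⁆ = 1 ∧ c * c = b * b by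
    obtain ⟨c, hc, hc1, hcb⟩ := this
    have hd : c⁻¹ * b ∈ D := (h.memD _).2 ⟨mul_mem (inv_mem hc) hb, by
      rw [(show Commute c⁻¹ b from h.comm _ (inv_mem hc) _ hb).symm.mul_mul_mul_comm, ← mul_inv_rev,
        hcb, inv_mul_cancel]⟩
    have := h.comm_mul hWn x hc (mul_mem (inv_mem hc) hb)
    rwa [mul_inv_cancel_left, hc1, comm_eq_one_of_central (hDz hd), one_mul] at this
  rcases h.mem_four ha4 ha1 hb4 with e | e | e | e
  · exact ⟨1, one_mem _, commutatorElement_one_right _, by rw [e, one_mul]⟩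
  · exact ⟨a, ha, hxa, e.symm⟩
  · exact ⟨φ a, h.inv a ha, h1, by rw [e, map_mul]⟩
  · exact ⟨φ (φ a), h.inv _ (h.inv a ha), h2, by rw [e, map_mul, map_mul]⟩

/-- An element moving some element of order four fixes only involutions. -/
theorem mem_D_of_fixed [Finite X] (h : HomoData W D φ m) (hWn : W.Normal) (hDz : D ≤ center X)
    (hcube : ∀ x : X, φ (φ (φ x)) = x)
    (hgen : closure {g : X | ∃ x : X, g = x⁻¹ * φ x} = ⊤) {x : X}
    (hx : ∃ b ∈ W, b * b ∈ D ∧ ⁅x, b⁆ ≠ 1) {w : X} (hw : w ∈ W) (hxw : ⁅x, w⁆ = 1) : w ∈ D := by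
  refine (h.memD w).2 ⟨hw, ?_⟩
  by_contra hw2
  obtain ⟨k, hk, hk1⟩ := h.exists_four hw hw2
  obtain ⟨b, hb, hb4, hne⟩ := hx
  refine hne (h.comm_four_eq_one hWn hDz hcube hgen (pow_mem hw k) hk hk1 ?_ hb hb4)
  rw [h.comm_pow hWn x hw, hxw, one_pow]

/-- A subgroup over `W`, centralizing it, elementary modulo it and without new involutions, is
commutative. -/
theorem quad_ext_commutative [Finite X] (hX : IsPGroup 2 X)
    (hscn : ¬ ∃ A : Subgroup X, A.Normal ∧ Subgroup.centralizer (A : Set X) = A ∧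
      ∃ E : Subgroup X, E ≤ A ∧ Cfsg.IsElementaryAbelian 2 E ∧ Nat.card E = 8)
    (h : HomoData W D φ m) (hDz : D ≤ center X) (hm : 2 ≤ m) (T : Subgroup X) (hWT : W ≤ T)
    (hTc : ∀ t ∈ T, ∀ w ∈ W, t * w = w * t) (hTsq : ∀ t ∈ T, t * t ∈ W)
    (hTx : ∀ t ∈ T, ∀ x : X, ⁅t, x⁆ ∈ W) (hTinv : ∀ t ∈ T, φ t ∈ T) :
    ∀ a ∈ T, ∀ b ∈ T, a * b = b * a := by
  classical
  have hD : ∀ s ∈ T, ∀ t ∈ T, ⁅s, t⁆ ∈ D := by
    intro s hs t ht
    have hc := hTx s hs t
    refine (h.memD _).2 ⟨hc, ?_⟩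
    have h1 : s * (t * t) * s⁻¹ = t * t := by rw [hTc s hs _ (hTsq t ht), mul_inv_cancel_right]
    have h2 : ⁅s, t⁆ * ⁅s, t⁆ * (t * t) = s * (t * t) * s⁻¹ := by
      calc ⁅s, t⁆ * ⁅s, t⁆ * (t * t) = (⁅s, t⁆ * t) * (⁅s, t⁆ * t) := by
            rw [(show Commute ⁅s, t⁆ t from (hTc t ht _ hc).symm).symm.mul_mul_mul_comm]
        _ = s * (t * t) * s⁻¹ := by rw [commutatorElement_def]; group
    rw [h1] at h2
    exact mul_eq_right.1 h2
  -- no element outside `W` has a square root of its square in `W`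
  have hroot : ∀ t ∈ T, ∀ v ∈ W, v * v = t * t → t ∈ W := by
    intro t ht v hv hvt
    set u := t * v⁻¹
    have huT : u ∈ T := mul_mem ht (inv_mem (hWT hv))
    have hu : u * u = 1 := by
      show t * v⁻¹ * (t * v⁻¹) = 1
      rw [(show Commute v⁻¹ t from (hTc t ht _ (inv_mem hv)).symm).mul_mul_mul_comm, ← mul_inv_rev,
        hvt, mul_inv_cancel]
    have huD : u ∈ D := by
      refine mem_of_involution hX hscn D hDz (fun a ha => h.sq ha) h.cardD hu fun x => ?_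
      have hc := hTx u huT x
      refine (h.memD _).2 ⟨hc, ?_⟩
      have e : u * ⁅u, x⁆ = x * u⁻¹ * x⁻¹ := by
        rw [commutatorElement_def]
        calc u * (u * x * u⁻¹ * x⁻¹) = (u * u) * x * u⁻¹ * x⁻¹ := by group
          _ = x * u⁻¹ * x⁻¹ := by rw [hu, one_mul]
      have h1 : (u * ⁅u, x⁆) * (u * ⁅u, x⁆) = 1 := by
        rw [e]
        calc x * u⁻¹ * x⁻¹ * (x * u⁻¹ * x⁻¹) = x * (u * u)⁻¹ * x⁻¹ := by group
          _ = 1 := by rw [hu, inv_one, mul_one, mul_inv_cancel]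
      rwa [(show Commute ⁅u, x⁆ u from (hTc u huT _ hc).symm).mul_mul_mul_comm, hu, one_mul] at h1
    have := mul_mem (h.le huD) hv
    rwa [inv_mul_cancel_right] at this
  by_cases hall : ∀ t ∈ T, t ∈ W
  · exact fun a ha b hb => h.comm a (hall a ha) b (hall b hb)
  push Not at hall
  obtain ⟨u, huT, huW⟩ := hall
  set v := φ u
  have hvT : v ∈ T := hTinv u huT
  set c := ⁅u, v⁆
  have hcD := hD u huT v hvT
  have hcen : ∀ g : X, Commute g c := fun g => mem_center_iff.1 (hDz hcD) g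
  set a := u * u
  have haW : a ∈ W := hTsq u huT
  have hna : ∀ w ∈ W, w * w ≠ a := fun w hw e => huW (hroot u huT w hw e)
  have hmul : ∀ s ∈ T, ∀ t ∈ T, (s * t) * (s * t) = ⁅t, s⁆ * ((s * s) * (t * t)) := by
    intro s hs t ht
    have hc := mem_center_iff.1 (hDz (hD t ht s hs))
    calc s * t * (s * t) = s * (⁅t, s⁆ * (s * t)) * t := by rw [commutatorElement_def]; group
      _ = ⁅t, s⁆ * ((s * s) * (t * t)) := by rw [← mul_assoc s, hc s]; group
  have hc1 : c = 1 := by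
    refine h.fpf c (h.le hcD) ?_
    set w := φ v
    have hwT : w ∈ T := hTinv v hvT
    have hp : u * v * w ∈ W := by
      have hsq : (u * v * w) * (u * v * w) ∈ D := by
        rw [hmul _ (mul_mem huT hvT) _ hwT, hmul u huT v hvT]
        have h3 : u * u * (v * v) * (w * w) = 1 := by
          rw [← map_mul, ← map_mul, ← map_mul]
          exact h.norm haW
        have : ⁅v, u⁆ * (u * u * (v * v)) * (w * w) = ⁅v, u⁆ := by rw [mul_assoc, h3, mul_one]
        rw [this]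
        exact mul_mem (hD w hwT _ (mul_mem huT hvT)) (hD v hvT u huT)
      obtain ⟨r, hr, hr2⟩ := h.exists_root_D hm hsq
      exact hroot _ (mul_mem (mul_mem huT hvT) hwT) r hr hr2
    show φ ⁅u, v⁆ = c
    rw [map_commutatorElement]
    show ⁅v, w⁆ = c
    set p := u * v * w
    have hw : w = v⁻¹ * u⁻¹ * p := by simp [p, mul_assoc]
    have hpv : v * p = p * v := hTc v hvT p hp
    rw [hw]
    calc ⁅v, v⁻¹ * u⁻¹ * p⁆ = u⁻¹ * (p * v⁻¹ * p⁻¹) * u * v := by
          rw [commutatorElement_def]; group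
      _ = u⁻¹ * v⁻¹ * u * v := by
          rw [show p * v⁻¹ * p⁻¹ = v⁻¹ by
            rw [mul_inv_eq_iff_eq_mul, eq_inv_mul_iff_mul_eq, ← mul_assoc, hpv, mul_inv_cancel_right]]
      _ = (v * u)⁻¹ * c * (v * u) := by rw [show c = u * v * u⁻¹ * v⁻¹ from rfl]; group
      _ = c := by rw [(hcen (v * u)⁻¹).eq, mul_assoc, inv_mul_cancel, mul_one]
  -- `P = W⟨u, φ u⟩` is abelian and is all of `T`
  set S : Set X := {u, v} ∪ (W : Set X)
  have hST : S ⊆ T := by
    rintro z ((rfl | rfl) | hz)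
    exacts [huT, hvT, hWT hz]
  haveI hPc : IsMulCommutative (closure S) := isMulCommutative_closure (by
    have huv : u * v = v * u := commutatorElement_eq_one_iff_mul_comm.1 hc1
    rintro s ((rfl | rfl) | hs) t ((rfl | rfl) | ht)
    · rfl
    · exact huv
    · exact hTc _ huT t ht
    · exact huv.symm
    · rfl
    · exact hTc _ hvT t ht
    · exact (hTc _ huT s hs).symm
    · exact (hTc _ hvT s hs).symm
    · exact h.comm s hs t ht)
  have hPT : closure S ≤ T := (closure_le _).2 hST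
  have hsquares : ∀ w ∈ W, ∃ q ∈ closure S, q * q = w := by
    intro w hw
    rw [← h.gen a haW hna] at hw
    induction hw using closure_induction with
    | mem z hz =>
      rcases hz with rfl | rfl
      · exact ⟨u, subset_closure (Or.inl (Or.inl rfl)), rfl⟩
      · exact ⟨v, subset_closure (Or.inl (Or.inr rfl)), (map_mul φ u u).symm⟩
    | one => exact ⟨1, one_mem _, one_mul 1⟩
    | mul y z _ _ hy hz =>
      obtain ⟨q, hq, hqy⟩ := hy
      obtain ⟨q', hq', hqz⟩ := hz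
      exact ⟨q * q', mul_mem hq hq', by
        rw [(show Commute q' q from setLike_mul_comm hq' hq).mul_mul_mul_comm, hqy, hqz]⟩
    | inv y _ hy =>
      obtain ⟨q, hq, hqy⟩ := hy
      exact ⟨q⁻¹, inv_mem hq, by rw [← mul_inv_rev, hqy]⟩
  have hTP : ∀ t ∈ T, t ∈ closure S := by
    intro t ht
    obtain ⟨q, hq, hqt⟩ := hsquares _ (hTsq t ht)
    have hq' : q⁻¹ ∈ T := inv_mem (hPT hq)
    obtain ⟨r, hr, hr2⟩ := h.exists_root_D hm (hD q⁻¹ hq' t ht)
    have hW : t * q⁻¹ ∈ W := by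
      refine hroot _ (mul_mem ht hq') r hr ?_
      rw [hr2, hmul t ht _ hq', ← hqt, ← mul_inv_rev, mul_inv_cancel, mul_one]
    have := mul_mem (subset_closure (Or.inr hW) : t * q⁻¹ ∈ closure S) hq
    rwa [inv_mul_cancel_right] at this
  exact fun s hs t ht => setLike_mul_comm (hTP s hs) (hTP t ht)

end HomoData

end CfsgLib.PGroup
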