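import Cfsg.Agent.Lib.PGroup.HomocyclicExponent

/-!
A noncentral invariant abelian normal subgroup in a `2`-group without normal `E₈` and `[X, A] = X`:
squares are central and the centre is elementary.
-/

set_option autoImplicit false
set_option linter.style.haveILetI false

universe u

namespace CfsgLib.PGroup

open Subgroup
open scoped commutatorElement

variable {X : Type u} [Group X]

theorem eq_one_of_fixed_selfCentralizing [Finite X] {W : Subgroup X} (hWn : W.Normal)
    (hCW : centralizer (W : Set X) = W) (hX : IsPGroup 2 X) (β : MulAut X)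
    (hodd : Odd (orderOf β)) (hfix : ∀ w ∈ W, β w = w) : β = 1 := by
  haveI := Fact.mk Nat.prime_two
  refine MulEquiv.ext fun x => ?_
  show β x = x
  have hmem : x⁻¹ * β x ∈ W := by
    rw [← hCW, mem_centralizer_iff]
    intro w hw
    have h1 : β x * w * (β x)⁻¹ = x * w * x⁻¹ := by
      have := hfix _ (hWn.conj_mem w hw x)
      rwa [map_mul, map_mul, map_inv, hfix w hw] at this
    calc w * (x⁻¹ * β x) = x⁻¹ * (x * w * x⁻¹) * β x := by group
      _ = x⁻¹ * (β x * w * (β x)⁻¹) * β x := by rw [h1]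
      _ = x⁻¹ * β x * w := by group
  set w0 := x⁻¹ * β x
  have hpow : ∀ k : ℕ, (β ^ k) x = x * w0 ^ k := by
    intro k
    induction k with
    | zero => simp
    | succ k ih =>
      rw [pow_succ', MulAut.mul_apply, ih, map_mul, map_pow, hfix w0 hmem]
      rw [pow_succ' w0, ← mul_assoc, mul_inv_cancel_left]
  have h1 := hpow (orderOf β)
  rw [pow_orderOf_eq_one, MulAut.one_apply, left_eq_mul] at h1
  have hw0 : w0 = 1 := by
    obtain ⟨j, hj⟩ := (IsPGroup.iff_orderOf.1 hX) w0
    rw [← orderOf_eq_one_iff]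
    exact Nat.eq_one_of_dvd_coprimes (Nat.Coprime.pow_left j (Nat.coprime_two_left.2 hodd)) hj.dvd
      (orderOf_dvd_of_pow_eq_one h1)
  exact (inv_mul_eq_one.1 hw0).symm

/-- With a noncentral invariant abelian normal subgroup, squares are central involutions and the
centre is elementary abelian. -/
theorem squares_of_noncentral [Finite X] (hX : IsPGroup 2 X) (hna : ¬ IsMulCommutative X)
    (hscn : ¬ ∃ A : Subgroup X, A.Normal ∧ Subgroup.centralizer (A : Set X) = A ∧
      ∃ E : Subgroup X, E ≤ A ∧ Cfsg.IsElementaryAbelian 2 E ∧ Nat.card E = 8)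
    {A : Subgroup (MulAut X)} (hA : Odd (Nat.card A)) (hfull : IsFullAction A)
    (W₀ : Subgroup X) (hn₀ : W₀.Normal) (hc₀ : ∀ a ∈ W₀, ∀ b ∈ W₀, a * b = b * a)
    (hinv₀ : IsAInvariant A W₀) (hnz₀ : ¬ W₀ ≤ center X) :
    (∀ g : X, g * g ∈ center X) ∧ (∀ z ∈ center X, z * z = 1) := by
  classical
  haveI := Fact.mk Nat.prime_two
  haveI : Finite (MulAut X) := Finite.of_injective (fun e => (e : X → X)) DFunLike.coe_injective
  obtain ⟨W, hW0, hW⟩ := Finite.exists_le_maximal
    (p := fun B : Subgroup X => B.Normal ∧ (∀ a ∈ B, ∀ b ∈ B, a * b = b * a) ∧ IsAInvariant A B)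
    (a := W₀) ⟨hn₀, hc₀, hinv₀⟩
  obtain ⟨hWn, hWc, hWinv⟩ := hW.prop
  haveI := hWn
  have hnz : ¬ W ≤ center X := fun h => hnz₀ (hW0.trans h)
  have hmove : ∃ α ∈ A, ∃ w ∈ W, α w ≠ w := by
    by_contra hall
    push Not at hall
    exact hnz (le_center_of_fixed hfull hWn hall)
  obtain ⟨φ, D, m, hφA, h, hDz, hm2⟩ := exists_homoData hX hscn hA hfull W hWn hWc hWinv hmove
  have hm : 2 ≤ m := hm2 hnz
  -- `W` is self-centralizing
  have hWC : W ≤ centralizer (W : Set X) := fun w hw =>
    mem_centralizer_iff.2 fun v hv => hWc v hv w hw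
  have hCW : centralizer (W : Set X) = W := by
    refine le_antisymm ?_ hWC
    by_contra hne
    set C := centralizer (W : Set X)
    let T : Subgroup X :=
      { carrier := {t | t ∈ C ∧ t * t ∈ W ∧ ∀ x, ⁅t, x⁆ ∈ W}
        one_mem' := ⟨one_mem _, by rw [one_mul]; exact one_mem _,
          fun x => by rw [commutatorElement_one_left]; exact one_mem _⟩
        mul_mem' := fun {s t} hs ht => ⟨mul_mem hs.1 ht.1, by
          have e1 : s * t * (s * t) = s * ⁅t, s⁆ * s⁻¹ * (s * s * (t * t)) := by
            simp only [commutatorElement_def]; group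
          rw [e1]
          exact mul_mem (hWn.conj_mem _ (ht.2.2 s) s) (mul_mem hs.2.1 ht.2.1), fun x => by
          have e2 : ⁅s * t, x⁆ = s * ⁅t, x⁆ * s⁻¹ * ⁅s, x⁆ := by
            simp only [commutatorElement_def]; group
          rw [e2]
          exact mul_mem (hWn.conj_mem _ (ht.2.2 x) s) (hs.2.2 x)⟩
        inv_mem' := fun {t} ht => ⟨inv_mem ht.1, by rw [← mul_inv_rev]; exact inv_mem ht.2.1,
          fun x => by
          have e2 : ⁅t⁻¹, x⁆ = t⁻¹ * ⁅t, x⁆⁻¹ * t⁻¹⁻¹ := by
            simp only [commutatorElement_def]; group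
          rw [e2]
          exact hWn.conj_mem _ (inv_mem (ht.2.2 x)) _⟩ }
    have hWT : W ≤ T := fun w hw => ⟨hWC hw, mul_mem hw hw, fun x => by
      rw [← commutatorElement_inv]; exact inv_mem (HomoData.comm_mem hWn x hw)⟩
    have hTn : T.Normal := ⟨fun t ht x => by
      have e : x * t * x⁻¹ = ⁅x, t⁆ * t := by rw [commutatorElement_def]; group
      rw [e]
      refine mul_mem (hWT ?_) ht
      rw [← commutatorElement_inv]; exact inv_mem (ht.2.2 x)⟩
    have hTinv : IsAInvariant A T := fun α hα t ht => ⟨aInvariant_centralizer hWinv α hα t ht.1,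
      by rw [← map_mul]; exact hWinv α hα _ ht.2.1, fun x => by
        have := hWinv α hα _ (ht.2.2 (α⁻¹ x))
        rwa [map_commutatorElement, MulAut.apply_inv_self] at this⟩
    have hTc := h.quad_ext_commutative hX hscn hDz hm T hWT
      (fun t ht w hw => (mem_centralizer_iff.1 ht.1 w hw).symm) (fun t ht => ht.2.1)
      (fun t ht => ht.2.2) (fun t ht => hTinv φ hφA t ht)
    have hTW : T ≤ W := hW.le_of_ge ⟨hTn, hTc, hTinv⟩ hWT
    -- but `T` is larger than `W`
    haveI hCn : C.Normal := inferInstance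
    haveI : (C.map (QuotientGroup.mk' W)).Normal := hCn.map _ (QuotientGroup.mk'_surjective W)
    obtain ⟨q, hq, hq1, hqz⟩ := CfsgLib.OddLocal.exists_center_of_normal_ne_bot (hX.to_quotient W)
      (C.map (QuotientGroup.mk' W)) (fun e => hne (by
        rwa [Subgroup.map_eq_bot_iff, QuotientGroup.ker_mk'] at e))
    set K := C.map (QuotientGroup.mk' W) ⊓ center (X ⧸ W)
    have hK : K ≠ ⊥ := fun e => hq1 (by
      have : q ∈ K := ⟨hq, hqz⟩
      rwa [e, mem_bot] at this)
    haveI : Nontrivial K := (Subgroup.nontrivial_iff_ne_bot _).2 hK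
    obtain ⟨j, hj, hj'⟩ := ((hX.to_quotient W).to_subgroup K).nontrivial_iff_card.1 inferInstance
    obtain ⟨z, hz⟩ := exists_prime_orderOf_dvd_card' 2 (hj' ▸ dvd_pow_self 2 hj.ne' : 2 ∣ Nat.card K)
    obtain ⟨t, htC, htz⟩ := z.2.1
    have ht : t ∈ T := by
      refine ⟨htC, ?_, fun x => ?_⟩
      · rw [← QuotientGroup.eq_one_iff, QuotientGroup.mk_mul]
        show QuotientGroup.mk' W t * QuotientGroup.mk' W t = 1
        rw [htz, ← Subgroup.coe_mul, ← _root_.sq,
          show z ^ 2 = 1 by rw [← hz]; exact pow_orderOf_eq_one z, Subgroup.coe_one]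
      · rw [← QuotientGroup.eq_one_iff]
        show QuotientGroup.mk' W ⁅t, x⁆ = 1
        rw [map_commutatorElement, htz, commutatorElement_eq_one_iff_mul_comm]
        exact (mem_center_iff.1 z.2.2 _).symm
    have htW := hTW ht
    have h1 : z = 1 := by
      refine Subtype.ext ?_
      rw [← htz]
      exact (QuotientGroup.eq_one_iff t).2 htW
    rw [h1, orderOf_one] at hz
    norm_num at hz
  -- `A = ⟨φ⟩` of order three
  have hodd : ∀ α ∈ A, Odd (orderOf α) := fun α hα => by
    have h1 : orderOf (⟨α, hα⟩ : A) ∣ Nat.card A := orderOf_dvd_natCard _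
    rw [← Subgroup.orderOf_coe] at h1
    exact hA.of_dvd_nat h1
  have hcube : ∀ x : X, φ (φ (φ x)) = x := by
    have h3 : φ * φ * φ = 1 := eq_one_of_fixed_selfCentralizing hWn hCW hX _
      (hodd _ (mul_mem (mul_mem hφA hφA) hφA)) fun w hw => by
        simp only [MulAut.mul_apply]; exact h.cube w hw
    intro x
    have := congrArg (fun e : MulAut X => e x) h3
    simpa [MulAut.mul_apply] using this
  have hgenA : ∀ α ∈ A, α = 1 ∨ α = φ ∨ α = φ * φ := by
    obtain ⟨a, ha, hna'⟩ : ∃ a ∈ W, ∀ v ∈ W, v * v ≠ a := by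
      by_contra hall
      push Not at hall
      let sq2 : W → W := fun v => v * v
      have hsurj : Function.Surjective sq2 := fun a => by
        obtain ⟨v, hv, hv2⟩ := hall a a.2
        exact ⟨⟨v, hv⟩, Subtype.ext hv2⟩
      have hinj := Finite.injective_iff_surjective.2 hsurj
      obtain ⟨s, hs, hs1⟩ : ∃ s ∈ D, s ≠ 1 :=
        (Subgroup.bot_or_exists_ne_one D).resolve_left fun e => by
          have := h.cardD
          rw [e, card_bot] at this
          norm_num at this
      have : (⟨s, h.le hs⟩ : W) = 1 := hinj (Subtype.ext (by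
        show s * s = 1 * 1
        rw [h.sq hs, one_mul]))
      exact hs1 (congrArg Subtype.val this)
    set s := a ^ (2 ^ (m - 1))
    have hπ : ∀ w ∈ W, w ^ (2 ^ (m - 1)) ∈ D := fun w hw => (h.memD _).2 ⟨pow_mem hw _, by
      rw [← pow_add, ← two_mul, ← pow_succ', show m - 1 + 1 = m by omega]
      exact h.pow_eq w hw⟩
    have hs1 : s ≠ 1 := fun e => by
      obtain ⟨v, hv, hva⟩ := h.sq_root a ha e
      exact hna' v hv hva
    have hsD : s ∈ D := hπ a ha
    -- automorphisms in `A` fixing `s` are trivial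
    have hfixs : ∀ β ∈ A, β s = s → β = 1 := by
      intro β hβ hβs
      have hβD : ∀ t ∈ D, β t ∈ D := fun t ht => (h.memD _).2
        ⟨hWinv β hβ t (h.le ht), by rw [← map_mul, h.sq ht, map_one]⟩
      have hcases : ∀ t ∈ D, β (β t) = t := by
        intro t ht
        have key : ∀ u ∈ D, u ≠ 1 → u ≠ s → β u ≠ 1 ∧ β u ≠ s := fun u _ h1 h2 =>
          ⟨fun e => h1 (β.injective (e.trans (map_one β).symm)), fun e => h2 (β.injective (e.trans hβs.symm))⟩
        by_cases h1 : t = 1
        · rw [h1, map_one, map_one]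
        by_cases h2 : t = s
        · rw [h2, hβs, hβs]
        obtain ⟨k1, k2⟩ := key t ht h1 h2
        by_cases h3 : β t = t
        · rw [h3, h3]
        obtain ⟨k3, k4⟩ := key _ (hβD t ht) k1 k2
        have e1 := h.mem_four hsD hs1 ht
        have e2 := h.mem_four hsD hs1 (hβD t ht)
        have e3 := h.mem_four hsD hs1 (hβD _ (hβD t ht))
        have hinj : β (β t) ≠ β t := fun e => h3 (β.injective e)
        rcases e1 with e1 | e1 | e1 | e1
        · exact absurd e1 h1
        · exact absurd e1 h2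
        all_goals
          rcases e2 with e2 | e2 | e2 | e2
          · exact absurd e2 k1
          · exact absurd e2 k2
          all_goals
            rcases e3 with e3 | e3 | e3 | e3
            · exact absurd e3 k3
            · exact absurd e3 k4
            all_goals first
              | exact e3.trans e1.symm
              | exact absurd (e2.trans e1.symm) h3
              | exact absurd (e3.trans e2.symm) hinj
      have hfixD : ∀ t ∈ D, β t = t := by
        intro t ht
        obtain ⟨k, hk⟩ := hodd β hβ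
        have h2 : (β ^ (2 * k + 1)) t = t := by
          rw [← hk, pow_orderOf_eq_one, MulAut.one_apply]
        have h3 : ∀ i : ℕ, (β ^ (2 * i)) t = t := by
          intro i
          induction i with
          | zero => simp
          | succ i ih =>
            rw [show 2 * (i + 1) = 2 * i + 1 + 1 by omega, pow_succ, pow_succ, MulAut.mul_apply,
              MulAut.mul_apply, hcases t ht, ih]
        rw [pow_succ', MulAut.mul_apply, h3] at h2
        exact h2
      refine eq_one_of_fixed_selfCentralizing hWn hCW hX β (hodd β hβ) ?_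
      let θ : MulAut W := restrictAct A W hWinv ⟨β, hβ⟩
      have hθ : θ = 1 := by
        refine aut_eq_one_of_fix_frattini (p := 2) (hX.to_subgroup W) θ ?_ fun w => ?_
        · refine Nat.coprime_two_right.2 ?_
          have h1 : orderOf θ ∣ orderOf (⟨β, hβ⟩ : A) := orderOf_map_dvd _ _
          exact (hA.of_dvd_nat (h1.trans (orderOf_dvd_natCard _)))
        · have hw : ((w : X)⁻¹ * β w) ^ (2 ^ (m - 1)) = 1 := by
            rw [(show Commute (w : X)⁻¹ (β w) from
              hWc _ (inv_mem w.2) _ (hWinv β hβ w w.2)).mul_pow, ← map_pow, hfixD _ (hπ w w.2),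
              inv_pow, inv_mul_cancel]
          obtain ⟨v, hv, hv2⟩ := h.sq_root _ (mul_mem (inv_mem w.2) (hWinv β hβ w w.2)) hw
          have e : w⁻¹ * θ w = (⟨v, hv⟩ : W) ^ 2 := by
            refine Subtype.ext ?_
            rw [_root_.sq]
            exact hv2.symm
          rw [e]
          exact CfsgLib.StructC.pow_mem_frattini (hX.to_subgroup W) _
      intro w hw
      have := congrArg (fun e : MulAut W => ((e ⟨w, hw⟩ : W) : X)) hθ
      simpa [θ, restrictAct_coe] using this
    intro α hα
    have hαs : α s ∈ D := (h.memD _).2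
      ⟨hWinv α hα s (h.le hsD), by rw [← map_mul, h.sq hsD, map_one]⟩
    rcases h.mem_four hsD hs1 hαs with e | e | e | e
    · exact absurd (α.injective (e.trans (map_one α).symm)) hs1
    · exact Or.inl (hfixs α hα e)
    · refine Or.inr (Or.inl (inv_mul_eq_one.1 (hfixs (φ⁻¹ * α) (mul_mem (inv_mem hφA) hα) ?_)).symm)
      rw [MulAut.mul_apply, e, MulAut.inv_apply_self]
    · refine Or.inr (Or.inr (inv_mul_eq_one.1
        (hfixs ((φ * φ)⁻¹ * α) (mul_mem (inv_mem (mul_mem hφA hφA)) hα) ?_)).symm)
      rw [MulAut.mul_apply, e]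
      exact MulAut.inv_apply_self X (φ * φ) s
  have hgen : closure {g : X | ∃ x : X, g = x⁻¹ * φ x} = ⊤ := by
    refine top_le_iff.1 ?_
    rw [← hfull, closure_le]
    rintro _ ⟨α, hα, x, rfl⟩
    rcases hgenA α hα with rfl | rfl | rfl
    · rw [MulAut.one_apply, inv_mul_cancel]; exact one_mem _
    · exact subset_closure ⟨x, rfl⟩
    · have e : x⁻¹ * (φ * φ) x = x⁻¹ * φ x * ((φ x)⁻¹ * φ (φ x)) := by
        rw [MulAut.mul_apply]; group
      rw [e]
      exact mul_mem (subset_closure ⟨x, rfl⟩) (subset_closure ⟨φ x, rfl⟩)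
  have hWtop : W ≠ ⊤ := fun e => hna ⟨⟨fun a b => hWc a (e ▸ mem_top a) b (e ▸ mem_top b)⟩⟩
  have hm' : m = 2 := le_antisymm (h.exponent_le_two hX hscn hWn hDz hcube hgen hCW hWtop) hm
  subst hm'
  -- every element of `W` has order at most four
  have h4 : ∀ w ∈ W, w * w ∈ D := fun w hw => by
    refine (h.memD _).2 ⟨mul_mem hw hw, ?_⟩
    have := h.pow_eq w hw
    rwa [pow_succ, pow_one, pow_mul, _root_.sq, _root_.sq] at this
  have hmoves : ∀ x ∉ W, ∃ b ∈ W, b * b ∈ D ∧ ⁅x, b⁆ ≠ 1 := by
    intro x hx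
    by_contra hall
    push Not at hall
    refine hx ?_
    rw [← hCW, mem_centralizer_iff]
    intro w hw
    exact (commutatorElement_eq_one_iff_mul_comm.1 (hall w hw (h4 w hw))).symm
  have hsqD : ∀ g : X, g * g ∈ D := by
    intro g
    by_cases hg : g ∈ W
    · exact h4 g hg
    refine h.mem_D_of_fixed hWn hDz hcube hgen (hmoves g hg) ?_ ?_
    · rw [← hCW, mem_centralizer_iff]
      intro w hw
      refine (commutatorElement_eq_one_iff_mul_comm.1 ?_).symm
      rw [h.comm_left_four hWn hDz g g hw (h4 w hw)]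
      exact h.sq (h.comm_four_mem hWn hDz g hw (h4 w hw))
    · exact commutatorElement_eq_one_iff_mul_comm.2 (mul_assoc g g g).symm
  refine ⟨fun g => hDz (hsqD g), fun z hz => h.sq ?_⟩
  have hzW : z ∈ W := by
    rw [← hCW, mem_centralizer_iff]
    exact fun w _ => mem_center_iff.1 hz w
  obtain ⟨x, hx⟩ : ∃ x, x ∉ W := by
    by_contra hall
    push Not at hall
    exact hWtop (top_le_iff.1 fun g _ => hall g)
  exact h.mem_D_of_fixed hWn hDz hcube hgen (hmoves x hx) hzW (HomoData.comm_eq_one_of_central hz x)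

end CfsgLib.PGroup
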