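import Cfsg.Agent.Lib.PGroup.MetacyclicTwoAut

/-!
A metacyclic `2`-group with automorphism group not a `2`-group is `Q₈` or homocyclic.
-/

set_option autoImplicit false
set_option linter.style.haveILetI false

universe u

namespace CfsgLib.PGroup

open Subgroup
open scoped commutatorElement

/-- Automorphisms of order three centralize cyclic invariant `2`-subgroups. -/
theorem apply_eq_of_cyclic_invariant {X : Type u} [Group X] [Finite X] (φ : MulAut X)
    (h3 : orderOf φ = 3) (C : Subgroup X) [C.Characteristic] (hC : IsPGroup 2 C) [IsCyclic C] :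
    ∀ c ∈ C, φ c = c := by
  let ψ : MulAut C := (φ.subgroupMap C).trans
    (MulEquiv.subgroupCongr (Subgroup.characteristic_iff_map_eq.1 inferInstance φ))
  have hψ : ∀ c : C, ((ψ c : C) : X) = φ c := fun c => rfl
  have hψ3 : ψ ^ 3 = 1 := by
    refine MulEquiv.ext fun c => Subtype.ext ?_
    have : (φ ^ 3) (c : X) = c := by rw [← h3, pow_orderOf_eq_one, MulAut.one_apply]
    simpa [pow_succ, MulAut.mul_apply, hψ] using this
  have h1 : orderOf ψ = 1 := by
    refine Nat.eq_one_of_dvd_coprimes ?_ (orderOf_dvd_of_pow_eq_one hψ3) (orderOf_dvd_natCard ψ)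
    rw [IsCyclic.card_mulAut]
    obtain ⟨k, hk⟩ := hC.exists_card_eq
    rw [hk]
    cases k with
    | zero => simp
    | succ k =>
      rw [Nat.totient_prime_pow Nat.prime_two (by omega)]
      simp only [Nat.add_sub_cancel, show 2 - 1 = 1 from rfl, mul_one]
      exact Nat.Coprime.pow_right k (by norm_num)
  intro c hc
  have := hψ ⟨c, hc⟩
  rw [orderOf_eq_one_iff.1 h1] at this
  exact this.symm

/-- The derived group is cyclic, fixed and central. -/
theorem commutator_central_of_fpf {X : Type u} [Group X] [Finite X] (hX : IsPGroup 2 X)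
    (hm : Cfsg.IsMetacyclic X) (φ : MulAut X) (h3 : orderOf φ = 3) :
    IsCyclic (_root_.commutator X) ∧ (∀ c ∈ _root_.commutator X, φ c = c) ∧
      _root_.commutator X ≤ center X := by
  haveI := Fact.mk Nat.prime_two
  obtain ⟨hgen, hprod, hnc⟩ := metacyclic_two_frattini hX hm φ h3
  set C := _root_.commutator X
  obtain ⟨N, hN, hNc, hQc⟩ := hm
  haveI := hN
  have hCN : C ≤ N :=
    (Normal.quotient_commutative_iff_commutator_le (N := N)).1
      (by letI := IsCyclic.commGroup (α := X ⧸ N); exact ⟨⟨mul_comm⟩⟩)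
  haveI := hNc
  haveI hCc : IsCyclic C := isCyclic_of_injective (inclusion hCN) (inclusion_injective hCN)
  have hfix := apply_eq_of_cyclic_invariant φ h3 C (hX.to_subgroup C)
  refine ⟨hCc, hfix, ?_⟩
  set S := centralizer (C : Set X)
  have hS : ∀ g : X, g⁻¹ * φ g ∈ S := by
    intro g
    rw [mem_centralizer_iff]
    intro c hc
    have h1 : φ g * c * (φ g)⁻¹ = g * c * g⁻¹ := by
      have := hfix _ ((inferInstance : C.Normal).conj_mem c hc g)
      rwa [map_mul, map_mul, map_inv, hfix c hc] at this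
    calc c * (g⁻¹ * φ g) = g⁻¹ * (g * c * g⁻¹) * φ g := by group
      _ = g⁻¹ * (φ g * c * (φ g)⁻¹) * φ g := by rw [h1]
      _ = g⁻¹ * φ g * c := by group
  obtain ⟨x, hx⟩ : ∃ x : X, x ∉ frattini X := by
    by_contra hall
    push Not at hall
    have h0 : (⊥ : Subgroup X) = ⊤ := frattini_nongenerating (by
      rw [bot_sup_eq]; exact top_le_iff.1 fun g _ => hall g)
    haveI : Subsingleton X := ⟨fun a b => by
      have ha : a ∈ (⊥ : Subgroup X) := h0 ▸ mem_top a
      have hb : b ∈ (⊥ : Subgroup X) := h0 ▸ mem_top b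
      rw [mem_bot] at ha hb; rw [ha, hb]⟩
    exact hnc inferInstance
  have hxm : x ∈ S ⊔ frattini X := by
    have e : x = (φ x)⁻¹ * φ (φ x) * ((x⁻¹ * (φ x)⁻¹ * x * φ x) * ((x * φ x)⁻¹ * φ (φ x)))⁻¹ := by
      group
    rw [e]
    exact mul_mem (mem_sup_left (hS (φ x))) (mem_sup_right (inv_mem
      (mul_mem (CfsgLib.StructC.comm_mem_frattini hX x (φ x)) (hprod x))))
  have hy : φ x ∈ S ⊔ frattini X := by
    have := mul_mem hxm (mem_sup_left (hS x) : x⁻¹ * φ x ∈ S ⊔ frattini X)
    rwa [mul_inv_cancel_left] at this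
  have hST : S ⊔ frattini X = ⊤ := top_le_iff.1 ((hgen x).resolve_left hx ▸ (closure_le _).2 (by
    rintro v (rfl | rfl)
    · exact hxm
    · exact hy))
  have hStop := frattini_nongenerating hST
  intro c hc
  rw [mem_center_iff]
  intro g
  exact (mem_centralizer_iff.1 (hStop.ge (mem_top g)) c hc).symm

/-- **Metacyclic `2`-groups with a nontrivial automorphism of odd order.** -/
theorem quaternion_or_homocyclic {X : Type u} [Group X] [Finite X] (hX : IsPGroup 2 X)
    (hm : Cfsg.IsMetacyclic X) (hA : ¬ IsPGroup 2 (MulAut X)) :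
    Nonempty (X ≃* QuaternionGroup 2) ∨
      ∃ n : ℕ, Nonempty (X ≃* Multiplicative (ZMod (2 ^ n)) × Multiplicative (ZMod (2 ^ n))) := by
  haveI := Fact.mk Nat.prime_two
  haveI : Finite (MulAut X) := Finite.of_injective (fun e => (e : X → X)) DFunLike.coe_injective
  obtain ⟨φ, h3⟩ : ∃ φ : MulAut X, orderOf φ = 3 := by
    obtain ⟨q, hq, hqd, hq2⟩ : ∃ q : ℕ, q.Prime ∧ q ∣ Nat.card (MulAut X) ∧ q ≠ 2 := by
      by_contra hall
      push Not at hall
      exact hA (IsPGroup.of_card (Nat.eq_prime_pow_of_unique_prime_dvd Nat.card_pos.ne'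
        fun {d} hd h => hall d hd h))
    haveI := Fact.mk hq
    obtain ⟨φ, hφ⟩ := exists_prime_orderOf_dvd_card' q hqd
    refine ⟨φ, ?_⟩
    by_contra hne
    rw [hφ] at hne
    have := CfsgLib.Invol.aut_eq_one_of_metacyclic hX hm φ
      (by rw [hφ]; exact (Nat.coprime_primes hq Nat.prime_two).2 hq2)
      (by rw [hφ]; exact (Nat.coprime_primes hq Nat.prime_three).2 hne)
    rw [this, orderOf_one] at hφ
    exact hq.ne_one hφ.symm
  obtain ⟨hgen, hprod, hnc⟩ := metacyclic_two_frattini hX hm φ h3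
  obtain ⟨hCc, hfix, hCz⟩ := commutator_central_of_fpf hX hm φ h3
  set C := _root_.commutator X with hC
  have hmemC : ∀ a b : X, ⁅a, b⁆ ∈ C := fun a b => commutator_mem_commutator (mem_top a) (mem_top b)
  by_cases hab : C = ⊥
  · refine Or.inr ?_
    obtain ⟨n, -, -, -, he⟩ := homocyclic_of_fpf hX (fun a b => by
      have := hmemC a b
      rw [hab, mem_bot] at this
      exact commutatorElement_eq_one_iff_mul_comm.1 this) φ hnc hgen
    exact ⟨n, he⟩
  left
  -- the abelianization
  let π := QuotientGroup.mk' C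
  have hπ : Function.Surjective π := QuotientGroup.mk'_surjective C
  let θ : MulAut (X ⧸ C) :=
    QuotientGroup.congr C C φ (Subgroup.characteristic_iff_map_eq.1 inferInstance φ)
  have hQc : ∀ a b : X ⧸ C, a * b = b * a := by
    intro a b
    obtain ⟨a, rfl⟩ := hπ a
    obtain ⟨b, rfl⟩ := hπ b
    rw [← commutatorElement_eq_one_iff_mul_comm, ← map_commutatorElement]
    exact (QuotientGroup.eq_one_iff _).2 (hmemC a b)
  have hQnc : ¬ IsCyclic (X ⧸ C) := fun h => hab (by
    have hc' := commutative_of_cyclic_center_quotient π (by rwa [QuotientGroup.ker_mk'])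
    rw [eq_bot_iff, hC, _root_.commutator_def, commutator_le]
    intro a _ b _
    rw [mem_bot, commutatorElement_eq_one_iff_mul_comm]
    exact hc' a b)
  have hQgen : ∀ q : X ⧸ C, q ∈ frattini (X ⧸ C) ∨ closure ({q, θ q} : Set (X ⧸ C)) = ⊤ := by
    intro q
    obtain ⟨g, rfl⟩ := hπ q
    rcases hgen g with h | h
    · exact Or.inl (frattini_le_comap_frattini_of_surjective hπ h)
    · refine Or.inr ?_
      have := congrArg (Subgroup.map π) h
      rwa [MonoidHom.map_closure, Set.image_pair, map_top_of_surjective π hπ] at this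
  obtain ⟨n, hn1, hexp, hcard, -⟩ := homocyclic_of_fpf (hX.to_quotient C) hQc θ hQnc hQgen
  have hpow : ∀ g : X, g ^ 2 ^ n ∈ C := fun g =>
    (QuotientGroup.eq_one_iff _).1 (by rw [QuotientGroup.mk_pow]; exact hexp (g : X ⧸ C))
  obtain ⟨c, hc⟩ := hCc.exists_generator
  have hXcard := card_eq_card_quotient_mul_card_subgroup C
  rw [hcard] at hXcard
  obtain ⟨k, hk⟩ := (hX.to_subgroup C).exists_card_eq
  have hk1 : 1 ≤ k := by
    rcases k with _ | k
    · exact absurd (Subgroup.card_eq_one.1 (by simpa using hk)) hab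
    · omega
  by_cases hn : 2 ≤ n
  · exfalso
    set Z := zpowers ((c : X) * c)
    have hZC : Z ≤ C := zpowers_le.2 (mul_mem c.2 c.2)
    haveI hZn : Z.Normal := ⟨fun z hz g => by
      rw [mem_center_iff.1 (hCz (hZC hz)) g, mul_inv_cancel_right]; exact hz⟩
    let ρ := QuotientGroup.mk' Z
    have hρ : Function.Surjective ρ := QuotientGroup.mk'_surjective Z
    have hZmap : Z.map φ.toMonoidHom = Z := by
      rw [MonoidHom.map_zpowers]
      exact congrArg zpowers (hfix _ (mul_mem c.2 c.2))
    let θR : MulAut (X ⧸ Z) := QuotientGroup.congr Z Z φ hZmap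
    have hθR : ∀ g : X, θR (ρ g) = ρ (φ g) := fun g => rfl
    have hle := exponent_count (CfsgLib.Invol.isMetacyclic_quotient hm Z) θR (C.map ρ) ?_ ?_ ?_ ?_
      (hX.to_quotient Z) ?_ hn ?_
    · have h1 := card_eq_card_quotient_mul_card_subgroup Z
      have hcC : orderOf c = 2 ^ k := by rw [← hk]; exact orderOf_eq_card_of_forall_mem_zpowers hc
      have h2 : 2 * Nat.card Z = Nat.card C := by
        rw [hk, Nat.card_zpowers, ← sq, orderOf_pow, Subgroup.orderOf_coe, hcC,
          Nat.gcd_eq_right (dvd_pow_self 2 (by omega)), Nat.mul_div_cancel' (dvd_pow_self 2 (by omega))]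
      rw [hXcard, ← h2] at h1
      have hpos : 0 < Nat.card Z := Nat.card_pos
      have h3' : 2 * (2 ^ n * 2 ^ n) = Nat.card (X ⧸ Z) := by
        refine Nat.eq_of_mul_eq_mul_right hpos ?_
        rw [← h1]; ring
      have : 0 < 2 ^ n * 2 ^ n := by positivity
      omega
    · rintro _ ⟨d, hd, rfl⟩
      rw [mem_center_iff]
      intro q
      obtain ⟨g, rfl⟩ := hρ q
      rw [← map_mul, ← map_mul, mem_center_iff.1 (hCz hd) g]
    · rintro _ ⟨d, hd, rfl⟩
      rw [← map_mul]
      refine (QuotientGroup.eq_one_iff _).2 ?_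
      obtain ⟨i, hi⟩ := hc ⟨d, hd⟩
      have hi' : (c : X) ^ i = d := congrArg Subtype.val hi
      rw [← hi', ← (Commute.refl (c : X)).mul_zpow]
      exact zpow_mem (mem_zpowers _) i
    · rintro _ ⟨d, hd, rfl⟩
      rw [hθR, hfix d hd]
    · intro a b
      obtain ⟨a, rfl⟩ := hρ a
      obtain ⟨b, rfl⟩ := hρ b
      rw [← map_commutatorElement]
      exact mem_map_of_mem ρ (hmemC a b)
    · intro q
      obtain ⟨g, rfl⟩ := hρ q
      rw [hθR, hθR, ← map_mul, ← map_inv, ← map_mul]
      exact frattini_le_comap_frattini_of_surjective hρ (hprod g)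
    · intro q
      obtain ⟨g, rfl⟩ := hρ q
      rw [← map_pow]
      exact mem_map_of_mem ρ (hpow g)
  obtain rfl : n = 1 := by omega
  have hcen : ∀ a b g : X, Commute ⁅a, b⁆ g := fun a b g =>
    (mem_center_iff.1 (hCz (hmemC a b)) g).symm
  have hsq : ∀ g : X, g * g ∈ C := fun g => by simpa [sq] using hpow g
  have hC2 : ∀ d ∈ C, d * d = 1 := by
    have hle : C ≤ { carrier := {d | d ∈ center X ∧ d * d = 1}
                     one_mem' := ⟨one_mem _, one_mul 1⟩
                     mul_mem' := fun {a b} ha hb => ⟨mul_mem ha.1 hb.1, by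
                       rw [(show Commute b a from mem_center_iff.1 ha.1 b).mul_mul_mul_comm, ha.2,
                         hb.2, one_mul]⟩
                     inv_mem' := fun {a} ha => ⟨inv_mem ha.1, by
                       rw [← mul_inv_rev, ha.2, inv_one]⟩ : Subgroup X } := by
      rw [hC, _root_.commutator_def, commutator_le]
      intro a _ b _
      refine ⟨hCz (hmemC a b), ?_⟩
      have h2 : a * a * b = b * (a * a) := (mem_center_iff.1 (hCz (hsq a)) b).symm
      have h3 : a * b = ⁅a, b⁆ * (b * a) := by rw [commutatorElement_def]; group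
      have h4 : a * a * b = ⁅a, b⁆ * ⁅a, b⁆ * (b * (a * a)) := by
        calc a * a * b = a * (⁅a, b⁆ * (b * a)) := by rw [mul_assoc, h3]
          _ = ⁅a, b⁆ * (a * b * a) := by rw [(hcen a b a).symm.left_comm]; group
          _ = ⁅a, b⁆ * ⁅a, b⁆ * (b * (a * a)) := by rw [h3]; group
      rw [h2] at h4
      exact right_eq_mul.1 h4
    exact fun d hd => (hle hd).2
  haveI : C.Normal := inferInstance
  have hΦ : frattini X ≤ C :=
    CfsgLib.Transfer.frattini_le_of_elementary_quotient (p := 2) C hmemC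
      (fun g => by rw [sq]; exact hsq g)
  obtain ⟨x, hx⟩ : ∃ x : X, x ∉ frattini X := by
    by_contra hall
    push Not at hall
    have htop : C = ⊤ := top_le_iff.1 fun g _ => hΦ (hall g)
    exact hnc (isCyclic_of_surjective (C.subtype) fun g => ⟨⟨g, htop.ge (mem_top g)⟩, rfl⟩)
  have htop := (hgen x).resolve_left hx
  set y := φ x
  set e := ⁅y, x⁆ with he
  have hne : e ≠ 1 := by
    intro h1
    apply hab
    rw [he, commutatorElement_eq_one_iff_mul_comm] at h1
    have hcomm : ∀ a b : X, a * b = b * a := by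
      haveI : IsMulCommutative (closure ({x, y} : Set X)) :=
        isMulCommutative_closure (by
          rintro a (rfl | rfl) b (rfl | rfl)
          · rfl
          · exact h1.symm
          · exact h1
          · rfl)
      intro a b
      exact setLike_mul_comm (htop.ge (mem_top a)) (htop.ge (mem_top b))
    rw [eq_bot_iff, hC, _root_.commutator_def, commutator_le]
    intro a _ b _
    rw [mem_bot, commutatorElement_eq_one_iff_mul_comm]
    exact hcomm a b
  have hxx : x * x = e := by
    have hy2 : y * y = x * x := by rw [← map_mul, hfix _ (hsq x)]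
    obtain ⟨w, hw, hyw⟩ : ∃ w ∈ C, φ y = x * y * w :=
      ⟨_, hΦ (hprod x), (mul_inv_cancel_left _ _).symm⟩
    have h1 : φ y * φ y = x * x := by rw [← map_mul, hy2, hfix _ (hsq x)]
    have h2 := mul_pow_of_central_comm x y (hcen y x) 2
    rw [Nat.choose_self, pow_one, sq, sq, sq, hy2, hC2 _ (hsq x), one_mul, ← he] at h2
    rw [← h1, hyw, (show Commute (x * y) w from mem_center_iff.1 (hCz hw) _).symm.mul_mul_mul_comm,
      hC2 w hw, mul_one, h2]
  have he2 : e * e = 1 := hC2 _ (hmemC y x)
  have hx4 : orderOf x = 2 * 2 := by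
    have h := orderOf_eq_prime_pow (p := 2) (n := 1) (x := x) (by rw [pow_one, sq, hxx]; exact hne)
      (by rw [show (2 : ℕ) ^ (1 + 1) = 2 * 2 from rfl, pow_mul, sq, sq, hxx, he2])
    simpa using h
  have hy2 : y * y = x ^ 2 := by rw [sq, ← map_mul, hfix _ (hsq x)]
  have hconj : y * x * y⁻¹ = x⁻¹ := by
    have h1 : y * x * y⁻¹ = e * x := by rw [he, commutatorElement_def]; group
    rw [h1, eq_inv_iff_mul_eq_one, mul_assoc, hxx, he2]
  have hnot : y ∉ zpowers x := by
    intro hy
    apply hnc
    have : zpowers x = ⊤ := top_le_iff.1 (htop ▸ (closure_le _).2 (by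
      rintro v (rfl | rfl)
      · exact mem_zpowers _
      · exact hy))
    exact ⟨x, fun g => this.ge (mem_top g)⟩
  obtain ⟨f⟩ := CfsgLib.Invol.exists_mulEquiv_quaternion hx4 hy2 hconj hnot
  exact ⟨((Subgroup.topEquiv.symm).trans (MulEquiv.subgroupCongr htop.symm)).trans f⟩

end CfsgLib.PGroup
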