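import Cfsg.Agent.Lib.PGroup.NoScnThreeSquares

/-!
`2`-groups of class two with elementary centre: centralizers are small when few squares vanish.
-/

set_option autoImplicit false
set_option linter.style.haveILetI false

universe u

namespace CfsgLib.PGroup

open Subgroup
open scoped commutatorElement

variable {X : Type u} [Group X]

/-- Squares are central involutions. -/
structure SpecialLike (X : Type u) [Group X] : Prop where
  sq_mem : ∀ g : X, g * g ∈ center X
  elem : ∀ z ∈ center X, z * z = 1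

namespace SpecialLike

variable (hs : SpecialLike X)
include hs

theorem comm_mem (a b : X) : ⁅a, b⁆ ∈ center X := by
  have e : ⁅a, b⁆ = a * a * (a⁻¹ * b * (a⁻¹ * b)) * (b⁻¹ * b⁻¹) := by
    rw [commutatorElement_def]; group
  rw [e]
  exact mul_mem (mul_mem (hs.sq_mem a) (hs.sq_mem _)) (hs.sq_mem _)

theorem comm_symm (a b : X) : ⁅a, b⁆ = ⁅b, a⁆ := by
  rw [← commutatorElement_inv]
  exact inv_eq_of_mul_eq_one_right (hs.elem _ (hs.comm_mem b a))

theorem comm_mul_left (a b c : X) : ⁅a * b, c⁆ = ⁅a, c⁆ * ⁅b, c⁆ :=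
  comm_mul_left_of_central (hs.comm_mem b c)

theorem comm_mul_right (a b c : X) : ⁅a, b * c⁆ = ⁅a, b⁆ * ⁅a, c⁆ :=
  comm_mul_right_of_central (hs.comm_mem a c)

theorem sq_mul (a b : X) : a * b * (a * b) = ⁅a, b⁆ * (a * a * (b * b)) := by
  rw [hs.comm_symm a b]
  have hc := mem_center_iff.1 (hs.comm_mem b a)
  calc a * b * (a * b) = a * (⁅b, a⁆ * (a * b)) * b := by rw [commutatorElement_def]; group
    _ = ⁅b, a⁆ * (a * a * (b * b)) := by rw [← mul_assoc a, hc a]; group

theorem inv_sq (a : X) : a⁻¹ * a⁻¹ = a * a := by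
  rw [← mul_inv_rev]
  exact inv_eq_of_mul_eq_one_right (hs.elem _ (hs.sq_mem a))

theorem comm_inv_left (a b : X) : ⁅a⁻¹, b⁆ = ⁅a, b⁆ := by
  have h1 := hs.comm_mul_left a⁻¹ a b
  rw [inv_mul_cancel, commutatorElement_one_left] at h1
  calc ⁅a⁻¹, b⁆ = ⁅a⁻¹, b⁆ * (⁅a, b⁆ * ⁅a, b⁆) := by rw [hs.elem _ (hs.comm_mem a b), mul_one]
    _ = ⁅a, b⁆ := by rw [← mul_assoc, ← h1, one_mul]

theorem normal_of_center_le {P : Subgroup X} (hP : center X ≤ P) : P.Normal :=
  ⟨fun g hg x => by
    have e : x * g * x⁻¹ = ⁅x, g⁆ * g := by rw [commutatorElement_def]; group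
    rw [e]
    exact mul_mem (hP (hs.comm_mem x g)) hg⟩

theorem mem_sup_zpowers_iff {P : Subgroup X} (hP : center X ≤ P) (v w : X) :
    w ∈ P ⊔ zpowers v ↔ w ∈ P ∨ v⁻¹ * w ∈ P := by
  haveI := hs.normal_of_center_le hP
  constructor
  · intro hw
    obtain ⟨a, ha, b, hb, rfl⟩ := mem_sup_of_normal_left.1 hw
    obtain ⟨i, rfl⟩ := mem_zpowers_iff.1 hb
    have h2 : v * v ∈ P := hP (hs.sq_mem v)
    rcases Int.even_or_odd i with ⟨j, rfl⟩ | ⟨j, rfl⟩
    · refine Or.inl ?_
      rw [zpow_add, ← (Commute.refl v).mul_zpow]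
      exact mul_mem ha (zpow_mem h2 j)
    · refine Or.inr ?_
      have e : v⁻¹ * (a * v ^ (2 * j + 1)) = v⁻¹ * (a * (v * v) ^ j) * v⁻¹⁻¹ := by
        rw [(Commute.refl v).mul_zpow, ← zpow_add, inv_inv, show 2 * j + 1 = j + j + 1 by ring,
          zpow_add v (j + j), zpow_one]
        group
      rw [e]
      exact (inferInstance : P.Normal).conj_mem _ (mul_mem ha (zpow_mem h2 j)) _
  · rintro (h | h)
    · exact mem_sup_left h
    · have := mul_mem (mem_sup_right (mem_zpowers v) : v ∈ P ⊔ zpowers v) (mem_sup_left h)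
      rwa [mul_inv_cancel_left] at this

theorem card_sup_zpowers_le [Finite X] {P : Subgroup X} (hP : center X ≤ P) (v : X) :
    Nat.card (P ⊔ zpowers v : Subgroup X) ≤ 2 * Nat.card P := by
  classical
  let f : (P ⊔ zpowers v : Subgroup X) → P ⊕ P := fun w =>
    if h : (w : X) ∈ P then Sum.inl ⟨w, h⟩
    else Sum.inr ⟨v⁻¹ * w, ((hs.mem_sup_zpowers_iff hP v w).1 w.2).resolve_left h⟩
  have hf : Function.Injective f := by
    intro a b hab
    simp only [f] at hab
    split_ifs at hab with ha hb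
    · exact Subtype.ext (congrArg Subtype.val (Sum.inl.inj hab) :)
    · exact Subtype.ext (mul_left_cancel (congrArg Subtype.val (Sum.inr.inj hab) :))
  have := Nat.card_le_card_of_injective f hf
  rw [Nat.card_sum] at this
  omega

/-- If elements of `U` outside `P` have squares outside `S`, where `S` has index two in the centre,
then `|U : P| ≤ 4`. -/
theorem card_le_four_mul [Finite X] {P U S : Subgroup X} (hP : center X ≤ P)
    (hS : ∀ a ∈ center X, ∀ b ∈ center X, a ∉ S → b ∉ S → a * b ∈ S)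
    (hsq : ∀ v ∈ U, v ∉ P → v * v ∉ S) : Nat.card U ≤ 4 * Nat.card P := by
  -- distinct classes do not commute modulo `S`
  have hnd : ∀ v ∈ U, ∀ w ∈ U, v ∉ P → w ∉ P → v⁻¹ * w ∉ P → ⁅v, w⁆ ∉ S := by
    intro v hv w hw hvP hwP hvw hc
    refine hsq _ (mul_mem (inv_mem hv) hw) hvw ?_
    rw [hs.sq_mul, hs.comm_inv_left, hs.inv_sq]
    exact mul_mem hc (hS _ (hs.sq_mem v) _ (hs.sq_mem w) (hsq v hv hvP) (hsq w hw hwP))
  by_contra hgt
  obtain ⟨v, hv, hvP⟩ : ∃ v ∈ U, v ∉ P := by
    by_contra hall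
    push Not at hall
    have := card_le_of_le (K := P) (H := U) hall
    omega
  have hP1 : center X ≤ P ⊔ zpowers v := hP.trans le_sup_left
  have hc1 := hs.card_sup_zpowers_le hP v
  obtain ⟨w, hw, hwP⟩ : ∃ w ∈ U, w ∉ P ⊔ zpowers v := by
    by_contra hall
    push Not at hall
    have := card_le_of_le (K := P ⊔ zpowers v) (H := U) hall
    omega
  have hc2 := hs.card_sup_zpowers_le hP1 w
  obtain ⟨w', hw', hwP'⟩ : ∃ w' ∈ U, w' ∉ P ⊔ zpowers v ⊔ zpowers w := by
    by_contra hall
    push Not at hall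
    have := card_le_of_le (K := P ⊔ zpowers v ⊔ zpowers w) (H := U) hall
    omega
  have hv2 : v ∈ P ⊔ zpowers v ⊔ zpowers w := mem_sup_left (mem_sup_right (mem_zpowers v))
  have hw2 : w ∈ P ⊔ zpowers v ⊔ zpowers w := mem_sup_right (mem_zpowers w)
  have hP2 : P ≤ P ⊔ zpowers v ⊔ zpowers w := le_sup_left.trans le_sup_left
  have h1 : ⁅v, w⁆ ∉ S := hnd v hv w hw hvP (fun h => hwP (mem_sup_left h)) fun h =>
    hwP ((hs.mem_sup_zpowers_iff hP v w).2 (Or.inr h))
  have h2 : ⁅v, w'⁆ ∉ S := hnd v hv w' hw' hvP (fun h => hwP' (hP2 h)) fun h => hwP' (by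
    have := mul_mem hv2 (hP2 h)
    rwa [mul_inv_cancel_left] at this)
  refine hnd v hv (w * w') (mul_mem hw hw') hvP (fun h => hwP' ?_) (fun h => hwP' ?_) ?_
  · have := mul_mem (inv_mem hw2) (hP2 h)
    rwa [inv_mul_cancel_left] at this
  · have := mul_mem (mul_mem (inv_mem hw2) hv2) (hP2 h)
    rwa [mul_assoc, mul_inv_cancel_left, inv_mul_cancel_left] at this
  · rw [hs.comm_mul_right]
    exact hS _ (hs.comm_mem v w) _ (hs.comm_mem v w') h1 h2

/-- `x ↦ [u, x]` has kernel the centralizer of `u`. -/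
theorem card_le_mul_centralizer [Finite X] (u : X) {M : Subgroup X} (hM : ∀ x, ⁅u, x⁆ ∈ M) :
    Nat.card X ≤ Nat.card (centralizer ({u} : Set X)) * Nat.card M := by
  let f : X →* center X :=
    MonoidHom.mk' (fun x => ⟨⁅u, x⁆, hs.comm_mem u x⟩) fun a b => Subtype.ext (hs.comm_mul_right u a b)
  have hker : f.ker ≤ centralizer ({u} : Set X) := fun x hx => by
    rw [mem_centralizer_singleton_iff]
    exact (commutatorElement_eq_one_iff_mul_comm.1 (congrArg Subtype.val hx)).symm
  have hr : Nat.card f.range ≤ Nat.card M := by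
    rw [← card_map_of_injective (K := f.range) (center X).subtype_injective]
    refine card_le_of_le ?_
    rintro _ ⟨_, ⟨x, rfl⟩, rfl⟩
    exact hM x
  rw [← f.ker.card_mul_index, index_ker]
  exact Nat.mul_le_mul (card_le_of_le hker) hr

/-- With a centre of order two, the involutions of a centralizer of a noncentral involution. -/
theorem mem_of_sq_eq_one [Finite X] (hX : IsPGroup 2 X)
    (hscn : ¬ ∃ A : Subgroup X, A.Normal ∧ Subgroup.centralizer (A : Set X) = A ∧
      ∃ E : Subgroup X, E ≤ A ∧ Cfsg.IsElementaryAbelian 2 E ∧ Nat.card E = 8)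
    (hZ : Nat.card (center X) = 2) {g h : X} (hg : g * g = 1) (hgz : g ∉ center X) (hh : h * h = 1)
    (hgh : g * h = h * g) : h ∈ center X ⊔ zpowers g := by
  by_contra hnot
  set S : Set X := {g, h} ∪ (center X : Set X)
  haveI := isMulCommutative_closure (k := S) (by
    rintro a ((rfl | rfl) | ha) b ((rfl | rfl) | hb)
    any_goals rfl
    any_goals first
      | exact hgh
      | exact hgh.symm
      | exact mem_center_iff.1 hb _
      | exact (mem_center_iff.1 ha _).symm)
  have hZS : center X ≤ closure S := fun z hz => subset_closure (Or.inr hz)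
  haveI := hs.normal_of_center_le hZS
  have h4 := card_normal_elementary_le_four hX hscn (closure S)
    (fun a ha b hb => setLike_mul_comm ha hb) (by
      intro a ha
      induction ha using closure_induction with
      | mem x hx =>
        rcases hx with (rfl | rfl) | hx
        exacts [hg, hh, hs.elem x hx]
      | one => exact one_mul 1
      | mul x y hx hy ihx ihy =>
        rw [(show Commute y x from setLike_mul_comm hy hx).mul_mul_mul_comm, ihx, ihy, one_mul]
      | inv x _ ih => rw [← mul_inv_rev, ih, inv_one])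
  have hlt1 : center X < center X ⊔ zpowers g :=
    lt_of_le_of_ne le_sup_left fun e => hgz (e ▸ mem_sup_right (mem_zpowers g))
  have hle : center X ⊔ zpowers g ≤ closure S :=
    sup_le hZS (zpowers_le.2 (subset_closure (Or.inl (Or.inl rfl))))
  have hlt2 : center X ⊔ zpowers g < closure S :=
    lt_of_le_of_ne hle fun e => hnot (e ▸ subset_closure (Or.inl (Or.inr rfl)))
  have d1 := card_dvd_of_le hlt1.le
  have d2 := card_dvd_of_le hlt2.le
  have c1 : Nat.card (center X) < Nat.card (center X ⊔ zpowers g : Subgroup X) :=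
    Set.Finite.card_lt_card (Set.toFinite _) hlt1
  have c2 : Nat.card (center X ⊔ zpowers g : Subgroup X) < Nat.card (closure S) :=
    Set.Finite.card_lt_card (Set.toFinite _) hlt2
  obtain ⟨i, hi⟩ := d1
  obtain ⟨l, hl⟩ := d2
  rw [hZ] at c1 hi
  have hi2 : 2 ≤ i := by
    by_contra h'
    interval_cases i <;> omega
  have hl2 : 2 ≤ l := by
    by_contra h'
    interval_cases l <;> omega
  nlinarith

/-- A centre of order two: the centralizer of a noncentral involution has order at most sixteen. -/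
theorem card_centralizer_involution [Finite X] (hX : IsPGroup 2 X)
    (hscn : ¬ ∃ A : Subgroup X, A.Normal ∧ Subgroup.centralizer (A : Set X) = A ∧
      ∃ E : Subgroup X, E ≤ A ∧ Cfsg.IsElementaryAbelian 2 E ∧ Nat.card E = 8)
    (hZ : Nat.card (center X) = 2) {g : X} (hg : g * g = 1) (hgz : g ∉ center X) :
    Nat.card (centralizer ({g} : Set X)) ≤ 16 := by
  have h1 := hs.card_le_four_mul (P := center X ⊔ zpowers g) (U := centralizer ({g} : Set X))
    (S := ⊥) le_sup_left ?_ ?_
  · have := hs.card_sup_zpowers_le (le_refl (center X)) g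
    omega
  · intro a ha b hb ha1 hb1
    rw [mem_bot] at ha1 hb1 ⊢
    obtain ⟨z, -, hz⟩ := (Nat.card_eq_two_iff' (1 : center X)).1 hZ
    have e1 := hz ⟨a, ha⟩ fun e => ha1 (congrArg Subtype.val e)
    have e2 := hz ⟨b, hb⟩ fun e => hb1 (congrArg Subtype.val e)
    have : a = b := congrArg Subtype.val (e1.trans e2.symm)
    rw [this]
    exact hs.elem b hb
  · intro v hv hvP h
    rw [mem_bot] at h
    exact hvP (hs.mem_of_sq_eq_one hX hscn hZ hg hgz h (mem_centralizer_singleton_iff.1 hv).symm)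

/-- A centre of order four contains all involutions. -/
theorem mem_center_of_sq_eq_one [Finite X] (hX : IsPGroup 2 X)
    (hscn : ¬ ∃ A : Subgroup X, A.Normal ∧ Subgroup.centralizer (A : Set X) = A ∧
      ∃ E : Subgroup X, E ≤ A ∧ Cfsg.IsElementaryAbelian 2 E ∧ Nat.card E = 8)
    (hZ : Nat.card (center X) = 4) {h : X} (hh : h * h = 1) : h ∈ center X :=
  mem_of_involution hX hscn (center X) le_rfl hs.elem hZ hh (hs.comm_mem h)

/-- A centre of order four: centralizers of noncentral elements have order at most thirty-two. -/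
theorem card_centralizer_le [Finite X] (hX : IsPGroup 2 X)
    (hscn : ¬ ∃ A : Subgroup X, A.Normal ∧ Subgroup.centralizer (A : Set X) = A ∧
      ∃ E : Subgroup X, E ≤ A ∧ Cfsg.IsElementaryAbelian 2 E ∧ Nat.card E = 8)
    (hZ : Nat.card (center X) = 4) {u : X} (hu : u ∉ center X) :
    Nat.card (centralizer ({u} : Set X)) ≤ 32 := by
  classical
  have h1 := hs.card_le_four_mul (P := center X ⊔ zpowers u) (U := centralizer ({u} : Set X))
    (S := zpowers (u * u)) le_sup_left ?_ ?_
  · have := hs.card_sup_zpowers_le (le_refl (center X)) u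
    omega
  · intro a ha b hb ha1 hb1
    set s := u * u
    have hs1 : s ≠ 1 := fun e => hu (hs.mem_center_of_sq_eq_one hX hscn hZ e)
    have hsz : s ∈ center X := hs.sq_mem u
    have hne : ∀ w, w ∉ zpowers s → w ≠ 1 ∧ w ≠ s := fun w hw =>
      ⟨fun e => hw (e ▸ one_mem _), fun e => hw (e ▸ mem_zpowers s)⟩
    by_contra hab
    obtain ⟨p1, p2⟩ := hne a ha1
    obtain ⟨q1, q2⟩ := hne b hb1
    obtain ⟨r1, r2⟩ := hne (a * b) hab
    have p3 : a ≠ b := fun e => r1 (by rw [e]; exact hs.elem b hb)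
    have r3 : a * b ≠ a := fun e => q1 (mul_eq_left.1 e)
    have r4 : a * b ≠ b := fun e => p1 (mul_eq_right.1 e)
    set F : Finset X := {1, s, a, b, a * b}
    have hF : F.card = 5 := by
      simp [F, Ne.symm hs1, Ne.symm p1, Ne.symm q1, Ne.symm r1, Ne.symm p2, Ne.symm q2, Ne.symm r2,
        p3, Ne.symm r3, Ne.symm r4]
    have hmem : ∀ w ∈ F, w ∈ center X := by
      intro w hw
      simp only [F, Finset.mem_insert, Finset.mem_singleton] at hw
      rcases hw with rfl | rfl | rfl | rfl | rfl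
      exacts [one_mem _, hsz, ha, hb, mul_mem ha hb]
    have := Nat.card_le_card_of_injective (fun w : F => (⟨w.1, hmem w.1 w.2⟩ : center X))
      fun a b e => Subtype.ext (Subtype.mk.inj e)
    rw [Nat.card_eq_finsetCard, hF, hZ] at this
    omega
  · intro v hv hvP h
    obtain ⟨i, hi⟩ := mem_zpowers_iff.1 h
    have hone : ∀ w, ⁅u, w⁆ = 1 → w * w = u * u → w ∈ center X ⊔ zpowers u := by
      intro w hw hww
      refine (hs.mem_sup_zpowers_iff le_rfl u w).2 (Or.inr (hs.mem_center_of_sq_eq_one hX hscn hZ ?_))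
      rw [hs.sq_mul, hs.comm_inv_left, hw, one_mul, hs.inv_sq, hww]
      exact hs.elem _ (hs.sq_mem u)
    have hu2 : (u * u) * (u * u) = 1 := hs.elem _ (hs.sq_mem u)
    rcases Int.even_or_odd i with ⟨j, rfl⟩ | ⟨j, rfl⟩
    · refine hvP (mem_sup_left (hs.mem_center_of_sq_eq_one hX hscn hZ ?_))
      rw [← hi, zpow_add, ← (Commute.refl (u * u)).mul_zpow, hu2, one_zpow]
    · refine hvP (hone v ?_ ?_)
      · exact commutatorElement_eq_one_iff_mul_comm.2 (mem_centralizer_singleton_iff.1 hv).symm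
      · rw [← hi, zpow_add, two_mul, zpow_add, ← (Commute.refl (u * u)).mul_zpow, hu2, one_zpow,
          one_mul, zpow_one]

end SpecialLike

end CfsgLib.PGroup
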