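import Cfsg.Agent.Lib.PGroup.NoScnThreeTwo

/-!
A centre of order four: the group has order `64` and three involutions, all central.
-/

set_option autoImplicit false
set_option linter.style.haveILetI false

universe u

namespace CfsgLib.PGroup

open Subgroup
open scoped commutatorElement

variable {X : Type u} [Group X]

namespace SpecialLike

variable (hs : SpecialLike X)
include hs

theorem two_mul_card_le [Finite X] (hX : IsPGroup 2 X) {P : Subgroup X} {v : X} (hv : v ∉ P) :
    2 * Nat.card P ≤ Nat.card (P ⊔ zpowers v : Subgroup X) := by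
  haveI := Fact.mk Nat.prime_two
  have hlt : P < P ⊔ zpowers v :=
    lt_of_le_of_ne le_sup_left fun e => hv (e.ge (mem_sup_right (mem_zpowers v)))
  have h : Nat.card P < Nat.card (P ⊔ zpowers v : Subgroup X) :=
    Set.Finite.card_lt_card (Set.toFinite _) hlt
  obtain ⟨i, hi⟩ := (hX.to_subgroup P).exists_card_eq
  obtain ⟨j, hj⟩ := (hX.to_subgroup (P ⊔ zpowers v : Subgroup X)).exists_card_eq
  rw [hi, hj] at h ⊢
  rw [← pow_succ']
  exact Nat.pow_le_pow_right (by norm_num) ((Nat.pow_lt_pow_iff_right (by norm_num)).1 h)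

/-- For odd exponent of the order, some noncentral element has all commutators in `M`. -/
theorem exists_radical [Finite X] (hX : IsPGroup 2 X) (hsp : Cfsg.IsSpecial 2 X)
    (hZ : Nat.card (center X) = 4) {k : ℕ} (hk : Nat.card X = 2 ^ k) (hodd : Odd k) {M : Subgroup X}
    (hMZ : M ≤ center X) (hM : Nat.card M = 2) : ∃ u, u ∉ center X ∧ ∀ x, ⁅u, x⁆ ∈ M := by
  haveI := Fact.mk Nat.prime_two
  haveI hMn : M.Normal := ⟨fun g hg x => by
    rw [mem_center_iff.1 (hMZ hg) x, mul_inv_cancel_right]; exact hg⟩
  by_contra hall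
  push Not at hall
  set π := QuotientGroup.mk' M
  have hπ : Function.Surjective π := QuotientGroup.mk'_surjective M
  have hcard : Nat.card ((center X).map π) = 2 := by
    have h1 := card_eq_card_quotient_mul_card_subgroup M
    have h2 : Nat.card ((center X).map π) * Nat.card (π.ker ⊓ center X : Subgroup X) = 4 := by
      rw [← hZ, ← relIndex_ker (K := center X) π, ← inf_relIndex_right π.ker (center X), mul_comm,
        ← relIndex_bot_left, relIndex_mul_relIndex ⊥ _ _ bot_le inf_le_right, relIndex_bot_left]
    rw [QuotientGroup.ker_mk', inf_eq_left.2 hMZ, hM] at h2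
    omega
  have hcen : center (X ⧸ M) = (center X).map π := by
    refine le_antisymm ?_ ?_
    · intro q hq
      obtain ⟨u, rfl⟩ := hπ q
      by_cases hu : u ∈ center X
      · exact mem_map_of_mem π hu
      · exfalso
        obtain ⟨x, hx⟩ := hall u hu
        refine hx ((QuotientGroup.eq_one_iff _).1 ?_)
        show π ⁅u, x⁆ = 1
        rw [map_commutatorElement, commutatorElement_eq_one_iff_mul_comm]
        exact (mem_center_iff.1 hq (π x)).symm
    · rintro _ ⟨u, hu, rfl⟩
      rw [mem_center_iff]
      intro q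
      obtain ⟨x, rfl⟩ := hπ q
      rw [← map_mul, ← map_mul, mem_center_iff.1 hu x]
  have hder : _root_.commutator (X ⧸ M) = center (X ⧸ M) := by
    rw [hcen, ← hsp.2.2, _root_.commutator_def, _root_.commutator_def, map_commutator,
      map_top_of_surjective π hπ]
  have hes : Cfsg.IsExtraspecial 2 (X ⧸ M) := by
    refine ⟨⟨hX.to_quotient M, ?_, hder⟩, by rw [hcen]; exact hcard⟩
    refine le_antisymm
      (CfsgLib.Transfer.frattini_le_of_elementary_quotient (p := 2) (center (X ⧸ M)) ?_ ?_) ?_
    · intro a b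
      rw [← hder]
      exact commutator_mem_commutator (mem_top a) (mem_top b)
    · intro q
      obtain ⟨g, rfl⟩ := hπ q
      rw [hcen, ← map_pow, _root_.sq]
      exact mem_map_of_mem π (hs.sq_mem g)
    · rw [← hder, _root_.commutator_def, commutator_le]
      intro a _ b _
      have := CfsgLib.StructC.comm_mem_frattini (hX.to_quotient M) a⁻¹ b⁻¹
      rwa [inv_inv, inv_inv] at this
  obtain ⟨n, -, hn⟩ := CfsgLib.Transfer.extraspecial_card hes
  have h1 := card_eq_card_quotient_mul_card_subgroup M
  rw [hn, hM, hk, ← pow_succ] at h1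
  have h2 := Nat.pow_right_injective (le_refl 2) h1
  obtain ⟨j, rfl⟩ := hodd
  omega

/-- The radical of the commutator form modulo `M`. -/
theorem radical_unique [Finite X] (hX : IsPGroup 2 X) (hsp : Cfsg.IsSpecial 2 X)
    (hZ : Nat.card (center X) = 4) (hk : Nat.card X = 32) {M : Subgroup X}
    (hM : Nat.card M = 2) {u v : X} (hu : u ∉ center X) (hur : ∀ x, ⁅u, x⁆ ∈ M)
    (hvr : ∀ x, ⁅v, x⁆ ∈ M) : v ∈ center X ⊔ zpowers u := by
  by_contra hv
  let R : Subgroup X :=
    { carrier := {g | ∀ x, ⁅g, x⁆ ∈ M}
      one_mem' := fun x => by rw [commutatorElement_one_left]; exact one_mem _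
      mul_mem' := fun {a b} ha hb x => by rw [hs.comm_mul_left]; exact mul_mem (ha x) (hb x)
      inv_mem' := fun {a} ha x => by rw [hs.comm_inv_left]; exact ha x }
  have hZR : center X ≤ R := fun z hz x => by
    rw [commutatorElement_eq_one_iff_mul_comm.2 (mem_center_iff.1 hz x).symm]; exact one_mem _
  have h16 : 16 ≤ Nat.card R := by
    have h1 := hs.two_mul_card_le hX hu
    have h2 := hs.two_mul_card_le hX hv
    have h3 : (center X ⊔ zpowers u) ⊔ zpowers v ≤ R :=
      sup_le (sup_le hZR (zpowers_le.2 hur)) (zpowers_le.2 hvr)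
    have := card_le_of_le h3
    omega
  have hall : ∀ g h : X, ⁅g, h⁆ ∈ M := by
    intro g h
    by_cases hg : g ∈ R
    · exact hg h
    have h1 := hs.two_mul_card_le hX hg
    have htop : R ⊔ zpowers g = ⊤ := eq_top_of_card_eq _ (le_antisymm (card_le_card_group _) (by omega))
    rcases (hs.mem_sup_zpowers_iff hZR g h).1 (htop.ge (mem_top h)) with hh | hh
    · rw [hs.comm_symm]; exact hh g
    · rw [← mul_inv_cancel_left g h, hs.comm_mul_right, commutatorElement_self, one_mul, hs.comm_symm]
      exact hh g
  have hle : center X ≤ M := by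
    rw [← hsp.2.2, _root_.commutator_def, commutator_le]
    exact fun a _ b _ => hall a b
  have := card_le_of_le hle
  omega

/-- A centre of order four: order `64`. -/
theorem card_of_center_four [Finite X] (hX : IsPGroup 2 X) (hna : ¬ IsMulCommutative X)
    (hscn : ¬ ∃ A : Subgroup X, A.Normal ∧ Subgroup.centralizer (A : Set X) = A ∧
      ∃ E : Subgroup X, E ≤ A ∧ Cfsg.IsElementaryAbelian 2 E ∧ Nat.card E = 8)
    {A : Subgroup (MulAut X)} (hA : Odd (Nat.card A)) (hfull : IsFullAction A)
    (hsp : Cfsg.IsSpecial 2 X) (hZ : Nat.card (center X) = 4) : Nat.card X = 64 := by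
  classical
  haveI := Fact.mk Nat.prime_two
  obtain ⟨k, hk⟩ := hX.exists_card_eq
  obtain ⟨x, hx⟩ : ∃ x, x ∉ center X := by
    by_contra hall
    push Not at hall
    exact hna ⟨⟨fun a b => mem_center_iff.1 (hall b) a⟩⟩
  have h8 := hs.two_mul_card_le hX hx
  rw [hZ] at h8
  have h8' : Nat.card (center X ⊔ zpowers x : Subgroup X) ≤ 8 := by
    have := hs.card_sup_zpowers_le (le_refl (center X)) x
    rwa [hZ] at this
  -- two generators modulo the centre give a derived group of order two
  have h16 : ∀ y : X, (center X ⊔ zpowers x) ⊔ zpowers y ≠ ⊤ := by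
    intro y htop
    set C := zpowers ⁅x, y⁆
    have hCz : C ≤ center X := zpowers_le.2 (hs.comm_mem x y)
    let T : X → Subgroup X := fun w =>
      { carrier := {g | ⁅g, w⁆ ∈ C}
        one_mem' := by
          show ⁅(1 : X), w⁆ ∈ C
          rw [commutatorElement_one_left]; exact one_mem _
        mul_mem' := fun {a b} ha hb => by
          show ⁅a * b, w⁆ ∈ C
          rw [hs.comm_mul_left]; exact mul_mem ha hb
        inv_mem' := fun {a} ha => by
          show ⁅a⁻¹, w⁆ ∈ C
          rw [hs.comm_inv_left]; exact ha }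
    have hgen : ∀ w : X, ⁅x, w⁆ ∈ C → ⁅y, w⁆ ∈ C → ∀ g : X, ⁅g, w⁆ ∈ C := by
      intro w h1 h2 g
      have hZT : center X ≤ T w := fun z hz => by
        show ⁅z, w⁆ ∈ C
        rw [commutatorElement_eq_one_iff_mul_comm.2 (mem_center_iff.1 hz w).symm]; exact one_mem _
      exact (sup_le (sup_le hZT (zpowers_le.2 h1)) (zpowers_le.2 h2) : _ ≤ T w) (htop.ge (mem_top g))
    have hgx := hgen x (by rw [commutatorElement_self]; exact one_mem _)
      (by rw [hs.comm_symm]; exact mem_zpowers _)
    have hgy := hgen y (mem_zpowers _) (by rw [commutatorElement_self]; exact one_mem _)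
    have hle : center X ≤ C := by
      rw [← hsp.2.2, _root_.commutator_def, commutator_le]
      intro a _ b _
      exact hgen b (by rw [hs.comm_symm]; exact hgx b) (by rw [hs.comm_symm]; exact hgy b) a
    have h1 := card_le_of_le hle
    rw [hZ, Nat.card_zpowers] at h1
    have h2 : orderOf ⁅x, y⁆ ≤ 2 := Nat.le_of_dvd two_pos
      (orderOf_dvd_of_pow_eq_one (by rw [_root_.sq]; exact hs.elem _ (hs.comm_mem x y)))
    omega
  obtain ⟨y, hy⟩ : ∃ y, y ∉ center X ⊔ zpowers x := by
    by_contra hall
    push Not at hall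
    exact h16 1 (top_le_iff.1 fun g _ => mem_sup_left (hall g))
  have hlt : 16 < Nat.card X := by
    have h1 := hs.two_mul_card_le hX hy
    have h2 : Nat.card ((center X ⊔ zpowers x) ⊔ zpowers y : Subgroup X) < Nat.card X :=
      lt_of_le_of_ne (card_le_card_group _) fun e => h16 y (eq_top_of_card_eq _ e)
    omega
  have hU32 : ∀ u, u ∉ center X → Nat.card (centralizer ({u} : Set X)) ≤ 32 :=
    fun u hu => hs.card_centralizer_le hX hscn hZ hu
  have h128 : Nat.card X ≤ 128 := by
    have h1 := hs.card_le_mul_centralizer x (hs.comm_mem x)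
    have h2 := hU32 x hx
    rw [hZ] at h1
    omega
  have hk5 : k = 5 ∨ k = 6 ∨ k = 7 := by
    rw [hk] at hlt h128
    have h1 : 4 < k := by
      by_contra h'
      have := Nat.pow_le_pow_right (show 1 ≤ 2 by norm_num) (show k ≤ 4 by omega)
      omega
    have h2 : k ≤ 7 := by
      by_contra h'
      have := Nat.pow_le_pow_right (show 1 ≤ 2 by norm_num) (show 8 ≤ k by omega)
      omega
    omega
  rcases hk5 with rfl | rfl | rfl
  · -- order thirty-two
    exfalso
    set Rad : Set X := {u | ∃ M : Subgroup X, M ≤ center X ∧ Nat.card M = 2 ∧ ∀ w, ⁅u, w⁆ ∈ M}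
    set S : Set X := Rad ∪ (center X : Set X)
    have hSc : ∀ a ∈ S, ∀ b ∈ S, a * b = b * a := by
      rintro a (⟨M, hMZ, hM, ha⟩ | ha) b (⟨M', hMZ', hM', hb⟩ | hb)
      · by_cases haz : a ∈ center X
        · exact (mem_center_iff.1 haz b).symm
        by_cases hMM : M = M'
        · subst hMM
          rcases (hs.mem_sup_zpowers_iff le_rfl a b).1
            (hs.radical_unique hX hsp hZ (by rw [hk]; norm_num) hM haz ha hb) with h | h
          · exact mem_center_iff.1 h a
          · have h1 : Commute a (a⁻¹ * b) := mem_center_iff.1 h a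
            have h2 := (Commute.refl a).mul_right h1
            rwa [mul_inv_cancel_left] at h2
        · rw [← commutatorElement_eq_one_iff_mul_comm]
          by_contra hne
          refine hMM ?_
          have key : ∀ L : Subgroup X, Nat.card L = 2 → ⁅a, b⁆ ∈ L → L = zpowers ⁅a, b⁆ := by
            intro L hL hmem
            refine (eq_of_le_of_card_ge (zpowers_le.2 hmem) ?_).symm
            rw [hL, Nat.card_zpowers]
            have h1 : orderOf ⁅a, b⁆ ≠ 1 := fun e => hne (orderOf_eq_one_iff.1 e)
            have := orderOf_pos ⁅a, b⁆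
            omega
          rw [key M hM (ha b), key M' hM' (by rw [hs.comm_symm]; exact hb a)]
      · exact mem_center_iff.1 hb a
      · exact (mem_center_iff.1 ha b).symm
      · exact mem_center_iff.1 hb a
    haveI := isMulCommutative_closure hSc
    set N := closure S
    have hZN : center X ≤ N := fun z hz => subset_closure (Or.inr hz)
    haveI hNn : N.Normal := hs.normal_of_center_le hZN
    have hNinv : IsAInvariant A N := by
      intro α hα
      have hle : N ≤ N.comap α.toMonoidHom := by
        rw [closure_le]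
        rintro g (⟨M, hMZ, hM, hg⟩ | hg)
        · refine subset_closure (Or.inl ⟨M.map α.toMonoidHom, ?_, ?_, fun w => ?_⟩)
          · rintro _ ⟨m, hm, rfl⟩
            exact aInvariant_of_characteristic A (center X) α hα m (hMZ hm)
          · rw [card_map_of_injective α.injective]; exact hM
          · refine ⟨⁅g, α⁻¹ w⁆, hg _, ?_⟩
            show α ⁅g, α⁻¹ w⁆ = ⁅α g, w⁆
            rw [map_commutatorElement, MulAut.apply_inv_self]
        · exact subset_closure (Or.inr (aInvariant_of_characteristic A (center X) α hα g hg))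
      exact fun g hg => hle hg
    obtain ⟨z, hz, hz1⟩ := (Subgroup.bot_or_exists_ne_one (center X)).resolve_left fun e => by
      rw [e, card_bot] at hZ; norm_num at hZ
    obtain ⟨u, hu, hur⟩ := hs.exists_radical hX hsp hZ hk (by decide) (M := zpowers z)
      (zpowers_le.2 hz) (by
        rw [Nat.card_zpowers]
        exact orderOf_eq_prime (by rw [_root_.sq]; exact hs.elem z hz) hz1)
    have huN : u ∈ N := subset_closure (Or.inl ⟨zpowers z, zpowers_le.2 hz, by
      rw [Nat.card_zpowers]
      exact orderOf_eq_prime (by rw [_root_.sq]; exact hs.elem z hz) hz1, hur⟩)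
    have hNtop : N ≠ ⊤ := fun e => hna ⟨⟨fun a b =>
      setLike_mul_comm (e.ge (mem_top a)) (e.ge (mem_top b))⟩⟩
    have hPN : center X ⊔ zpowers u ≤ N := sup_le hZN (zpowers_le.2 huN)
    by_cases hN8 : N ≤ center X ⊔ zpowers u
    · refine hu (mem_of_fixed_mod hX hA hfull (center X) hs.comm_mem fun α hα => ?_)
      refine ((hs.mem_sup_zpowers_iff le_rfl u (α u)).1 (hN8 (hNinv α hα u huN))).resolve_left ?_
      intro h
      have := aInvariant_of_characteristic A (center X) α⁻¹ (inv_mem hα) _ h
      rw [MulAut.inv_apply_self] at this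
      exact hu this
    · obtain ⟨v, hvN, hv⟩ : ∃ v ∈ N, v ∉ center X ⊔ zpowers u := by
        by_contra hall
        push Not at hall
        exact hN8 hall
      have hN16 : 16 ≤ Nat.card N := by
        have h1 := hs.two_mul_card_le hX hu
        have h2 := hs.two_mul_card_le hX hv
        have h3 := card_le_of_le (sup_le hPN (zpowers_le.2 hvN) : _ ≤ N)
        omega
      obtain ⟨g, hg⟩ : ∃ g, g ∉ N := by
        by_contra hall
        push Not at hall
        exact hNtop (top_le_iff.1 fun g _ => hall g)
      refine hg (mem_of_fixed_mod hX hA hfull N (fun a b => hZN (hs.comm_mem a b)) fun α hα => ?_)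
      have h1 := hs.two_mul_card_le hX hg
      have h32 : Nat.card X = 32 := by rw [hk]; norm_num
      have htop : N ⊔ zpowers g = ⊤ :=
        eq_top_of_card_eq _ (le_antisymm (card_le_card_group _) (by omega))
      refine ((hs.mem_sup_zpowers_iff hZN g (α g)).1 (htop.ge (mem_top _))).resolve_left ?_
      intro h
      have := hNinv α⁻¹ (inv_mem hα) _ h
      rw [MulAut.inv_apply_self] at this
      exact hg this
  · rw [hk]; norm_num
  · exfalso
    obtain ⟨z, hz, hz1⟩ := (Subgroup.bot_or_exists_ne_one (center X)).resolve_left fun e => by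
      rw [e, card_bot] at hZ; norm_num at hZ
    have hz2 : Nat.card (zpowers z) = 2 := by
      rw [Nat.card_zpowers]
      exact orderOf_eq_prime (by rw [_root_.sq]; exact hs.elem z hz) hz1
    obtain ⟨u, hu, hur⟩ := hs.exists_radical hX hsp hZ hk (by decide) (zpowers_le.2 hz) hz2
    have h1 := hs.card_le_mul_centralizer u hur
    have h2 := hU32 u hu
    rw [hz2, hk] at h1
    have : (2 : ℕ) ^ 7 = 128 := by norm_num
    omega

/-- A centre of order four: three involutions. -/
theorem involutions_of_center_four [Finite X] (hX : IsPGroup 2 X)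
    (hscn : ¬ ∃ A : Subgroup X, A.Normal ∧ Subgroup.centralizer (A : Set X) = A ∧
      ∃ E : Subgroup X, E ≤ A ∧ Cfsg.IsElementaryAbelian 2 E ∧ Nat.card E = 8)
    (hZ : Nat.card (center X) = 4) :
    Nat.card {x : X // orderOf x = 2} = 3 ∧ ∀ x : X, orderOf x = 2 → x ∈ center X := by
  classical
  have hmem : ∀ x : X, orderOf x = 2 → x ∈ center X := fun x hx =>
    hs.mem_center_of_sq_eq_one hX hscn hZ (by rw [← _root_.sq, ← hx, pow_orderOf_eq_one])
  refine ⟨?_, hmem⟩
  haveI := Fintype.ofFinite X
  rw [Nat.card_eq_fintype_card, Fintype.card_subtype]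
  have e : (Finset.univ.filter fun x : X => orderOf x = 2) =
      (Finset.univ.filter fun x : X => x ∈ center X).erase 1 := by
    ext x
    simp only [Finset.mem_filter, Finset.mem_univ, true_and, Finset.mem_erase]
    constructor
    · exact fun hx => ⟨fun e => by rw [e, orderOf_one] at hx; norm_num at hx, hmem x hx⟩
    · rintro ⟨h1, h2⟩
      haveI := Fact.mk Nat.prime_two
      exact orderOf_eq_prime (by rw [_root_.sq]; exact hs.elem x h2) h1
  rw [e, Finset.card_erase_of_mem (by simp), ← Nat.card_eq_finsetCard]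
  have : Nat.card (Finset.univ.filter fun x : X => x ∈ center X) = 4 := by
    rw [← hZ]
    exact Nat.card_congr (Equiv.subtypeEquivRight fun x => by simp)
  omega

end SpecialLike

/-- **Nonabelian `2`-groups without `SCN₃` and with `[X, A] = X` for `A` of odd order.** -/
theorem no_scn_three_classification [Finite X] (hX : IsPGroup 2 X) (hna : ¬ IsMulCommutative X)
    (hscn : ¬ ∃ A : Subgroup X, A.Normal ∧ Subgroup.centralizer (A : Set X) = A ∧
      ∃ E : Subgroup X, E ≤ A ∧ Cfsg.IsElementaryAbelian 2 E ∧ Nat.card E = 8)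
    (A : Subgroup (MulAut X)) (hA : Odd (Nat.card A)) (hfull : IsFullAction A) :
    Nonempty (X ≃* QuaternionGroup 2) ∨
      (Cfsg.IsSpecial 2 X ∧ Nat.card X = 64 ∧ Nat.card {x : X // orderOf x = 2} = 3 ∧
        ∀ x : X, orderOf x = 2 → x ∈ Subgroup.center X) ∨
      (Cfsg.IsExtraspecial 2 X ∧ Nat.card X = 32 ∧ Nat.card {x : X // orderOf x = 2} = 11) := by
  obtain ⟨hsq, hel⟩ := squares_central hX hna hscn hA hfull
  have hs : SpecialLike X := ⟨hsq, hel⟩
  obtain ⟨hsp, hZ | hZ⟩ := hs.isSpecial hX hna hscn hA hfull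
  · rcases hs.of_center_two hX hna hscn hA hfull hsp hZ with h | h
    · exact Or.inl h
    · exact Or.inr (Or.inr h)
  · obtain ⟨h3, hc⟩ := hs.involutions_of_center_four hX hscn hZ
    exact Or.inr (Or.inl ⟨hsp, hs.card_of_center_four hX hna hscn hA hfull hsp hZ, h3, hc⟩)

end CfsgLib.PGroup
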