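import Cfsg.Agent.Lib.PGroup.HomocyclicMaximal

/-!
`2`-groups without normal `E₈` and `[X, A] = X`, `A` of odd order: squares are central and the
centre is elementary abelian.
-/

set_option autoImplicit false
set_option linter.style.haveILetI false

universe u

namespace CfsgLib.PGroup

open Subgroup
open scoped commutatorElement

variable {X : Type u} [Group X]

theorem comm_mul_left_of_central {s t x : X} (hc : ⁅t, x⁆ ∈ center X) :
    ⁅s * t, x⁆ = ⁅s, x⁆ * ⁅t, x⁆ := by
  calc ⁅s * t, x⁆ = s * ⁅t, x⁆ * s⁻¹ * ⁅s, x⁆ := by simp only [commutatorElement_def]; group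
    _ = ⁅s, x⁆ * ⁅t, x⁆ := by
      rw [mem_center_iff.1 hc s, mul_inv_cancel_right, mem_center_iff.1 hc ⁅s, x⁆]

theorem comm_mul_right_of_central {s t x : X} (hc : ⁅x, t⁆ ∈ center X) :
    ⁅x, s * t⁆ = ⁅x, s⁆ * ⁅x, t⁆ := by
  calc ⁅x, s * t⁆ = ⁅x, s⁆ * (s * ⁅x, t⁆ * s⁻¹) := by simp only [commutatorElement_def]; group
    _ = ⁅x, s⁆ * ⁅x, t⁆ := by rw [mem_center_iff.1 hc s, mul_inv_cancel_right]

/-- Class two bookkeeping. -/
theorem comm_pow_central (h2 : ∀ a b : X, ⁅a, b⁆ ∈ center X) (a b : X) (i : ℕ) :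
    ⁅a ^ i, b⁆ = ⁅a, b⁆ ^ i ∧ ⁅a, b ^ i⁆ = ⁅a, b⁆ ^ i := by
  induction i with
  | zero => simp
  | succ i ih =>
    rw [pow_succ, pow_succ, pow_succ, comm_mul_left_of_central (h2 a b),
      comm_mul_right_of_central (h2 a b), ih.1, ih.2]
    exact ⟨rfl, rfl⟩

/-- If all invariant abelian normal subgroups are central, commutators are central. -/
theorem comm_central_of_central [Finite X] (hX : IsPGroup 2 X) {A : Subgroup (MulAut X)}
    (hcent : ∀ B : Subgroup X, B.Normal → (∀ a ∈ B, ∀ b ∈ B, a * b = b * a) → IsAInvariant A B →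
      B ≤ center X) : ∀ a b : X, ⁅a, b⁆ ∈ center X := by
  haveI := Fact.mk Nat.prime_two
  set Z := center X
  set π := QuotientGroup.mk' Z
  let Z2 : Subgroup X := (center (X ⧸ Z)).comap π
  have hmem : ∀ u, u ∈ Z2 → ∀ g, ⁅u, g⁆ ∈ Z := fun u hu g => by
    rw [← QuotientGroup.eq_one_iff]
    show π ⁅u, g⁆ = 1
    rw [map_commutatorElement, commutatorElement_eq_one_iff_mul_comm]
    exact (mem_center_iff.1 hu (π g)).symm
  have hmem' : ∀ u, (∀ g, ⁅u, g⁆ ∈ Z) → u ∈ Z2 := fun u hu => by
    show π u ∈ center (X ⧸ Z)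
    rw [mem_center_iff]
    intro q
    obtain ⟨g, rfl⟩ := QuotientGroup.mk'_surjective Z q
    refine (commutatorElement_eq_one_iff_mul_comm.1 ?_).symm
    rw [← map_commutatorElement]
    exact (QuotientGroup.eq_one_iff _).2 (hu g)
  set C := _root_.commutator X
  have hB : Z2 ⊓ C ≤ Z := by
    refine hcent _ inferInstance ?_ ?_
    · intro a ha b hb
      letI : CommGroup Z :=
        { (inferInstance : Group Z) with
          mul_comm := fun u v => Subtype.ext (mem_center_iff.1 v.2 u) }
      let f : X →* Z := MonoidHom.mk' (fun g => ⟨⁅a, g⁆, hmem a ha.1 g⟩) fun g g' =>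
        Subtype.ext (comm_mul_right_of_central (hmem a ha.1 g'))
      have h1 : f b = 1 := Abelianization.commutator_subset_ker f hb.2
      exact commutatorElement_eq_one_iff_mul_comm.1 (congrArg Subtype.val h1)
    · intro α hα u hu
      refine ⟨hmem' _ fun g => ?_, aInvariant_of_characteristic A C α hα u hu.2⟩
      have := aInvariant_of_characteristic A Z α hα _ (hmem u hu.1 (α⁻¹ g))
      rwa [map_commutatorElement, MulAut.apply_inv_self] at this
  intro a b
  refine ?_
  suffices C ≤ Z from this (commutator_mem_commutator (mem_top a) (mem_top b))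
  by_contra hne
  haveI : (C.map π).Normal := Normal.map inferInstance π (QuotientGroup.mk'_surjective Z)
  obtain ⟨q, ⟨g, hg, rfl⟩, hq1, hqz⟩ := CfsgLib.OddLocal.exists_center_of_normal_ne_bot
    (hX.to_quotient Z) (C.map π) (fun e => hne (by
      rwa [Subgroup.map_eq_bot_iff, QuotientGroup.ker_mk'] at e))
  exact hq1 ((QuotientGroup.eq_one_iff g).2 (hB ⟨hqz, hg⟩))

/-- If all invariant abelian normal subgroups are central, squares are central. -/
theorem sq_central_of_central [Finite X] (hX : IsPGroup 2 X) {A : Subgroup (MulAut X)}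
    (hcent : ∀ B : Subgroup X, B.Normal → (∀ a ∈ B, ∀ b ∈ B, a * b = b * a) → IsAInvariant A B →
      B ≤ center X) : ∀ g : X, g * g ∈ center X := by
  classical
  haveI := Fact.mk Nat.prime_two
  have h2 := comm_central_of_central hX hcent
  have hex : ∃ n, ∀ g : X, g ^ (2 ^ n) ∈ center X := by
    obtain ⟨k, hk⟩ := hX.exists_card_eq
    exact ⟨k, fun g => by rw [← hk, pow_card_eq_one']; exact one_mem _⟩
  set n := Nat.find hex
  have hn := Nat.find_spec hex
  by_cases hn2 : n ≤ 1
  · intro g
    have h1 := pow_mem (hn g) (2 ^ (1 - n))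
    rw [← pow_mul, ← pow_add, show n + (1 - n) = 1 by omega, pow_one, _root_.sq] at h1
    exact h1
  exfalso
  obtain ⟨j, hj⟩ : ∃ j, n = j + 2 := ⟨n - 2, by omega⟩
  set k := 2 ^ (j + 1)
  set S : Set X := {g | ∃ y : X, g = y ^ k} ∪ (center X : Set X)
  have hSc : ∀ a ∈ S, ∀ b ∈ S, a * b = b * a := by
    rintro a (⟨a, rfl⟩ | ha) b (⟨b, rfl⟩ | hb)
    · rw [← commutatorElement_eq_one_iff_mul_comm, (comm_pow_central h2 a _ k).1,
        (comm_pow_central h2 a b k).2, ← pow_mul, ← (comm_pow_central h2 a b (k * k)).1,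
        commutatorElement_eq_one_iff_mul_comm]
      have : a ^ (k * k) ∈ center X := by
        have h1 := pow_mem (hn a) (2 ^ j)
        rwa [← pow_mul, ← pow_add, show Nat.find hex + j = (j + 1) + (j + 1) from by
          have : Nat.find hex = j + 2 := hj
          omega, pow_add] at h1
      exact (mem_center_iff.1 this b).symm
    · exact mem_center_iff.1 hb _
    · exact (mem_center_iff.1 ha _).symm
    · exact mem_center_iff.1 hb _
  haveI := isMulCommutative_closure hSc
  have hZS : center X ≤ closure S := fun z hz => subset_closure (Or.inr hz)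
  have hle := hcent (closure S) ⟨fun g hg x => by
      have e : x * g * x⁻¹ = ⁅x, g⁆ * g := by rw [commutatorElement_def]; group
      rw [e]
      exact mul_mem (hZS (h2 x g)) hg⟩
    (fun a ha b hb => setLike_mul_comm ha hb) (fun α hα => by
      have hle : closure S ≤ (closure S).comap α.toMonoidHom := by
        rw [closure_le]
        rintro g (⟨y, rfl⟩ | hg)
        · exact subset_closure (Or.inl ⟨α y, map_pow α y k⟩)
        · exact subset_closure (Or.inr (aInvariant_of_characteristic A (center X) α hα g hg))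
      exact fun g hg => hle hg)
  exact Nat.find_min hex (show j + 1 < n by omega) fun g => hle (subset_closure (Or.inl ⟨g, rfl⟩))

/-- Squares are central and the centre is elementary abelian. -/
theorem squares_central [Finite X] (hX : IsPGroup 2 X) (hna : ¬ IsMulCommutative X)
    (hscn : ¬ ∃ A : Subgroup X, A.Normal ∧ Subgroup.centralizer (A : Set X) = A ∧
      ∃ E : Subgroup X, E ≤ A ∧ Cfsg.IsElementaryAbelian 2 E ∧ Nat.card E = 8)
    {A : Subgroup (MulAut X)} (hA : Odd (Nat.card A)) (hfull : IsFullAction A) :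
    (∀ g : X, g * g ∈ center X) ∧ (∀ z ∈ center X, z * z = 1) := by
  classical
  by_cases hcase : ∀ B : Subgroup X, B.Normal → (∀ a ∈ B, ∀ b ∈ B, a * b = b * a) →
      IsAInvariant A B → B ≤ center X
  swap
  · push Not at hcase
    obtain ⟨B, hBn, hBc, hBi, hBz⟩ := hcase
    exact squares_of_noncentral hX hna hscn hA hfull B hBn hBc hBi hBz
  have h2 := comm_central_of_central hX hcase
  have hsq := sq_central_of_central hX hcase
  refine ⟨hsq, ?_⟩
  have hZinv := aInvariant_of_characteristic A (center X)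
  have hcomm2 : ∀ a b : X, ⁅a, b⁆ * ⁅a, b⁆ = 1 := by
    intro a b
    rw [← _root_.sq, ← (comm_pow_central h2 a b 2).1, commutatorElement_eq_one_iff_mul_comm,
      _root_.sq]
    exact (mem_center_iff.1 (hsq a) b).symm
  by_cases hmove : ∃ α ∈ A, ∃ w ∈ center X, α w ≠ w
  · obtain ⟨φ, D, m, hφA, h, hDz, -⟩ := exists_homoData hX hscn hA hfull (center X) inferInstance
      (fun a _ b hb => mem_center_iff.1 hb a) hZinv hmove
    by_cases hm : 2 ≤ m
    · exfalso
      have hc := h.quad_ext_commutative hX hscn hDz hm ⊤ le_top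
        (fun t _ w hw => mem_center_iff.1 hw t) (fun t _ => hsq t) (fun t _ x => h2 t x)
        (fun t _ => mem_top _)
      exact hna ⟨⟨fun a b => hc a (mem_top a) b (mem_top b)⟩⟩
    · intro z hz
      have := h.pow_eq z hz
      have hm1 := h.one_le
      rwa [show m = 1 by omega, pow_one, _root_.sq] at this
  · push Not at hmove
    have hf4 : ∀ g : X, (g * g) * (g * g) = 1 := by
      let f : X →* center X := MonoidHom.mk' (fun g => ⟨g * g * (g * g), mul_mem (hsq g) (hsq g)⟩)
        fun g g' => by
          refine Subtype.ext ?_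
          show g * g' * (g * g') * (g * g' * (g * g')) = g * g * (g * g) * (g' * g' * (g' * g'))
          have e : g * g' * (g * g') = ⁅g', g⁆ * (g * g * (g' * g')) := by
            have hc := mem_center_iff.1 (h2 g' g)
            calc g * g' * (g * g') = g * (⁅g', g⁆ * (g * g')) * g' := by
                  rw [commutatorElement_def]; group
              _ = ⁅g', g⁆ * (g * g * (g' * g')) := by rw [← mul_assoc g, hc g]; group
          rw [e, (show Commute (g * g * (g' * g')) ⁅g', g⁆ from
            mem_center_iff.1 (h2 g' g) _).mul_mul_mul_comm, hcomm2, one_mul,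
            (show Commute (g' * g') (g * g) from mem_center_iff.1 (hsq g) _).mul_mul_mul_comm]
      intro g
      refine congrArg Subtype.val (hom_eq_one_of_invariant hfull f (fun α hα x => Subtype.ext ?_) g)
      show α x * α x * (α x * α x) = x * x * (x * x)
      rw [← map_mul, hmove α hα _ (hsq x)]
    let Ω : Subgroup X :=
      { carrier := {z | z ∈ center X ∧ z * z = 1}
        one_mem' := ⟨one_mem _, one_mul 1⟩
        mul_mem' := fun {a b} ha hb => ⟨mul_mem ha.1 hb.1, by
          rw [(show Commute b a from mem_center_iff.1 ha.1 b).mul_mul_mul_comm, ha.2, hb.2, one_mul]⟩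
        inv_mem' := fun {a} ha => ⟨inv_mem ha.1, by rw [← mul_inv_rev, ha.2, inv_one]⟩ }
    haveI : Ω.Normal := ⟨fun z hz x => by
      rw [mem_center_iff.1 hz.1 x, mul_inv_cancel_right]; exact hz⟩
    intro z hz
    exact (mem_of_fixed_mod hX hA hfull Ω (fun a b => ⟨h2 a b, hcomm2 a b⟩)
      (fun α hα => by rw [hmove α hα z hz, inv_mul_cancel]; exact one_mem _) : z ∈ Ω).2

end CfsgLib.PGroup
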