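import Cfsg.Agent.Lib.PGroup.NoScnThreeCount
import Cfsg.Agent.Lib.Transfer.Extraspecial
import Cfsg.Agent.Lib.StructC.UniqueInvol

/-!
The special case and the extraspecial case of the classification of `2`-groups without normal `E₈`
and `[X, A] = X`.
-/

set_option autoImplicit false
set_option linter.style.haveILetI false

universe u

namespace CfsgLib.PGroup

open Subgroup
open scoped commutatorElement

variable {X : Type u} [Group X]

namespace SpecialLike

variable (hs : SpecialLike X)
include hs

/-- Such a group is special, its centre of order two or four. -/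
theorem isSpecial [Finite X] (hX : IsPGroup 2 X) (hna : ¬ IsMulCommutative X)
    (hscn : ¬ ∃ A : Subgroup X, A.Normal ∧ Subgroup.centralizer (A : Set X) = A ∧
      ∃ E : Subgroup X, E ≤ A ∧ Cfsg.IsElementaryAbelian 2 E ∧ Nat.card E = 8)
    {A : Subgroup (MulAut X)} (hA : Odd (Nat.card A)) (hfull : IsFullAction A) :
    Cfsg.IsSpecial 2 X ∧ (Nat.card (center X) = 2 ∨ Nat.card (center X) = 4) := by
  classical
  haveI := Fact.mk Nat.prime_two
  set C := _root_.commutator X
  have hCZ : C ≤ center X := by
    show _root_.commutator X ≤ center X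
    rw [_root_.commutator_def, commutator_le]
    exact fun a _ b _ => hs.comm_mem a b
  have hC : C ≠ ⊥ := fun e => hna ⟨⟨fun a b => by
    have : ⁅a, b⁆ ∈ C := commutator_mem_commutator (mem_top a) (mem_top b)
    rw [e, mem_bot] at this
    exact commutatorElement_eq_one_iff_mul_comm.1 this⟩⟩
  have hZC : center X ≤ C := by
    by_cases hmove : ∃ α ∈ A, ∃ w ∈ center X, α w ≠ w
    · obtain ⟨φ, D, m, hφA, h, -, -⟩ := exists_homoData hX hscn hA hfull (center X) inferInstance
        (fun a _ b hb => mem_center_iff.1 hb a) (aInvariant_of_characteristic A (center X)) hmove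
      have hmem : ∀ z, z ∈ center X → z ∈ D := fun z hz => (h.memD z).2 ⟨hz, hs.elem z hz⟩
      obtain ⟨c, hc, hc1⟩ := (Subgroup.bot_or_exists_ne_one C).resolve_left hC
      have hφC := aInvariant_of_characteristic A C φ hφA
      intro z hz
      rcases h.mem_four (hmem c (hCZ hc)) hc1 (hmem z hz) with rfl | rfl | rfl | rfl
      exacts [one_mem _, hc, hφC c hc, hφC _ (hφC c hc)]
    · push Not at hmove
      intro z hz
      exact mem_of_fixed_mod hX hA hfull C
        (fun a b => commutator_mem_commutator (mem_top a) (mem_top b))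
        (fun α hα => by rw [hmove α hα z hz, inv_mul_cancel]; exact one_mem _)
  have heq : C = center X := le_antisymm hCZ hZC
  have hΦ : frattini X = center X := by
    refine le_antisymm (CfsgLib.Transfer.frattini_le_of_elementary_quotient (p := 2) (center X)
      hs.comm_mem (fun g => by rw [_root_.sq]; exact hs.sq_mem g)) ?_
    rw [← heq]
    show _root_.commutator X ≤ frattini X
    rw [_root_.commutator_def, commutator_le]
    intro a _ b _
    have := CfsgLib.StructC.comm_mem_frattini hX a⁻¹ b⁻¹
    rwa [inv_inv, inv_inv] at this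
  refine ⟨⟨hX, hΦ, heq⟩, ?_⟩
  have h4 := card_normal_elementary_le_four hX hscn (center X)
    (fun a _ b hb => mem_center_iff.1 hb a) hs.elem
  obtain ⟨j, hj⟩ := (hX.to_subgroup (center X)).exists_card_eq
  rw [hj] at h4 ⊢
  have hj0 : j ≠ 0 := by
    rintro rfl
    rw [pow_zero, Subgroup.card_eq_one, ← heq] at hj
    exact hC hj
  have hj2 : j ≤ 2 := by
    by_contra hlt
    have := Nat.pow_le_pow_right (show 1 ≤ 2 by norm_num) (show 3 ≤ j by omega)
    omega
  rcases (show j = 1 ∨ j = 2 by omega) with rfl | rfl
  · exact Or.inl (pow_one 2)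
  · exact Or.inr (by norm_num)

/-- A centre of order two: quaternion or extraspecial of order `32` with eleven involutions. -/
theorem of_center_two [Finite X] (hX : IsPGroup 2 X) (hna : ¬ IsMulCommutative X)
    (hscn : ¬ ∃ A : Subgroup X, A.Normal ∧ Subgroup.centralizer (A : Set X) = A ∧
      ∃ E : Subgroup X, E ≤ A ∧ Cfsg.IsElementaryAbelian 2 E ∧ Nat.card E = 8)
    {A : Subgroup (MulAut X)} (hA : Odd (Nat.card A)) (hfull : IsFullAction A)
    (hsp : Cfsg.IsSpecial 2 X) (hZ : Nat.card (center X) = 2) :
    Nonempty (X ≃* QuaternionGroup 2) ∨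
      (Cfsg.IsExtraspecial 2 X ∧ Nat.card X = 32 ∧ Nat.card {x : X // orderOf x = 2} = 11) := by
  classical
  haveI := Fact.mk Nat.prime_two
  haveI : Finite (MulAut X) := Finite.of_injective (fun e => (e : X → X)) DFunLike.coe_injective
  obtain ⟨z0, hz01, hz0⟩ := (Nat.card_eq_two_iff' (1 : center X)).1 hZ
  have hzz : ∀ w ∈ center X, w ≠ 1 → w = (z0 : X) := fun w hw hw1 =>
    congrArg Subtype.val (hz0 ⟨w, hw⟩ fun e => hw1 (congrArg Subtype.val e))
  by_cases hinv : ∀ g : X, g * g = 1 → g ∈ center X
  · -- a unique involution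
    left
    have hu : ∀ a b : X, orderOf a = 2 → orderOf b = 2 → Commute a b → b ∈ zpowers a := by
      intro a b ha hb _
      have key : ∀ w : X, orderOf w = 2 → w = (z0 : X) := fun w hw =>
        hzz w (hinv w (by rw [← _root_.sq, ← hw, pow_orderOf_eq_one]))
          (fun e => by rw [e, orderOf_one] at hw; norm_num at hw)
      rw [key b hb, ← key a ha]
      exact mem_zpowers a
    rcases CfsgLib.StructC.isCyclic_or_quaternion hX hu with hc | ⟨k, hk1, ⟨e⟩⟩
    · exact absurd (by letI := hc.commGroup; exact ⟨⟨mul_comm⟩⟩) hna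
    · have hk : k = 1 := by
        have h4 : (e.symm (QuaternionGroup.a 1)) ^ 4 = 1 := by
          rw [show (4 : ℕ) = 2 * 2 from rfl, pow_mul, _root_.sq, _root_.sq]
          exact hs.elem _ (hs.sq_mem _)
        have h5 := orderOf_dvd_of_pow_eq_one h4
        rw [MulEquiv.orderOf_eq, QuaternionGroup.orderOf_a_one, ← pow_succ',
          show (4 : ℕ) = 2 ^ 2 from rfl, Nat.pow_dvd_pow_iff_le_right (by norm_num)] at h5
        omega
      subst hk
      exact ⟨e⟩
  -- a noncentral involution
  push Not at hinv
  obtain ⟨g, hg, hgz⟩ := hinv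
  right
  have hes : Cfsg.IsExtraspecial 2 X := ⟨hsp, hZ⟩
  obtain ⟨n, hn1, hn⟩ := CfsgLib.Transfer.extraspecial_card hes
  set U := centralizer ({g} : Set X)
  set P := center X ⊔ zpowers g
  have hPU : P ≤ U := sup_le (fun z hz => mem_centralizer_singleton_iff.2 (mem_center_iff.1 hz g).symm)
    (zpowers_le.2 (mem_centralizer_singleton_iff.2 rfl))
  have h32 : Nat.card X ≤ Nat.card U * 2 := hZ ▸ hs.card_le_mul_centralizer g (hs.comm_mem g)
  have h16 : Nat.card U ≤ 16 := hs.card_centralizer_involution hX hscn hZ hg hgz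
  have hPsq : ∀ x ∈ P, x * x = 1 := by
    intro x hx
    rcases (hs.mem_sup_zpowers_iff le_rfl g x).1 hx with h | h
    · exact hs.elem x h
    · have := hs.sq_mul g (g⁻¹ * x)
      rw [mul_inv_cancel_left, hg, one_mul, hs.elem _ h, mul_one,
        commutatorElement_eq_one_iff_mul_comm.2 (mem_center_iff.1 h g)] at this
      exact this
  have hcomm_ne : ∀ x ∉ U, ⁅g, x⁆ = (z0 : X) := fun x hx => hzz _ (hs.comm_mem g x) fun e => hx
    (mem_centralizer_singleton_iff.2 (commutatorElement_eq_one_iff_mul_comm.1 e).symm)
  have hPcard : Nat.card P = 4 := by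
    have h1 : Nat.card P ≤ 4 := by
      have := hs.card_sup_zpowers_le (le_refl (center X)) g
      rw [hZ] at this
      exact this
    have hlt : center X < P :=
      lt_of_le_of_ne le_sup_left fun e => hgz (e.ge (mem_sup_right (mem_zpowers g)))
    have h2 : Nat.card (center X) < Nat.card P := Set.Finite.card_lt_card (Set.toFinite _) hlt
    obtain ⟨j, hj⟩ := (hX.to_subgroup P).exists_card_eq
    rw [hj] at h1 h2 ⊢
    rw [hZ] at h2
    have hj2 : j ≤ 2 := by
      by_contra hlt
      have := Nat.pow_le_pow_right (show 1 ≤ 2 by norm_num) (show 3 ≤ j by omega)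
      omega
    interval_cases j <;> omega
  have hgU : Nat.card U ≠ Nat.card X := fun e => hgz (by
    rw [mem_center_iff]
    intro x
    exact mem_centralizer_singleton_iff.1 ((eq_top_of_card_eq U e).ge (mem_top x)))
  obtain ⟨l, hl⟩ := (hX.to_subgroup U).exists_card_eq
  have hl2 : l < 2 * n + 1 := by
    have : Nat.card U < Nat.card X :=
      lt_of_le_of_ne (card_le_card_group U) hgU
    rw [hl, hn] at this
    exact (Nat.pow_lt_pow_iff_right (by norm_num)).1 this
  have hl3 : 2 * n + 1 ≤ l + 1 := by
    rw [hn, hl, ← pow_succ] at h32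
    exact (Nat.pow_le_pow_iff_right (by norm_num)).1 h32
  have hl4 : l ≤ 4 := by
    rw [hl, show (16 : ℕ) = 2 ^ 4 from rfl] at h16
    exact (Nat.pow_le_pow_iff_right (by norm_num)).1 h16
  have hle : l = 2 * n := by omega
  have hn2 : n = 1 ∨ n = 2 := by omega
  rcases hn2 with rfl | rfl
  · -- the dihedral group of order eight
    exfalso
    have hUP : U = P := (eq_of_le_of_card_ge hPU (by rw [hPcard, hl, hle]; norm_num)).symm
    obtain ⟨α, hα, hαg⟩ : ∃ α ∈ A, α g ∉ U := by
      by_contra hall
      push Not at hall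
      refine hgz (mem_of_fixed_mod hX hA hfull (center X) hs.comm_mem fun α hα => ?_)
      have hne : α g ∉ center X := fun h => hgz (by
        have := aInvariant_of_characteristic A (center X) α⁻¹ (inv_mem hα) _ h
        rwa [MulAut.inv_apply_self] at this)
      exact ((hs.mem_sup_zpowers_iff le_rfl g (α g)).1 (hUP.le (hall α hα))).resolve_left hne
    set h := α g
    have hh : h * h = 1 := by rw [← map_mul, hg, map_one]
    have hgh : ⁅g, h⁆ = (z0 : X) := hcomm_ne h hαg
    have hz1 : (z0 : X) ≠ 1 := fun e => hz01 (Subtype.ext e)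
    have hinvZ : ∀ w : X, w * w = 1 → w ∉ center X → g⁻¹ * w ∈ center X ∨ h⁻¹ * w ∈ center X := by
      intro w hw hwz
      have htop : (center X ⊔ zpowers g ⊔ zpowers h : Subgroup X) = ⊤ := by
        refine eq_top_of_card_eq _ (le_antisymm (card_le_card_group _) ?_)
        have hlt0 : P < P ⊔ zpowers h :=
          lt_of_le_of_ne le_sup_left fun e => hαg (hUP.ge (e.ge (mem_sup_right (mem_zpowers h))))
        have hlt : Nat.card P < Nat.card (P ⊔ zpowers h : Subgroup X) :=
          Set.Finite.card_lt_card (Set.toFinite _) hlt0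
        obtain ⟨i, hi⟩ := (hX.to_subgroup (P ⊔ zpowers h : Subgroup X)).exists_card_eq
        rw [hi, hPcard] at hlt
        have hlt' : 2 ^ 2 < 2 ^ i := hlt
        have := (Nat.pow_lt_pow_iff_right (show 1 < 2 by norm_num)).1 hlt'
        show Nat.card X ≤ Nat.card (P ⊔ zpowers h : Subgroup X)
        rw [hn, hi]
        exact Nat.pow_le_pow_right (by norm_num) (by omega)
      rcases (hs.mem_sup_zpowers_iff (le_sup_left : center X ≤ P) h w).1 (htop.ge (mem_top w))
        with h1 | h1
      · exact Or.inl (((hs.mem_sup_zpowers_iff le_rfl g w).1 h1).resolve_left hwz)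
      · refine Or.inr (((hs.mem_sup_zpowers_iff le_rfl g (h⁻¹ * w)).1 h1).resolve_right fun h2 => ?_)
        set c := g⁻¹ * (h⁻¹ * w)
        have e : w = h * (g * c) := by simp [c, ← mul_assoc]
        rw [e, hs.sq_mul, hh, one_mul, hs.sq_mul, hg, one_mul, hs.elem c h2, mul_one,
          hs.comm_mul_right, commutatorElement_eq_one_iff_mul_comm.2 (mem_center_iff.1 h2 g),
          commutatorElement_eq_one_iff_mul_comm.2 (mem_center_iff.1 h2 h), mul_one, mul_one,
          hs.comm_symm h g, hgh] at hw
        exact hz1 hw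
    have hhz : h ∉ center X := fun h1 => hαg
      (mem_centralizer_singleton_iff.2 (mem_center_iff.1 h1 g).symm)
    have hφh : α h ∉ center X := fun h1 => hhz (by
      have := aInvariant_of_characteristic A (center X) α⁻¹ (inv_mem hα) _ h1
      rwa [MulAut.inv_apply_self] at this)
    have hZinv := aInvariant_of_characteristic A (center X) α hα
    rcases hinvZ (α h) (by rw [← map_mul, hh, map_one]) hφh with h1 | h1
    · -- `α` exchanges the two classes
      have hstep : ∀ i : ℕ, g⁻¹ * (α ^ (2 * i)) g ∈ center X := by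
        intro i
        induction i with
        | zero => simp
        | succ i ih =>
          rw [show 2 * (i + 1) = 1 + 1 + 2 * i by omega, pow_add, pow_add, pow_one, MulAut.mul_apply,
            MulAut.mul_apply]
          have e : g⁻¹ * α (α ((α ^ (2 * i)) g)) =
              g⁻¹ * α h * α (α (g⁻¹ * (α ^ (2 * i)) g)) := by
            simp only [h, map_mul, map_inv]; group
          rw [e]
          exact mul_mem h1 (hZinv _ (hZinv _ ih))
      obtain ⟨k, hk⟩ : Odd (orderOf α) := by
        have h2 : orderOf (⟨α, hα⟩ : A) ∣ Nat.card A := orderOf_dvd_natCard _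
        rw [← Subgroup.orderOf_coe] at h2
        exact hA.of_dvd_nat h2
      have h2 := hZinv _ (hstep k)
      have h3 : (α ^ (2 * k + 1)) g = g := by rw [← hk, pow_orderOf_eq_one, MulAut.one_apply]
      rw [map_mul, map_inv, ← MulAut.mul_apply, ← pow_succ', h3] at h2
      -- `h⁻¹ g` is central
      refine hαg (hUP.ge ((hs.mem_sup_zpowers_iff le_rfl g h).2 (Or.inr ?_)))
      have := inv_mem h2
      rwa [mul_inv_rev, inv_inv] at this
    · refine hαg (hUP.ge ((hs.mem_sup_zpowers_iff le_rfl g h).2 (Or.inr ?_)))
      have := aInvariant_of_characteristic A (center X) α⁻¹ (inv_mem hα) _ h1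
      rwa [map_mul, map_inv, MulAut.inv_apply_self, MulAut.inv_apply_self] at this
  · -- order thirty-two
    refine ⟨hes, by rw [hn]; norm_num, ?_⟩
    haveI := Fintype.ofFinite X
    have hUc : Nat.card U = 16 := by rw [hl, hle]; norm_num
    set S1 := (Finset.univ.filter fun x : X => x ∈ U ∧ x * x = 1)
    set S2 := (Finset.univ.filter fun x : X => x ∉ U ∧ x * x = 1)
    set S3 := (Finset.univ.filter fun x : X => x ∉ U ∧ x * x ≠ 1)
    have h1 : S1.card = 4 := by
      rw [← hPcard, Nat.card_eq_fintype_card, ← Fintype.card_coe]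
      refine Fintype.card_congr (Equiv.subtypeEquivRight fun x => ?_)
      simp only [S1, Finset.mem_filter, Finset.mem_univ, true_and]
      refine ⟨fun hx => ?_, fun hx => ⟨hPU hx, hPsq x hx⟩⟩
      exact hs.mem_of_sq_eq_one hX hscn hZ hg hgz hx.2
        (mem_centralizer_singleton_iff.1 hx.1).symm
    have hflip : ∀ x ∉ U, x * g ∉ U ∧ (x * g * (x * g) = 1 ↔ x * x ≠ 1) := by
      intro x hx
      refine ⟨fun h => hx ?_, ?_⟩
      · have := mul_mem h (inv_mem (hPU (mem_sup_right (mem_zpowers g))))
        rwa [mul_inv_cancel_right] at this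
      · rw [hs.sq_mul, hg, mul_one, hs.comm_symm, hcomm_ne x hx]
        constructor
        · intro e h'
          rw [h', mul_one] at e
          exact hz01 (Subtype.ext e)
        · intro h'
          rw [hzz _ (hs.sq_mem x) h']
          exact hs.elem _ z0.2
    have hgg : ∀ x : X, x * g * g = x := fun x => by rw [mul_assoc, hg, mul_one]
    have h23 : S2.card = S3.card := by
      refine Finset.card_bij (fun x _ => x * g) ?_ (fun a _ b _ e => mul_right_cancel e) ?_
      · intro x hx
        simp only [S2, S3, Finset.mem_filter, Finset.mem_univ, true_and] at hx ⊢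
        exact ⟨(hflip x hx.1).1, fun e => ((hflip x hx.1).2.1 e) hx.2⟩
      · intro x hx
        simp only [S3, Finset.mem_filter, Finset.mem_univ, true_and] at hx
        refine ⟨x * g, ?_, hgg x⟩
        simp only [S2, Finset.mem_filter, Finset.mem_univ, true_and]
        exact ⟨(hflip x hx.1).1, (hflip x hx.1).2.2 hx.2⟩
    have hout : S2.card + S3.card = 16 := by
      have e1 : S2.card + S3.card = (Finset.univ.filter fun x : X => x ∉ U).card := by
        rw [← Finset.card_filter_add_card_filter_not
          (s := Finset.univ.filter fun x : X => x ∉ U) (fun x : X => x * x = 1),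
          Finset.filter_filter, Finset.filter_filter]
      have e2 := Finset.card_filter_add_card_filter_not (s := (Finset.univ : Finset X))
        (fun x : X => x ∈ U)
      rw [Finset.card_univ, ← Nat.card_eq_fintype_card, hn] at e2
      have e3 : (Finset.univ.filter fun x : X => x ∈ U).card = 16 := by
        rw [← hUc, Nat.card_eq_fintype_card, ← Fintype.card_coe]
        exact Fintype.card_congr (Equiv.subtypeEquivRight fun x => by simp)
      omega
    rw [Nat.card_eq_fintype_card, Fintype.card_subtype]
    have e4 : (Finset.univ.filter fun x : X => orderOf x = 2) = (S1 ∪ S2).erase 1 := by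
      ext x
      simp only [S1, S2, Finset.mem_filter, Finset.mem_univ, true_and, Finset.mem_erase,
        Finset.mem_union]
      rw [orderOf_eq_prime_iff, _root_.sq]
      tauto
    rw [e4, Finset.card_erase_of_mem, Finset.card_union_of_disjoint]
    · omega
    · rw [Finset.disjoint_left]
      intro x hx hx'
      simp only [S1, S2, Finset.mem_filter] at hx hx'
      exact hx'.2.1 hx.2.1
    · simp only [S1, Finset.mem_union, Finset.mem_filter, Finset.mem_univ, true_and]
      exact Or.inl ⟨one_mem _, one_mul 1⟩

end SpecialLike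

end CfsgLib.PGroup
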