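import Cfsg.Prelude.Def_Transfer
import Cfsg.Agent.Lib.Transfer.PGroupNormal
import Cfsg.Agent.Lib.Transfer.UniqueOrderP

/-!
Odd-order automorphism groups `A` of `2`-groups `X` with `[X, A] = X`; no normal `E₈`.
-/

set_option autoImplicit false
set_option linter.style.haveILetI false

universe u

namespace CfsgLib.PGroup

open Subgroup
open scoped commutatorElement

variable {X : Type u} [Group X]

/-- `[X, A] = X`. -/
def IsFullAction (A : Subgroup (MulAut X)) : Prop :=
  Subgroup.closure {g : X | ∃ φ ∈ A, ∃ x : X, g = x⁻¹ * φ x} = ⊤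

/-- `N` is `A`-invariant. -/
def IsAInvariant (A : Subgroup (MulAut X)) (N : Subgroup X) : Prop :=
  ∀ φ ∈ A, ∀ x ∈ N, φ x ∈ N

theorem aInvariant_of_characteristic (A : Subgroup (MulAut X)) (N : Subgroup X)
    [N.Characteristic] : IsAInvariant A N := fun φ _ x hx =>
  (Subgroup.characteristic_iff_map_eq.1 inferInstance φ).le (mem_map_of_mem φ.toMonoidHom hx)

theorem aInvariant_centralizer {A : Subgroup (MulAut X)} {N : Subgroup X} (hN : IsAInvariant A N) :
    IsAInvariant A (centralizer (N : Set X)) := fun φ hφ x hx => by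
  rw [mem_centralizer_iff] at hx ⊢
  intro n hn
  have h1 : φ⁻¹ n ∈ N := hN _ (inv_mem hφ) n hn
  have h2 := congrArg φ (hx _ h1)
  rwa [map_mul, map_mul, MulAut.apply_inv_self] at h2

/-- A normal subgroup fixed pointwise is central. -/
theorem le_center_of_fixed {A : Subgroup (MulAut X)} (hfull : IsFullAction A) {Y : Subgroup X}
    (hY : Y.Normal) (hfix : ∀ φ ∈ A, ∀ y ∈ Y, φ y = y) : Y ≤ center X := by
  have hle : (⊤ : Subgroup X) ≤ centralizer (Y : Set X) := by
    rw [← hfull, closure_le]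
    rintro _ ⟨φ, hφ, x, rfl⟩
    rw [SetLike.mem_coe, mem_centralizer_iff]
    intro y hy
    have h1 : φ x * y * (φ x)⁻¹ = x * y * x⁻¹ := by
      have := hfix φ hφ _ (hY.conj_mem y hy x)
      rwa [map_mul, map_mul, map_inv, hfix φ hφ y hy] at this
    calc y * (x⁻¹ * φ x) = x⁻¹ * (x * y * x⁻¹) * φ x := by group
      _ = x⁻¹ * (φ x * y * (φ x)⁻¹) * φ x := by rw [h1]
      _ = x⁻¹ * φ x * y := by group
  intro y hy
  rw [mem_center_iff]
  intro g
  exact (mem_centralizer_iff.1 (hle (mem_top g)) y hy).symm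

/-- An equivariant homomorphism to a group with trivial action is trivial. -/
theorem hom_eq_one_of_invariant {A : Subgroup (MulAut X)} (hfull : IsFullAction A) {B : Type*}
    [Group B] (f : X →* B) (hf : ∀ φ ∈ A, ∀ x, f (φ x) = f x) (x : X) : f x = 1 := by
  have hle : (⊤ : Subgroup X) ≤ f.ker := by
    rw [← hfull, closure_le]
    rintro _ ⟨φ, hφ, y, rfl⟩
    show f (y⁻¹ * φ y) = 1
    rw [map_mul, map_inv, hf φ hφ, inv_mul_cancel]
  exact hle (mem_top x)

/-- Abelian quotients have no nontrivial fixed elements. -/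
theorem mem_of_fixed_mod [Finite X] (hX : IsPGroup 2 X) {A : Subgroup (MulAut X)}
    (hA : Odd (Nat.card A)) (hfull : IsFullAction A) (N : Subgroup X) [N.Normal]
    (hc : ∀ a b : X, ⁅a, b⁆ ∈ N) {x : X} (hx : ∀ φ ∈ A, x⁻¹ * φ x ∈ N) : x ∈ N := by
  classical
  letI : CommGroup (X ⧸ N) :=
    { (inferInstance : Group (X ⧸ N)) with
      mul_comm := fun a b => by
        induction a using QuotientGroup.induction_on with
        | _ a =>
          induction b using QuotientGroup.induction_on with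
          | _ b =>
            rw [← commutatorElement_eq_one_iff_mul_comm]
            exact (map_commutatorElement (QuotientGroup.mk' N) a b).symm.trans
              ((QuotientGroup.eq_one_iff _).2 (hc a b)) }
  haveI : Finite (MulAut X) := Finite.of_injective (fun e => (e : X → X)) DFunLike.coe_injective
  haveI := Fintype.ofFinite A
  let ν : X →* X ⧸ N :=
    MonoidHom.mk' (fun g => ∏ α : A, ((((α : MulAut X) g : X)) : X ⧸ N)) fun g h => by
      rw [← Finset.prod_mul_distrib]
      exact Finset.prod_congr rfl fun α _ => by rw [map_mul, QuotientGroup.mk_mul]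
  have hν : ν x = 1 := hom_eq_one_of_invariant hfull ν (fun φ hφ g => by
    show ∏ α : A, _ = ∏ α : A, _
    exact Fintype.prod_equiv (Equiv.mulRight (⟨φ, hφ⟩ : A)) _ _ fun α => rfl) x
  have h2 : ν x = (x : X ⧸ N) ^ Nat.card A := by
    show ∏ α : A, _ = _
    rw [Finset.prod_eq_pow_card (b := (x : X ⧸ N)) fun α _ => (QuotientGroup.eq.2 (hx _ α.2)).symm,
      Finset.card_univ, Nat.card_eq_fintype_card]
  rw [h2] at hν
  rw [← QuotientGroup.eq_one_iff, ← orderOf_eq_one_iff]
  haveI := Fact.mk Nat.prime_two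
  obtain ⟨j, hj⟩ := (IsPGroup.iff_orderOf.1 (hX.to_quotient N)) (x : X ⧸ N)
  refine Nat.eq_one_of_dvd_coprimes (a := 2 ^ j) ?_ hj.dvd (orderOf_dvd_of_pow_eq_one hν)
  exact Nat.Coprime.pow_left j (Nat.coprime_two_left.2 hA)

/-- Without self-centralizing normal abelian subgroups of rank three, normal elementary abelian
subgroups have order at most four. -/
theorem card_normal_elementary_le_four [Finite X] (hX : IsPGroup 2 X)
    (hscn : ¬ ∃ A : Subgroup X, A.Normal ∧ Subgroup.centralizer (A : Set X) = A ∧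
      ∃ E : Subgroup X, E ≤ A ∧ Cfsg.IsElementaryAbelian 2 E ∧ Nat.card E = 8)
    (E : Subgroup X) [E.Normal] (hc : ∀ a ∈ E, ∀ b ∈ E, a * b = b * a)
    (h2 : ∀ a ∈ E, a * a = 1) : Nat.card E ≤ 4 := by
  haveI := Fact.mk Nat.prime_two
  by_contra hgt
  obtain ⟨k, hk⟩ := (hX.to_subgroup E).exists_card_eq
  have hk3 : 2 ^ 3 ∣ Nat.card E := by
    rw [hk]
    refine pow_dvd_pow 2 ?_
    by_contra hlt
    exact hgt (hk ▸ le_trans (Nat.pow_le_pow_right (by norm_num) (show k ≤ 2 by omega)) (by norm_num))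
  obtain ⟨E', hE'n, hE'E, hE'c⟩ := CfsgLib.Transfer.exists_normal_le_card hX E hk3
  haveI hE'a : IsMulCommutative E' :=
    ⟨⟨fun a b => Subtype.ext (hc a (hE'E a.2) b (hE'E b.2))⟩⟩
  obtain ⟨W, hEW, hW⟩ := Finite.exists_le_maximal
    (p := fun B : Subgroup X => B.Normal ∧ IsMulCommutative B) (a := E') ⟨hE'n, hE'a⟩
  haveI := hW.prop.1
  haveI := hW.prop.2
  exact hscn ⟨W, hW.prop.1, CfsgLib.Transfer.centralizer_eq_of_maximal_normal_abelian hX W
    fun B hBn hBc hAB => le_antisymm (hW.le_of_ge ⟨hBn, hBc⟩ hAB) hAB,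
    E', hEW, ⟨hE'a, fun a ha => by rw [sq]; exact h2 a (hE'E ha)⟩, by rw [hE'c]; norm_num⟩

/-- An involution commuting with all its commutators and with a central four-group `D` containing
them lies in `D`. -/
theorem mem_of_involution [Finite X] (hX : IsPGroup 2 X)
    (hscn : ¬ ∃ A : Subgroup X, A.Normal ∧ Subgroup.centralizer (A : Set X) = A ∧
      ∃ E : Subgroup X, E ≤ A ∧ Cfsg.IsElementaryAbelian 2 E ∧ Nat.card E = 8)
    (D : Subgroup X) (hDz : D ≤ center X) (hD2 : ∀ a ∈ D, a * a = 1) (hD : Nat.card D = 4) {u : X}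
    (hu : u * u = 1) (hcomm : ∀ x : X, ⁅u, x⁆ ∈ D) : u ∈ D := by
  by_contra hnot
  set E := D ⊔ zpowers u
  have hcen : ∀ d ∈ D, ∀ x : X, Commute x d := fun d hd x => mem_center_iff.1 (hDz hd) x
  have hmem : ∀ e ∈ E, e ∈ D ∨ ∃ d ∈ D, e = u * d := by
    intro e he
    obtain ⟨d, hd, v, hv, rfl⟩ := (Subgroup.mem_sup_of_normal_left (s := D) (t := zpowers u)
      (hs := ⟨fun d hd x => by rw [(hcen d hd x).eq, mul_inv_cancel_right]; exact hd⟩)).1 he
    obtain ⟨i, rfl⟩ := mem_zpowers_iff.1 hv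
    rcases Int.even_or_odd i with ⟨j, rfl⟩ | ⟨j, rfl⟩
    · refine Or.inl ?_
      rw [zpow_add, ← (Commute.refl u).mul_zpow, hu, one_zpow, mul_one]
      exact hd
    · refine Or.inr ⟨d, hd, ?_⟩
      rw [zpow_add, two_mul, zpow_add, ← (Commute.refl u).mul_zpow, hu, one_zpow, one_mul, zpow_one,
        (hcen d hd u).eq]
  haveI : E.Normal := ⟨fun e he x => by
    rcases hmem e he with h | ⟨d, hd, rfl⟩
    · rw [(hcen e h x).eq, mul_inv_cancel_right]; exact mem_sup_left h
    · have h1 : x * (u * d) * x⁻¹ = ⁅x, u⁆ * u * d := by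
        rw [commutatorElement_def]
        calc x * (u * d) * x⁻¹ = x * u * (d * x⁻¹) := by group
          _ = x * u * (x⁻¹ * d) := by rw [((hcen d hd x⁻¹).eq)]
          _ = _ := by group
      rw [h1, ← commutatorElement_inv]
      exact mul_mem (mul_mem (mem_sup_left (inv_mem (hcomm x))) (mem_sup_right (mem_zpowers u)))
        (mem_sup_left hd)⟩
  have hc : ∀ a ∈ E, ∀ b ∈ E, a * b = b * a := by
    intro a ha b hb
    rcases hmem a ha with h | ⟨d, hd, rfl⟩
    · exact (hcen a h b).eq.symm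
    · rcases hmem b hb with h' | ⟨d', hd', rfl⟩
      · exact (hcen b h' _).eq
      · exact ((Commute.refl u).mul_right (hcen d' hd' u)).mul_left
          ((hcen d hd u).symm.mul_right (hcen d' hd' d))
  have h2 : ∀ a ∈ E, a * a = 1 := by
    intro a ha
    rcases hmem a ha with h | ⟨d, hd, rfl⟩
    · exact hD2 a h
    · rw [(hcen d hd u).symm.mul_mul_mul_comm, hu, hD2 d hd, one_mul]
  have h4 := card_normal_elementary_le_four hX hscn E hc h2
  have hlt : D < E := lt_of_le_of_ne le_sup_left fun e => hnot (e ▸ mem_sup_right (mem_zpowers u))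
  have := Set.Finite.card_lt_card (Set.toFinite (E : Set X)) hlt
  have h5 : Nat.card D < Nat.card E := this
  omega

end CfsgLib.PGroup
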