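import Cfsg.Agent.Lib.PGroup.CentralOmega
import Cfsg.Agent.Lib.PLength.Constrained
import Cfsg.Agent.Lib.OddLocal.RankTwoAction
import Cfsg.Agent.Lib.Transfer.UniqueOrderP
import Cfsg.Agent.Lib.Comp.PComponent
import Cfsg.Agent.Lib.OddLocal.RankTwoSolvable
import Cfsg.Agent.Lib.StructC.PSolvableQuot

/-!
`p`-solvable groups of `p`-rank at most two, `p` odd: normal series with small `p`-factors.
-/

set_option autoImplicit false
set_option linter.style.haveILetI false

universe u

namespace CfsgLib.PGroup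

open Subgroup
open scoped commutatorElement

variable {p : ℕ} [Fact p.Prime]

/-- `|GL₂(p)|` is not divisible by `p ^ 2`. -/
theorem not_sq_dvd_card_gl_two : ¬ p ^ 2 ∣ Nat.card (GL (Fin 2) (ZMod p)) := by
  classical
  have hp := (Fact.out : p.Prime)
  rw [Matrix.card_GL_field, Fin.prod_univ_two, ZMod.card]
  simp only [Fin.val_zero, Fin.val_one, pow_zero, pow_one]
  intro h
  have e : (p ^ 2 - 1) * (p ^ 2 - p) = p * ((p - 1) * (p - 1) * (p + 1)) := by
    obtain ⟨q, rfl⟩ : ∃ q, p = q + 1 := ⟨p - 1, by have := hp.two_le; omega⟩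
    simp only [Nat.add_sub_cancel]
    rw [show (q + 1) ^ 2 - 1 = (q + 1 + 1) * q by
        rw [show (q + 1) ^ 2 = (q + 1 + 1) * q + 1 by ring, Nat.add_sub_cancel],
      show (q + 1) ^ 2 - (q + 1) = (q + 1) * q by
        rw [show (q + 1) ^ 2 = (q + 1) * q + (q + 1) by ring, Nat.add_sub_cancel]]
    ring
  rw [e, pow_two] at h
  have h' := Nat.dvd_of_mul_dvd_mul_left hp.pos h
  have h2 := hp.two_le
  rcases (Nat.Prime.dvd_mul hp).1 h' with h3 | h3
  · rcases (Nat.Prime.dvd_mul hp).1 h3 with h4 | h4 <;>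
      exact absurd (Nat.le_of_dvd (by omega) h4) (by omega)
  · rw [Nat.dvd_add_self_left, Nat.dvd_one] at h3
    omega

theorem rankTwo_steps {G : Type u} [Group G] [Finite G] (hp : p ≠ 2)
    (hs : Cfsg.IsPSolvable p G) (hO : Cfsg.pPrimeCore p G = ⊥) (hr : Cfsg.PRankLE p 2 G)
    (P : Subgroup G → Prop) (hbot : P ⊥) (hstep : StepClosed p P) : P ⊤ := by
  classical
  have hpr := (Fact.out : p.Prime)
  have hlt3 : p ^ 2 < p ^ 3 := Nat.pow_lt_pow_right hpr.one_lt (by norm_num)
  have hsmall : ∀ m : ℕ, m ≠ 0 → m ≤ p ^ 2 → ¬ p ^ 3 ∣ m := fun m h0 h hd =>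
    absurd ((Nat.le_of_dvd (Nat.pos_of_ne_zero h0) hd).trans h) (not_le.2 hlt3)
  have hgl : ∀ m : ℕ, m ∣ Nat.card (GL (Fin 2) (ZMod p)) → ¬ p ^ 3 ∣ m := fun m hm hd =>
    not_sq_dvd_card_gl_two (((pow_dvd_pow p (by norm_num)).trans hd).trans hm)
  set R := Cfsg.pCore p G with hRdef
  haveI hRn : R.Normal := CfsgLib.Solvable.pCore_normal p G
  have hRp : IsPGroup p R := CfsgLib.Solvable.pCore_isPGroup p
  have hCR : centralizer (R : Set G) ≤ R :=
    CfsgLib.PLength.centralizer_pCore_le_of_isPSolvable hs hO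
  have hrR : Cfsg.PRankLE p 2 R := by
    intro A hA hAe
    haveI := hA
    rw [← card_map_of_injective R.subtype_injective]
    refine hr _ inferInstance ?_
    rintro _ ⟨a, ha, rfl⟩
    rw [← map_pow, hAe a ha, map_one]
  -- `G / R` embeds in `GL₂(p)` up to a `p`-group
  have htop : P R → P ⊤ := by
    refine hstep R ⊤ hRn inferInstance le_top ?_
    rw [relIndex_top_right]
    obtain ⟨ρ, hρ⟩ := CfsgLib.OddLocal.exists_linear_rep hp hRp hrR
    let c : G →* MulAut R := MulAut.conjNormal (H := R)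
    let ν : G →* GL (Fin 2) (ZMod p) := (ρ.comp c).toHomUnits
    have hker : ν.ker ≤ R := by
      refine CfsgLib.Solvable.le_pCore inferInstance ?_
      by_contra hnp
      obtain ⟨q, hq, hqp, hqd⟩ : ∃ q : ℕ, q.Prime ∧ q ≠ p ∧ q ∣ Nat.card ν.ker := by
        by_contra! hall
        exact hnp (IsPGroup.of_card (Nat.eq_prime_pow_of_unique_prime_dvd Nat.card_pos.ne'
          fun {d} hd hdd => by_contra fun hne => hall d hd hne hdd))
      haveI := Fact.mk hq
      obtain ⟨g, hg⟩ := exists_prime_orderOf_dvd_card' (G := ν.ker) q hqd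
      rw [← Subgroup.orderOf_coe] at hg
      have hcop : (orderOf (c (g : G))).Coprime p :=
        Nat.Coprime.coprime_dvd_left (orderOf_map_dvd c (g : G))
          (hg ▸ (Nat.coprime_primes hq hpr).2 hqp)
      have hg1 : c (g : G) = 1 := hρ _ hcop (congrArg Units.val g.2 :)
      have hgR : (g : G) ∈ R := hCR (mem_centralizer_iff.2 fun r hr' => by
        have h := congrArg Subtype.val (DFunLike.congr_fun hg1 (⟨r, hr'⟩ : R))
        rw [MulAut.conjNormal_apply] at h
        exact (mul_inv_eq_iff_eq_mul.1 h).symm)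
      obtain ⟨j, hj⟩ := hRp ⟨g, hgR⟩
      have hd := orderOf_dvd_of_pow_eq_one (congrArg Subtype.val hj : (g : G) ^ p ^ j = 1)
      rw [hg] at hd
      exact hqp ((Nat.prime_dvd_prime_iff_eq hq hpr).1 (hq.dvd_of_dvd_pow hd))
    have hidx : R.index ∣ ν.ker.index := index_dvd_of_le hker
    rw [index_ker] at hidx
    exact hgl _ (hidx.trans (card_subgroup_dvd_card _))
  refine htop ?_
  by_cases hcyc : IsCyclic R
  · letI := IsCyclic.commGroup (α := R)
    refine central_omega_steps _ R hRn rfl hp hRp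
      (fun x hx _ y hy => congrArg Subtype.val (mul_comm (⟨y, hy⟩ : R) ⟨x, hx⟩)) ?_ P hbot hstep
    haveI := Fintype.ofFinite R
    refine le_trans ?_ ((IsCyclic.card_pow_eq_one_le (α := R) hpr.pos).trans
      (Nat.le_self_pow two_ne_zero p))
    rw [← Fintype.card_subtype, ← Nat.card_eq_fintype_card]
    refine Nat.card_le_card_of_injective
      (fun x => ⟨⟨x.1, x.2.1⟩, Subtype.ext x.2.2⟩) fun a b h => ?_
    exact Subtype.ext (congrArg (fun z => ((z.1 : R) : G)) h)
  -- the elements of order `p` of the second centre of `R`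
  let cen : G → Prop := fun z => ∀ r ∈ R, r * z = z * r
  have hconjC : ∀ g z : G, cen z → cen (g * z * g⁻¹) := fun g z hz r hr' => by
    have h := hz (g⁻¹ * r * g) (by simpa using hRn.conj_mem r hr' g⁻¹)
    calc r * (g * z * g⁻¹) = g * (g⁻¹ * r * g * z) * g⁻¹ := by group
      _ = g * (z * (g⁻¹ * r * g)) * g⁻¹ := by rw [h]
      _ = g * z * g⁻¹ * r := by group
  let Wset : Set G := {x | x ∈ R ∧ x ^ p = 1 ∧ ∀ r ∈ R, cen ⁅x, r⁆}
  have hWcomm : ∀ {x y : G}, x ∈ Wset → y ∈ R → ⁅x, y⁆ ^ p = 1 ∧ Commute x ⁅x, y⁆ := by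
    intro x y hx hy
    have hcx : Commute x ⁅x, y⁆ := hx.2.2 y hy x hx.1
    refine ⟨?_, hcx⟩
    have h1 : ⁅x, y⁆⁻¹ * x = y * x * y⁻¹ := by rw [commutatorElement_def]; group
    have h2 : (⁅x, y⁆⁻¹ * x) ^ p = 1 := by rw [h1, conj_pow, hx.2.1, mul_one, mul_inv_cancel]
    rw [(hcx.symm.inv_left).mul_pow, hx.2.1, mul_one, inv_pow, inv_eq_one] at h2
    exact h2
  let W : Subgroup G :=
    { carrier := Wset
      one_mem' := ⟨one_mem R, one_pow p, fun r _ => by
        rw [commutatorElement_one_left]; intro s _; simp⟩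
      mul_mem' := fun {a b} ha hb => by
        refine ⟨mul_mem ha.1 hb.1, ?_, fun r hr' s hs' => ?_⟩
        · have hc1 := hWcomm hb ha.1
          have hca : Commute a ⁅b, a⁆ := hb.2.2 a ha.1 a ha.1
          rw [CfsgLib.Transfer.mul_pow_of_commute_commutator hca hc1.2, ha.2.1, hb.2.1]
          obtain ⟨k, hk⟩ := hpr.dvd_choose_self (k := 2) (by norm_num)
            (lt_of_le_of_ne hpr.two_le (Ne.symm hp))
          rw [hk, pow_mul, hc1.1, one_pow]; simp
        · rw [show ⁅a * b, r⁆ = a * ⁅b, r⁆ * a⁻¹ * ⁅a, r⁆ by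
            simp only [commutatorElement_def]; group, hb.2.2 r hr' a ha.1, mul_inv_cancel_right]
          exact (show Commute s (⁅b, r⁆ * ⁅a, r⁆) from
            (show Commute s ⁅b, r⁆ from hb.2.2 r hr' s hs').mul_right
              (show Commute s ⁅a, r⁆ from ha.2.2 r hr' s hs')).eq
      inv_mem' := fun {a} ha => by
        refine ⟨inv_mem ha.1, by rw [inv_pow, ha.2.1, inv_one], fun r hr' s hs' => ?_⟩
        rw [show ⁅a⁻¹, r⁆ = a⁻¹ * ⁅a, r⁆⁻¹ * a by simp only [commutatorElement_def]; group]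
        have h1 : Commute a⁻¹ ⁅a, r⁆⁻¹ := ((hWcomm ha hr').2).inv_inv
        rw [h1.eq, inv_mul_cancel_right]
        exact (show Commute s ⁅a, r⁆⁻¹ from
          (show Commute s ⁅a, r⁆ from ha.2.2 r hr' s hs').inv_right).eq }
  have hWR : W ≤ R := fun x hx => hx.1
  haveI hWn : W.Normal := ⟨fun x hx g => ⟨hRn.conj_mem x hx.1 g, by
    rw [conj_pow, hx.2.1, mul_one, mul_inv_cancel], fun r hr' => by
      have h := hconjC g _ (hx.2.2 (g⁻¹ * r * g) (by simpa using hRn.conj_mem r hr' g⁻¹))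
      have e : g * ⁅x, g⁻¹ * r * g⁆ * g⁻¹ = ⁅g * x * g⁻¹, r⁆ := by
        simp only [commutatorElement_def]; group
      rwa [e] at h⟩⟩
  have hcenR : ∀ x y : G, x ∈ W → y ∈ W → cen ⁅x, y⁆ := fun x y hx hy => hx.2.2 y hy.1
  have hrk : ∀ S : Set G, (∀ a ∈ S, a ∈ W) → (∀ a ∈ S, ∀ b ∈ S, a * b = b * a) →
      Nat.card (closure S) ≤ p ^ 2 := by
    intro S hSW hS
    refine hr _ (isMulCommutative_closure hS) fun a ha => ?_
    exact (((closure_le W).2 hSW) ha).2.1
  -- `W` has order at least `p ^ 2`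
  have hW2 : p ^ 2 ≤ Nat.card W := by
    obtain ⟨E, hEn, hEc, hEe, hE⟩ :=
      CfsgLib.Transfer.exists_normal_elementary_sq hp hRp hcyc
    haveI := hEn
    obtain ⟨M, hMn, -, hMc, hM, -⟩ := CfsgLib.Transfer.exists_chief_below hRp E
      (fun h => by
        rw [h, card_bot] at hE
        exact (Nat.one_lt_pow two_ne_zero hpr.one_lt).ne hE)
    rw [hE, pow_two] at hMc
    have hMp : Nat.card M = p := (Nat.eq_of_mul_eq_mul_left hpr.pos hMc).symm
    obtain ⟨M₀, -, -, hM₀c, hM₀, -⟩ := CfsgLib.Transfer.exists_chief_below hRp M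
      (fun h => by rw [h, card_bot] at hMp; exact hpr.ne_one hMp.symm)
    have hbot0 : M₀ = ⊥ := Subgroup.card_eq_one.1 (by
      rw [hMp] at hM₀c
      exact Nat.eq_of_mul_eq_mul_left hpr.pos (by rw [← hM₀c, mul_one]))
    rw [← hE, ← card_map_of_injective R.subtype_injective]
    refine card_le_of_le ?_
    rintro _ ⟨e, he, rfl⟩
    refine ⟨e.2, congrArg Subtype.val (hEe e he), fun r hr' s hs' => ?_⟩
    set m := ⁅e, (⟨r, hr'⟩ : R)⁆
    have h1 : m ∈ M := by
      rw [show m = ((⟨r, hr'⟩ : R) * e * (⟨r, hr'⟩ : R)⁻¹ * e⁻¹)⁻¹ by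
        simp only [m, commutatorElement_def]; group]
      exact inv_mem (hM e he _)
    have h2 := hM₀ m h1 ⟨s, hs'⟩
    rw [hbot0, mem_bot, mul_inv_eq_one, mul_inv_eq_iff_eq_mul] at h2
    exact congrArg Subtype.val h2
  -- a central part `Z` and two further generators
  obtain ⟨Z, A, u, v, hZn, hZW, hZcen, hZp, hAW, hAc, hA2, huW, hvW, hgen, hcl, hWsize⟩ :
      ∃ (Z A : Subgroup G) (u v : G), Z.Normal ∧ Z ≤ W ∧ (∀ z ∈ Z, cen z) ∧ Nat.card Z ≤ p ∧
        A ≤ W ∧ (∀ a ∈ A, ∀ b ∈ A, a * b = b * a) ∧ p ^ 2 ≤ Nat.card A ∧ u ∈ W ∧ v ∈ W ∧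
        W ≤ Z ⊔ closure {u, v} ∧ (∀ a ∈ W, ∀ b ∈ W, ⁅a, b⁆ ∈ Z) ∧
        Nat.card W ≤ p ^ 2 * Nat.card Z := by
    by_cases hab : ∀ a ∈ W, ∀ b ∈ W, a * b = b * a
    · have hc2 : Nat.card W ≤ p ^ 2 := by
        rw [← closure_eq W]; exact hrk _ (fun a ha => ha) hab
      obtain ⟨u, hu, hu1⟩ : ∃ u ∈ W, u ≠ 1 := by
        by_contra! hall
        have hb : W = ⊥ := (eq_bot_iff_forall _).2 hall
        rw [hb, card_bot] at hW2
        exact absurd hW2 (not_le.2 (Nat.one_lt_pow two_ne_zero hpr.one_lt))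
      obtain ⟨v, hv, hvu⟩ : ∃ v ∈ W, v ∉ zpowers u := by
        by_contra! hall
        have h1 := (card_le_of_le hall).trans_eq (Nat.card_zpowers u)
        have h2 : orderOf u ≤ p := Nat.le_of_dvd hpr.pos (orderOf_dvd_of_pow_eq_one hu.2.1)
        have h3 : p < p ^ 2 := lt_self_pow₀ hpr.one_lt (by norm_num)
        omega
      refine ⟨⊥, W, u, v, inferInstance, bot_le, fun z hz r _ => by simp [mem_bot.1 hz],
        by rw [card_bot]; exact hpr.pos, le_rfl, hab, hW2, hu, hv, ?_,
        fun a ha b hb => mem_bot.2 (commutatorElement_eq_one_iff_mul_comm.2 (hab a ha b hb)),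
        by rw [card_bot, mul_one]; exact hc2⟩
      rw [bot_sup_eq]
      set L := closure ({u, v} : Set G)
      have hLW : L ≤ W := (closure_le W).2 (by rintro a (rfl | rfl) <;> assumption)
      have huL : zpowers u ≤ L := zpowers_le.2 (Subgroup.subset_closure (Set.mem_insert u {v}))
      obtain ⟨j, hj⟩ := (hRp.to_le (hLW.trans hWR)).exists_card_eq
      have hlt' : Nat.card (zpowers u) < Nat.card L := by
        refine lt_of_le_of_ne (card_le_of_le huL) fun h => hvu ?_
        rw [eq_of_le_of_card_ge huL h.ge]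
        exact Subgroup.subset_closure (Set.mem_insert_of_mem u (Set.mem_singleton v))
      rw [Nat.card_zpowers, orderOf_eq_prime hu.2.1 hu1, hj] at hlt'
      have hj2 : 2 ≤ j := by
        by_contra hlt2
        exact absurd hlt' (not_lt.2 ((Nat.pow_le_pow_right hpr.pos (by omega : j ≤ 1)).trans
          (pow_one p).le))
      rw [eq_of_le_of_card_ge hLW (by rw [hj]; exact hc2.trans (Nat.pow_le_pow_right hpr.pos hj2))]
    · push Not at hab
      obtain ⟨x, hx, y, hy, hxy⟩ := hab
      let Z : Subgroup G :=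
        { carrier := {z | z ∈ W ∧ cen z}
          one_mem' := ⟨one_mem W, fun r _ => by simp⟩
          mul_mem' := fun {a b} ha hb => ⟨mul_mem ha.1 hb.1, fun r hr' =>
            ((show Commute r a from ha.2 r hr').mul_right (show Commute r b from hb.2 r hr')).eq⟩
          inv_mem' := fun {a} ha => ⟨inv_mem ha.1, fun r hr' =>
            (show Commute r a from ha.2 r hr').inv_right.eq⟩ }
      have hZW : Z ≤ W := fun z hz => hz.1
      set A := closure (insert x (Z : Set G)) with hA
      have hAW : A ≤ W := (closure_le W).2 (by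
        rintro a (rfl | ha)
        exacts [hx, hZW ha])
      have hZA : Z ≤ A := fun z hz => Subgroup.subset_closure (Or.inr hz)
      have hxA : x ∈ A := Subgroup.subset_closure (Or.inl rfl)
      have hAc' : ∀ a ∈ insert x (Z : Set G), ∀ b ∈ insert x (Z : Set G), a * b = b * a := by
        rintro a (rfl | ha) b (rfl | hb)
        · rfl
        · exact hb.2 a hx.1
        · exact (ha.2 _ hx.1).symm
        · exact hb.2 a ha.1.1
      have hA2 : Nat.card A ≤ p ^ 2 := hrk _ (fun a ha => hAW (Subgroup.subset_closure ha)) hAc'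
      haveI := isMulCommutative_closure hAc'
      have hAcomm : ∀ a ∈ A, ∀ b ∈ A, a * b = b * a := fun a ha b hb =>
        congrArg Subtype.val (mul_comm' (⟨a, ha⟩ : A) ⟨b, hb⟩)
      obtain ⟨iA, hiA⟩ := (hRp.to_le (hAW.trans hWR)).exists_card_eq
      obtain ⟨iZ, hiZ⟩ := (hRp.to_le (hZW.trans hWR)).exists_card_eq
      have hclZ : ∀ a ∈ W, ∀ b ∈ W, ⁅a, b⁆ ∈ Z := fun a ha b hb =>
        ⟨mul_mem (mul_mem (mul_mem ha hb) (inv_mem ha)) (inv_mem hb), hcenR a b ha hb⟩
      have hZpos : iZ ≠ 0 := by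
        rintro rfl
        have h := hclZ x hx y hy
        rw [show Z = ⊥ from Subgroup.card_eq_one.1 (by rw [hiZ, pow_zero]), mem_bot,
          commutatorElement_eq_one_iff_mul_comm] at h
        exact hxy h
      have hlt1 : iZ < iA := by
        rw [← Nat.pow_lt_pow_iff_right hpr.one_lt, ← hiA, ← hiZ]
        refine lt_of_le_of_ne (card_le_of_le hZA) fun h => hxy ?_
        rw [← eq_of_le_of_card_ge hZA h.ge] at hxA
        exact (hxA.2 y hy.1).symm
      have hiA2 : iA ≤ 2 := (Nat.pow_le_pow_iff_right hpr.one_lt).1 (hiA ▸ hA2)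
      have hiA' : iA = 2 := by omega
      have hiZ' : iZ = 1 := by omega
      subst hiA' hiZ'
      rw [pow_one] at hiZ
      let θ : W →* Z := MonoidHom.mk' (fun w => ⟨⁅x, (w : G)⁆, hclZ x hx w w.2⟩) fun a b =>
        Subtype.ext (by
          show ⁅x, (a : G) * b⁆ = ⁅x, (a : G)⁆ * ⁅x, (b : G)⁆
          rw [show ⁅x, (a : G) * b⁆ = ⁅x, (a : G)⁆ * ((a : G) * ⁅x, (b : G)⁆ * (a : G)⁻¹) by
            simp only [commutatorElement_def]; group, hcenR x b hx b.2 a a.2.1,
            mul_inv_cancel_right])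
      have hθker : ∀ w : W, w ∈ θ.ker → (w : G) ∈ A := by
        intro w hw
        have hxw : x * w = w * x :=
          commutatorElement_eq_one_iff_mul_comm.1 (congrArg Subtype.val hw)
        have hS : ∀ a ∈ insert (w : G) (insert x (Z : Set G)),
            ∀ b ∈ insert (w : G) (insert x (Z : Set G)), a * b = b * a := by
          rintro a (rfl | rfl | ha) b (rfl | rfl | hb)
          all_goals first
            | rfl
            | exact hxw
            | exact hxw.symm
            | exact hb.2 _ w.2.1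
            | exact (ha.2 _ w.2.1).symm
            | exact hb.2 _ hx.1
            | exact (ha.2 _ hx.1).symm
            | exact hb.2 a ha.1.1
        have h3 := hrk _ (by
          rintro a (rfl | ha)
          exacts [w.2, hAW (Subgroup.subset_closure ha)]) hS
        have hle : A ≤ closure (insert (w : G) (insert x (Z : Set G))) :=
          Subgroup.closure_mono (Set.subset_insert _ _)
        rw [eq_of_le_of_card_ge hle (hiA ▸ h3)]
        exact Subgroup.subset_closure (Or.inl rfl)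
      have hW3 : Nat.card W ≤ p ^ 2 * Nat.card Z := by
        rw [← θ.ker.card_mul_index, index_ker]
        refine Nat.mul_le_mul ?_ θ.range.card_le_card_group
        rw [← hiA]
        exact Nat.card_le_card_of_injective (fun w => (⟨(w.1 : G), hθker w.1 w.2⟩ : A))
          fun a b h => Subtype.ext (Subtype.ext (congrArg Subtype.val h :))
      haveI hZn : Z.Normal := ⟨fun z hz g => ⟨hWn.conj_mem z hz.1 g, hconjC g z hz.2⟩⟩
      refine ⟨Z, A, x, y, hZn, hZW, fun z hz => hz.2, hiZ.le, hAW, hAcomm, hiA.ge, hx, hy, ?_,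
        hclZ, hW3⟩
      set L := Z ⊔ closure ({x, y} : Set G)
      have hxL : x ∈ L := mem_sup_right (Subgroup.subset_closure (Set.mem_insert x {y}))
      have hyL : y ∈ L :=
        mem_sup_right (Subgroup.subset_closure (Set.mem_insert_of_mem x (Set.mem_singleton y)))
      have hLW : L ≤ W := sup_le hZW ((closure_le W).2 (by rintro a (rfl | rfl) <;> assumption))
      have hAL : A ≤ L := (closure_le L).2 (by
        rintro a (rfl | ha)
        exacts [hxL, mem_sup_left ha])
      obtain ⟨iL, hiL⟩ := (hRp.to_le (hLW.trans hWR)).exists_card_eq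
      have hlt2 : Nat.card A < Nat.card L := lt_of_le_of_ne (card_le_of_le hAL) fun h => hxy (by
        rw [← eq_of_le_of_card_ge hAL h.ge] at hyL
        exact hAcomm x hxA y hyL)
      rw [hiA, hiL, Nat.pow_lt_pow_iff_right hpr.one_lt] at hlt2
      rw [eq_of_le_of_card_ge hLW (by
        rw [hiL]
        refine hW3.trans ?_
        rw [hiZ, ← pow_succ]
        exact Nat.pow_le_pow_right hpr.pos (by omega))]
  haveI := hZn
  -- the action on `W / Z`
  let f := QuotientGroup.mk' Z
  let V := W.map f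
  haveI hVn : V.Normal := hWn.map f (QuotientGroup.mk'_surjective Z)
  haveI : IsMulCommutative V := ⟨⟨by
    rintro ⟨_, a, ha, rfl⟩ ⟨_, b, hb, rfl⟩
    refine Subtype.ext (commutatorElement_eq_one_iff_mul_comm.1 ?_)
    show ⁅f a, f b⁆ = 1
    rw [← map_commutatorElement]
    exact (QuotientGroup.eq_one_iff _).2 (hcl a ha b hb)⟩⟩
  letI : CommGroup V := { (inferInstance : Group V) with mul_comm := fun a b => mul_comm' a b }
  have hV : Nat.card V ≤ p ^ 2 := by
    refine Nat.le_of_mul_le_mul_right (?_ : _ * Nat.card Z ≤ _) Nat.card_pos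
    refine le_trans (le_of_eq ?_) hWsize
    have h1 := relIndex_mul_relIndex ⊥ Z W bot_le hZW
    rw [relIndex_bot_left, relIndex_bot_left] at h1
    rw [← h1, mul_comm]
    congr 1
    show Nat.card (W.map f) = _
    rw [← relIndex_ker, QuotientGroup.ker_mk']
  have hVe : ∀ w : V, w ^ p = 1 := by
    rintro ⟨_, a, ha, rfl⟩
    refine Subtype.ext ?_
    show (f a) ^ p = 1
    rw [← map_pow, ha.2.1, map_one]
  let c : G →* MulAut V := (MulAut.conjNormal (H := V)).comp f
  obtain ⟨ρ, hρ⟩ := CfsgLib.OddLocal.exists_matrix_rep' (Γ := G) (Q := V) hV hVe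
    (fun g => (c g).toMonoidHom) (fun w => by simp) (fun g h w => by simp)
  set ν : G →* GL (Fin 2) (ZMod p) := ρ.toHomUnits
  set K := ν.ker with hK
  have hKZ : ∀ g ∈ K, ∀ w ∈ W, ⁅g, w⁆ ∈ Z := by
    intro g hg w hw
    have h := hρ g (congrArg Units.val hg :) ⟨f w, w, hw, rfl⟩
    have h' : f g * f w * (f g)⁻¹ = f w := congrArg Subtype.val h
    refine (QuotientGroup.eq_one_iff _).1 ?_
    show f ⁅g, w⁆ = 1
    rw [map_commutatorElement, commutatorElement_def, h', mul_inv_cancel]
  -- the series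
  set X := R ⊓ centralizer (W : Set G) with hX
  haveI hXn : X.Normal := inferInstance
  have hXp : IsPGroup p X := hRp.to_le inf_le_left
  have hXom : ∀ x ∈ X, x ^ p = 1 → x ∈ A := by
    intro x hx hxp
    haveI hSc : IsMulCommutative (closure (insert x (A : Set G))) := isMulCommutative_closure (by
      rintro a (rfl | ha) b (rfl | hb)
      · rfl
      · exact (mem_centralizer_iff.1 hx.2 b (hAW hb)).symm
      · exact mem_centralizer_iff.1 hx.2 a (hAW ha)
      · exact hAc a ha b hb)
    have hle : A ≤ closure (insert x (A : Set G)) := fun a ha =>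
      Subgroup.subset_closure (Or.inr ha)
    have h2 : Nat.card (closure (insert x (A : Set G))) ≤ p ^ 2 := by
      refine hr _ hSc fun a ha => ?_
      induction ha using Subgroup.closure_induction with
      | mem z hz =>
        rcases hz with rfl | hz
        exacts [hxp, (hAW hz).2.1]
      | one => exact one_pow p
      | mul z w hz hw ihz ihw =>
        rw [(show Commute z w from congrArg Subtype.val
          (mul_comm' (⟨z, hz⟩ : closure (insert x (A : Set G))) ⟨w, hw⟩)).mul_pow, ihz, ihw,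
          one_mul]
      | inv z _ ihz => rw [inv_pow, ihz, inv_one]
    rw [eq_of_le_of_card_ge hle (h2.trans hA2)]
    exact Subgroup.subset_closure (Or.inl rfl)
  have hA2' : Nat.card A ≤ p ^ 2 := by
    rw [← closure_eq A]; exact hrk _ (fun a ha => hAW ha) hAc
  have hPX : P X := by
    refine central_omega_steps _ X hXn rfl hp hXp
      (fun x hx hxp y hy => (mem_centralizer_iff.1 hy.2 x (hAW (hXom x hx hxp))).symm) ?_ P hbot
      hstep
    exact le_trans (Nat.card_le_card_of_injective (fun x => (⟨x.1, hXom x.1 x.2.1 x.2.2⟩ : A))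
      fun a b h => Subtype.ext (congrArg Subtype.val h :)) hA2'
  haveI : (R ⊓ K).Normal := inferInstance
  have hne : ∀ S T : Subgroup G, S.relIndex T ≠ 0 := fun S T => index_ne_zero_of_finite
  have hP1 : P (R ⊓ K ⊔ X) := by
    refine hstep X _ hXn inferInstance le_sup_right (hsmall _ (hne _ _) ?_) hPX
    rw [relIndex_sup_right]
    set S := R ⊓ K
    haveI : IsMulCommutative Z := ⟨⟨fun a b => Subtype.ext (hZcen b b.2 a (hWR (hZW a.2)))⟩⟩
    have hz : ∀ g ∈ R, ∀ z ∈ Z, g * z = z * g := fun g hg z hz' => hZcen z hz' g hg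
    let θ : S →* Z × Z := MonoidHom.mk'
      (fun g => (⟨⁅(g : G), u⁆, hKZ g g.2.2 u huW⟩, ⟨⁅(g : G), v⁆, hKZ g g.2.2 v hvW⟩))
      fun g h => by
        have key : ∀ w ∈ W, ⁅(g : G) * h, w⁆ = ⁅(g : G), w⁆ * ⁅(h : G), w⁆ := fun w hw => by
          have hg := hKZ g g.2.2 w hw
          have hh := hKZ h h.2.2 w hw
          rw [show ⁅(g : G) * h, w⁆ = (g : G) * ⁅(h : G), w⁆ * (g : G)⁻¹ * ⁅(g : G), w⁆ by
            simp only [commutatorElement_def]; group, hz g g.2.1 _ hh, mul_inv_cancel_right,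
            hz _ (hWR (hZW hh)) _ hg]
        refine Prod.ext (Subtype.ext ?_) (Subtype.ext ?_)
        · exact key u huW
        · exact key v hvW
    have hker : θ.ker ≤ X.subgroupOf S := by
      intro g hg
      refine ⟨g.2.1, ?_⟩
      have h1 : ⁅(g : G), u⁆ = 1 := congrArg Subtype.val (congrArg Prod.fst hg :)
      have h2 : ⁅(g : G), v⁆ = 1 := congrArg Subtype.val (congrArg Prod.snd hg :)
      have hle : W ≤ centralizer ({(g : G)} : Set G) := by
        refine hgen.trans (sup_le (fun z hz' => ?_) ((closure_le _).2 ?_))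
        · exact mem_centralizer_singleton_iff.2 (hz g g.2.1 z hz').symm
        · rintro w (rfl | rfl)
          · exact mem_centralizer_singleton_iff.2 (commutatorElement_eq_one_iff_mul_comm.1 h1).symm
          · exact mem_centralizer_singleton_iff.2 (commutatorElement_eq_one_iff_mul_comm.1 h2).symm
      exact mem_centralizer_iff.2 fun w hw => mem_centralizer_singleton_iff.1 (hle hw)
    refine (Nat.le_of_dvd (Nat.pos_of_ne_zero index_ne_zero_of_finite)
      (index_dvd_of_le hker)).trans ?_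
    rw [index_ker]
    refine θ.range.card_le_card_group.trans ?_
    rw [Nat.card_prod, pow_two]
    exact Nat.mul_le_mul hZp hZp
  refine hstep (R ⊓ K ⊔ X) R inferInstance hRn (sup_le inf_le_left inf_le_left) ?_ hP1
  refine fun hd => hgl _ ?_ (hd.trans
    (relIndex_dvd_of_le_left (L := R) (le_sup_left : R ⊓ K ≤ R ⊓ K ⊔ X)))
  rw [inf_comm, inf_relIndex_right, hK, relIndex_ker]
  exact card_subgroup_dvd_card _

/-- Chief `p`-factors of a `p`-solvable group of `p`-rank at most two have order at most `p ^ 2`. -/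
theorem chief_factor_small {G : Type u} [Group G] [Finite G] (hp : p ≠ 2)
    (hs : Cfsg.IsPSolvable p G) (hr : Cfsg.PRankLE p 2 G) (H K : Subgroup G) [H.Normal] [K.Normal]
    (hKH : K < H) (hpow : ∃ n : ℕ, K.relIndex H = p ^ n)
    (hchief : ∀ L : Subgroup G, L.Normal → K ≤ L → L ≤ H → L = K ∨ L = H) :
    K.relIndex H = p ∨ K.relIndex H = p ^ 2 := by
  have hpr := (Fact.out : p.Prime)
  obtain ⟨n, hn⟩ := hpow
  by_contra hcon
  push Not at hcon
  have hn0 : n ≠ 0 := by
    rintro rfl
    rw [pow_zero, relIndex_eq_one] at hn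
    exact absurd hn hKH.not_ge
  have hn3 : 3 ≤ n := by
    by_contra hlt
    have h12 : n = 1 ∨ n = 2 := by omega
    rcases h12 with rfl | rfl
    · exact hcon.1 (by rw [hn, pow_one])
    · exact hcon.2 hn
  have hstep : StepClosed p (fun N : Subgroup G => H ⊓ N ≤ K) := by
    intro N M hN hM hNM hd hP
    haveI := hN
    haveI := hM
    rcases hchief ((H ⊓ M) ⊔ K) inferInstance le_sup_right (sup_le inf_le_left hKH.le) with h | h
    · exact le_sup_left.trans h.le
    exfalso
    have h1 : K.relIndex H ∣ (N ⊓ H).relIndex (M ⊓ H) := by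
      conv_lhs => rw [← h]
      rw [relIndex_sup_right, inf_comm H M]
      have hNK : N ⊓ H ≤ K := by rw [inf_comm]; exact hP
      exact relIndex_dvd_of_le_left (L := M ⊓ H) hNK
    exact hd ((pow_dvd_pow p hn3).trans (hn ▸ h1.trans CfsgLib.PLength.relIndex_inf_dvd))
  have hbot : H ⊓ (⊥ : Subgroup G) ≤ K := by rw [inf_bot_eq]; exact bot_le
  set O := Cfsg.pPrimeCore p G
  haveI hOn : O.Normal := CfsgLib.Solvable.pPrimeCore_normal p G
  have hcop : (Nat.card O).Coprime p := CfsgLib.Comp.coprime_card_pPrimeCore p G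
  have hO : H ⊓ O ≤ K := by
    refine hstep ⊥ O inferInstance hOn bot_le ?_ hbot
    rw [relIndex_bot_left]
    intro hd
    exact (Nat.Prime.coprime_iff_not_dvd hpr).1 hcop.symm ((dvd_pow_self p (by norm_num)).trans hd)
  have htop := rankTwo_steps hp (CfsgLib.StructC.isPSolvable_quotient O hs)
    (CfsgLib.Comp.pPrimeCore_quotient_eq_bot p G) (CfsgLib.OddLocal.pRankLE_quotient O hcop hr)
    (fun S => H ⊓ S.comap (QuotientGroup.mk' O) ≤ K)
    (by show H ⊓ (⊥ : Subgroup (G ⧸ O)).comap (QuotientGroup.mk' O) ≤ K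
        rw [MonoidHom.comap_bot, QuotientGroup.ker_mk']; exact hO)
    (hstep.comap O)
  rw [comap_top, inf_top_eq] at htop
  exact hKH.not_ge htop

end CfsgLib.PGroup
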