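import Cfsg.Agent.Lib.Coprime.Action
import Cfsg.Agent.Lib.Transfer.ClassTwo
import Cfsg.Agent.Lib.Transfer.Frobenius

/-!
A `p'`-element acting non-trivially on a `p`-group acts non-trivially on some invariant subgroup
`Q = [Q, g]` of exponent `p` (`4` if `p = 2`); `p`-nilpotency criteria by fusion and centrality
of small elements.
-/

set_option autoImplicit false
set_option linter.style.haveILetI false

namespace CfsgLib.PGroup

open Subgroup
open scoped commutatorElement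

variable {G : Type*} [Group G] [Finite G] {p : ℕ} [Fact p.Prime]

theorem exists_small_detector {D : Subgroup G} (hD : IsPGroup p D) {g : G}
    (hg : g ∈ Subgroup.normalizer (D : Set G)) (hgp : (orderOf g).Coprime p)
    (hgc : g ∉ centralizer (D : Set G)) :
    ∃ Q : Subgroup G, Q ≤ D ∧ Q ≠ ⊥ ∧ g ∈ Subgroup.normalizer (Q : Set G) ∧
      ⁅Q, zpowers g⁆ = Q ∧ ∀ x ∈ Q, x ^ p = 1 ∨ (p = 2 ∧ x ^ 4 = 1) := by
  have hp := (Fact.out : p.Prime)
  set A := zpowers g with hA
  obtain ⟨Q, hQD', hQ⟩ := exists_minimal_le_of_wellFoundedLT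
    (P := fun Q : Subgroup G => Q ≤ D ∧ A ≤ Subgroup.normalizer (Q : Set G) ∧ ⁅Q, A⁆ ≠ ⊥) D
    ⟨le_rfl, zpowers_le.2 hg, fun h => hgc (by
      rw [commutator_comm, commutator_eq_bot_iff_le_centralizer] at h
      exact h (mem_zpowers g))⟩
  obtain ⟨hQD, hQA, hQne⟩ := hQ.prop
  have hmin : ∀ R : Subgroup G, R ≤ Q → A ≤ Subgroup.normalizer (R : Set G) → R ≠ Q → ⁅R, A⁆ = ⊥ := by
    intro R hR hRA hne
    by_contra h
    exact hne (le_antisymm hR (hQ.le_of_le ⟨hR.trans hQD, hRA, h⟩ hR))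
  have hQp : IsPGroup p Q := hD.to_le hQD
  have hcop : (Nat.card A).Coprime (Nat.card Q) := by
    obtain ⟨k, hk⟩ := hQp.exists_card_eq
    rw [hA, Nat.card_zpowers, hk]
    exact Nat.Coprime.pow_right _ hgp
  have hQeq : ⁅Q, A⁆ = Q := by
    by_contra hne
    refine hQne (CfsgLib.Coprime.commutator_eq_bot_of_commutator_commutator hQA hcop
      (Or.inr (by haveI := hQp.isNilpotent; infer_instance)) ?_)
    exact hmin _ (le_normalizer_iff_commutator_le_left.1 hQA)
      (normalizer_commutator_ge_right Q A) hne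
  have hQbot : Q ≠ ⊥ := fun h => hQne (by rw [h, commutator_bot_left])
  -- the Frattini subgroup of `Q` is central in `Q`
  set F := (frattini Q).map Q.subtype with hF
  have hFQ : F ≤ Q := map_subtype_le _
  haveI : (frattini Q).Characteristic := frattini_characteristic
  have hFA : A ≤ Subgroup.normalizer (F : Set G) := by
    intro a ha
    let e : Q ≃* Q :=
      { toFun := fun x => ⟨a * x * a⁻¹, ((mem_normalizer_iff.1 (hQA ha)) x).1 x.2⟩
        invFun := fun x => ⟨a⁻¹ * x * a, by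
          simpa using ((mem_normalizer_iff.1 (hQA (inv_mem ha))) x).1 x.2⟩
        left_inv := fun x => Subtype.ext (by simp [mul_assoc])
        right_inv := fun x => Subtype.ext (by simp [mul_assoc])
        map_mul' := fun x y => Subtype.ext (by simp [mul_assoc]) }
    have he : (frattini Q).comap e.toMonoidHom = frattini Q := Characteristic.fixed inferInstance e
    rw [mem_normalizer_iff]
    intro x
    constructor
    · rintro ⟨y, hy, rfl⟩
      rw [← he] at hy
      exact ⟨e y, hy, rfl⟩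
    · rintro ⟨y, hy, hyx⟩
      refine ⟨e.symm y, ?_, ?_⟩
      · rw [← he]
        show e (e.symm y) ∈ frattini Q
        rw [e.apply_symm_apply]; exact hy
      · show a⁻¹ * (y : G) * a = x
        rw [show (y : G) = a * x * a⁻¹ from hyx]; group
  have hFne : F ≠ Q := by
    intro h
    haveI : Nontrivial Q := (nontrivial_iff_ne_bot Q).2 hQbot
    have : frattini Q = ⊤ := map_injective Q.subtype_injective
      (by rw [← MonoidHom.range_eq_map, range_subtype]; exact h)
    have h1 : (⊥ : Subgroup Q) = ⊤ := frattini_nongenerating (by rw [this, bot_sup_eq])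
    exact bot_ne_top h1
  have hFA1 : ⁅F, A⁆ = ⊥ := hmin F hFQ hFA hFne
  have hFQ1 : ⁅⁅F, Q⁆, A⁆ = ⊥ := by
    refine le_bot_iff.1 (hFA1 ▸ commutator_mono ?_ le_rfl)
    rw [Subgroup.commutator_le]
    rintro _ ⟨y, hy, rfl⟩ q hq
    refine ⟨⁅y, ⟨q, hq⟩⁆, ?_, rfl⟩
    have h := mul_mem hy ((inferInstance : (frattini Q).Normal).conj_mem _ (inv_mem hy) ⟨q, hq⟩)
    simpa [commutatorElement_def, mul_assoc] using h
  have hFcent : ⁅F, Q⁆ = ⊥ := by
    have h1 : ⁅⁅A, F⁆, Q⁆ = ⊥ := by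
      rw [commutator_comm A F, hFA1, commutator_bot_left]
    have h2 := commutator_commutator_eq_bot_of_rotate (H₁ := Q) (H₂ := A) (H₃ := F) h1 hFQ1
    rw [hQeq, commutator_comm] at h2
    exact h2
  have hzQ : ∀ u : Q, u ∈ frattini Q → u ∈ center Q := by
    intro u hu
    rw [mem_center_iff]
    intro w
    have h : ⁅(u : G), (w : G)⁆ ∈ (⁅F, Q⁆ : Subgroup G) :=
      commutator_mem_commutator ⟨u, hu, rfl⟩ w.2
    rw [hFcent, mem_bot, commutatorElement_eq_one_iff_mul_comm] at h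
    exact Subtype.ext h.symm
  have hc : ∀ x y : Q, ⁅x, y⁆ ∈ center Q := fun x y =>
    hzQ _ (CfsgLib.Transfer.commutatorElement_mem_frattini hQp x y)
  have hcp : ∀ x y : Q, ⁅x, y⁆ ^ p = 1 := fun x y => by
    rw [← CfsgLib.Transfer.commutatorElement_pow_left hc, commutatorElement_eq_one_iff_mul_comm]
    exact ((mem_center_iff.1 (hzQ _ (CfsgLib.Transfer.pow_mem_frattini hQp x))) y).symm
  obtain ⟨e, he, he'⟩ : ∃ e : ℕ, (e = p ∧ p ≠ 2 ∨ e = 4 ∧ p = 2) ∧ p ∣ e := by
    rcases eq_or_ne p 2 with h | h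
    · exact ⟨4, Or.inr ⟨rfl, h⟩, h ▸ ⟨2, rfl⟩⟩
    · exact ⟨p, Or.inl ⟨rfl, h⟩, dvd_rfl⟩
  have hmul : ∀ x y : Q, (x * y) ^ e = x ^ e * y ^ e := by
    intro x y
    rw [CfsgLib.Transfer.mul_pow_class_two hc]
    obtain ⟨k, hk⟩ : p ∣ e.choose 2 := by
      rcases he with ⟨rfl, h2⟩ | ⟨rfl, h2⟩
      · exact hp.dvd_choose_self (by norm_num) (lt_of_le_of_ne hp.two_le (Ne.symm h2))
      · subst h2; exact ⟨3, by decide⟩
    rw [hk, pow_mul, hcp, one_pow, mul_one]
  have hpowF : ∀ x : Q, ((x ^ e : Q) : G) ∈ F := fun x => by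
    refine ⟨x ^ e, ?_, rfl⟩
    obtain ⟨k, hk⟩ := he'
    rw [hk, pow_mul]
    exact pow_mem (CfsgLib.Transfer.pow_mem_frattini hQp x) k
  have hgen : ∀ x : G, x ∈ Q → ∀ a ∈ A, ⁅x, a⁆ ^ e = 1 := by
    intro x hx a ha
    let y : Q := ⟨a * x⁻¹ * a⁻¹, ((mem_normalizer_iff.1 (hQA ha)) _).1 (inv_mem hx)⟩
    have h1 : ⁅x, a⁆ = ((⟨x, hx⟩ * y : Q) : G) := by
      show _ = x * (a * x⁻¹ * a⁻¹)
      rw [commutatorElement_def]; group
    have h2 := congrArg Subtype.val (hmul ⟨x, hx⟩ y)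
    rw [h1]
    rw [← SubmonoidClass.coe_pow, h2]
    show x ^ e * (a * x⁻¹ * a⁻¹) ^ e = 1
    rw [conj_pow, inv_pow]
    have h3 : ⁅x ^ e, a⁆ ∈ ⁅F, A⁆ := commutator_mem_commutator (by
      simpa using hpowF ⟨x, hx⟩) ha
    rw [hFA1, mem_bot, commutatorElement_def] at h3
    rw [← h3]; group
  refine ⟨Q, hQD, hQbot, hQA (mem_zpowers g), hQeq, fun x hx => ?_⟩
  have hx' : x ^ e = 1 := by
    have hx0 := hx
    rw [← hQeq, Subgroup.commutator_def] at hx
    suffices h : x ∈ Q ∧ x ^ e = 1 from h.2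
    clear hx0
    induction hx using Subgroup.closure_induction with
    | mem z hz =>
      obtain ⟨u, hu, a, ha, rfl⟩ := hz
      exact ⟨hQeq.le (commutator_mem_commutator hu ha), hgen u hu a ha⟩
    | one => exact ⟨one_mem Q, one_pow e⟩
    | mul u w _ _ hu hw =>
      refine ⟨mul_mem hu.1 hw.1, ?_⟩
      have h2 := congrArg Subtype.val (hmul ⟨u, hu.1⟩ ⟨w, hw.1⟩)
      simp only [SubmonoidClass.coe_pow, Subgroup.coe_mul] at h2
      rw [h2, hu.2, hw.2, one_mul]
    | inv u _ hu => exact ⟨inv_mem hu.1, by rw [inv_pow, hu.2, inv_one]⟩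
  rcases he with ⟨rfl, -⟩ | ⟨rfl, h2⟩
  · exact Or.inl hx'
  · exact Or.inr ⟨h2, hx'⟩

/-- A Sylow subgroup controlling fusion of its small elements has a normal complement. -/
theorem hasNormalPComplement_of_small_fusion (P : Sylow p G)
    (h : ∀ a ∈ (P : Subgroup G), (a ^ p = 1 ∨ (p = 2 ∧ a ^ 4 = 1)) → ∀ g : G,
      g * a * g⁻¹ ∈ (P : Subgroup G) → ∃ x ∈ (P : Subgroup G), g * a * g⁻¹ = x * a * x⁻¹) :
    Cfsg.HasNormalPComplement p G := by
  rw [CfsgLib.Transfer.hasNormalPComplement_iff_frobenius]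
  intro D hD g hg hgp
  by_contra hgc
  obtain ⟨Q, hQD, hQne, hgQ, hQeq, hsmall⟩ := exists_small_detector hD hg hgp hgc
  obtain ⟨S, hS⟩ := (hD.to_le hQD).exists_le_sylow
  obtain ⟨t, ht⟩ := MulAction.exists_smul_eq G S P
  set f := (MulAut.conj t).toMonoidHom
  have hQP : Q.map f ≤ (P : Subgroup G) := by
    rw [← ht, Sylow.coe_subgroup_smul]
    exact map_mono hS
  haveI := P.2.isNilpotent
  have hbot : Q.map f = ⊥ := by
    refine CfsgLib.Transfer.eq_bot_of_le_commutator (K := (P : Subgroup G)) hQP ?_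
    conv_lhs => rw [← hQeq]
    rw [map_commutator, Subgroup.commutator_le]
    rintro a ha b ⟨c, hc, rfl⟩
    have hb : ∀ u ∈ Q.map f, f c * u * (f c)⁻¹ ∈ Q.map f := by
      rintro _ ⟨v, hv, rfl⟩
      rw [← map_mul, ← map_inv, ← map_mul]
      exact mem_map_of_mem f ((mem_normalizer_iff.1 (zpowers_le.2 hgQ hc) v).1 hv)
    have hsm : a⁻¹ ^ p = 1 ∨ (p = 2 ∧ a⁻¹ ^ 4 = 1) := by
      obtain ⟨v, hv, rfl⟩ := ha
      rcases hsmall v hv with h1 | ⟨h1, h2⟩
      · exact Or.inl (by rw [inv_pow, ← map_pow, h1, map_one, inv_one])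
      · exact Or.inr ⟨h1, by rw [inv_pow, ← map_pow, h2, map_one, inv_one]⟩
    obtain ⟨x, hx, he⟩ := h a⁻¹ (inv_mem (hQP ha)) hsm (f c) (hQP (hb _ (inv_mem ha)))
    have heq : ⁅a, f c⁆ = ⁅a, x⁆ := by
      simp only [commutatorElement_def, mul_assoc] at he ⊢
      rw [he]
    rw [heq]
    exact commutator_mem_commutator ha hx
  exact hQne ((map_eq_bot_iff_of_injective Q (MulAut.conj t).injective).1 hbot)

/-- If the small elements lie in some term of the upper central series, `G` is `p`-nilpotent. -/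
theorem hasNormalPComplement_of_small_central (n : ℕ)
    (h : ∀ a : G, (a ^ p = 1 ∨ (p = 2 ∧ a ^ 4 = 1)) → a ∈ Subgroup.upperCentralSeries G n) :
    Cfsg.HasNormalPComplement p G := by
  rw [CfsgLib.Transfer.hasNormalPComplement_iff_frobenius]
  intro D hD g hg hgp
  by_contra hgc
  obtain ⟨Q, -, hQne, -, hQeq, hsmall⟩ := exists_small_detector hD hg hgp hgc
  have key : ∀ k, Q ≤ Subgroup.upperCentralSeries G k → Q = ⊥ := by
    intro k
    induction k with
    | zero =>
      intro h0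
      rw [Subgroup.upperCentralSeries_zero] at h0
      exact le_bot_iff.1 h0
    | succ k ih =>
      intro hk
      refine ih ?_
      rw [← hQeq, Subgroup.commutator_le]
      intro x hx a _
      exact Subgroup.mem_upperCentralSeries_succ_iff.1 (hk hx) a
  exact hQne (key n fun x hx => h x (hsmall x hx))

end CfsgLib.PGroup
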