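import Cfsg.Agent.Lib.PGroup.AnisotropicPair
import Cfsg.Agent.Lib.Transfer.PGroupNormal
import Cfsg.Agent.Lib.StructC.BurnsideBasis
import Cfsg.Agent.Lib.Invol.HigmanTwo

/-!
The automorphism group of a 2-group with exactly three involutions is solvable.
-/

set_option autoImplicit false
set_option linter.style.haveILetI false

namespace CfsgLib.PGroup.ThreeInv

universe u

open Subgroup
open scoped commutatorElement

/-- Solvability of `Aut` is inherited from a self-centralizing characteristic subgroup. -/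
theorem solvable_of_char {X : Type u} [Group X] (H : Subgroup X) [hH : H.Characteristic]
    (hcc : centralizer (H : Set X) ≤ H) (hs : Group.IsSolvable (MulAut H)) :
    Group.IsSolvable (MulAut X) := by
  have hmem : ∀ (g : MulAut X) (x : X), x ∈ H ↔ g x ∈ H := fun g x => by
    conv_lhs => rw [← hH.fixed g]
    rfl
  let f : MulAut X →* MulAut H :=
    { toFun := fun g =>
        { toEquiv := g.toEquiv.subtypeEquiv (hmem g)
          map_mul' := fun a b => Subtype.ext (g.map_mul a.1 b.1) }
      map_one' := rfl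
      map_mul' := fun _ _ => rfl }
  refine Aniso.solvable_of_ker f ?_ inferInstance
  have hfix : ∀ g : f.ker, ∀ c ∈ H, (g : MulAut X) c = c := fun g c hc =>
    congrArg Subtype.val (MulEquiv.congr_fun (MonoidHom.mem_ker.1 g.2) (⟨c, hc⟩ : H))
  have hd : ∀ g : f.ker, ∀ x : X, x⁻¹ * (g : MulAut X) x ∈ centralizer (H : Set X) := by
    intro g x
    refine mem_centralizer_iff.2 fun c hc => ?_
    have hn : x * c * x⁻¹ ∈ H := (normal_of_characteristic H).conj_mem c hc x
    have e := hfix g _ hn
    rw [map_mul, map_mul, map_inv, hfix g c hc] at e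
    calc c * (x⁻¹ * (g : MulAut X) x) = x⁻¹ * (x * c * x⁻¹) * (g : MulAut X) x := by group
      _ = x⁻¹ * ((g : MulAut X) x * c * ((g : MulAut X) x)⁻¹) * (g : MulAut X) x := by rw [e]
      _ = x⁻¹ * (g : MulAut X) x * c := by group
  refine Group.isSolvable_of_comm fun g h => ?_
  refine Subtype.ext (MulEquiv.ext fun x => ?_)
  show (g : MulAut X) ((h : MulAut X) x) = (h : MulAut X) ((g : MulAut X) x)
  have key : ∀ g h : f.ker, (g : MulAut X) ((h : MulAut X) x) =
      x * ((x⁻¹ * (g : MulAut X) x) * (x⁻¹ * (h : MulAut X) x)) := by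
    intro g h
    conv_lhs => rw [show (h : MulAut X) x = x * (x⁻¹ * (h : MulAut X) x) by group, map_mul,
      hfix g _ (hcc (hd h x))]
    group
  rw [key, key, mem_centralizer_iff.1 (hd h x) _ (hcc (hd g x))]

variable {C : Type u} [Group C] [Finite C]

/-- The core case: squares and involutions are central. -/
theorem solvable_of_sq_central (h2 : IsPGroup 2 C) (hsq : ∀ x : C, x * x ∈ center C)
    (hinv : ∀ x : C, x * x = 1 → x ∈ center C)
    (h4 : Nat.card {x : C // x * x = 1} ≤ 4) : Group.IsSolvable (MulAut C) := by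
  classical
  let _ : CommGroup (center C) :=
    { (inferInstance : Group (center C)) with
      mul_comm := fun a b => Subtype.ext (mem_center_iff.1 b.2 a.1) }
  set S : Subgroup (center C) := (powMonoidHom 2).range with hS
  let Y := center C ⧸ S
  let _ : CommGroup Y := QuotientGroup.Quotient.commGroup S
  have hcomm : ∀ x y : C, ⁅x, y⁆ ∈ center C := by
    intro x y
    rw [show ⁅x, y⁆ = (x * y) * (x * y) * (y⁻¹ * (x⁻¹ * x⁻¹) * y) * (y⁻¹ * y⁻¹) by
      simp only [commutatorElement_def]; group]
    exact mul_mem (mul_mem (hsq _) ((inferInstance : (center C).Normal).conj_mem' _ (hsq x⁻¹) y))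
      (hsq y⁻¹)
  have hce : ∀ x y g : C, Commute ⁅x, y⁆ g := fun x y g => (mem_center_iff.1 (hcomm x y) g).symm
  let W := C ⧸ center C
  let _ : CommGroup W :=
    { (inferInstance : Group W) with
      mul_comm := fun a b => by
        obtain ⟨a, rfl⟩ := QuotientGroup.mk_surjective a
        obtain ⟨b, rfl⟩ := QuotientGroup.mk_surjective b
        rw [← QuotientGroup.mk_mul, ← QuotientGroup.mk_mul, QuotientGroup.eq]
        have h := hcomm b⁻¹ a⁻¹
        rwa [show (a * b)⁻¹ * (b * a) = ⁅b⁻¹, a⁻¹⁆ by simp only [commutatorElement_def]; group] }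
  let π : center C →* Y := QuotientGroup.mk' S
  let q0 : C → Y := fun x => π ⟨x * x, hsq x⟩
  let e0 : C → C → Y := fun x y => π ⟨⁅y, x⁆, hcomm y x⟩
  have hq0 : ∀ x y, q0 (x * y) = q0 x * q0 y * e0 x y := by
    intro x y
    show π _ = π _ * π _ * π _
    rw [← map_mul, ← map_mul]
    exact congrArg π (Subtype.ext (Invol.mul_sq_of_commute (hce _ _ _) (hce _ _ _)))
  have he0 : ∀ x y z, e0 (x * y) z = e0 x z * e0 y z := by
    intro x y z
    show π _ = π _ * π _
    rw [← map_mul]
    exact congrArg π (Subtype.ext (Invol.commutator_mul_right_of_central (hce z y)))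
  have hYsq : ∀ y : Y, y * y = 1 := by
    intro y
    obtain ⟨z, rfl⟩ := QuotientGroup.mk_surjective y
    rw [← QuotientGroup.mk_mul, QuotientGroup.eq_one_iff]
    exact ⟨z, pow_two z⟩
  have hwd : ∀ a b : C, a⁻¹ * b ∈ center C → q0 a = q0 b := by
    intro a b hab
    have h1 : q0 (a⁻¹ * b) = 1 :=
      (QuotientGroup.eq_one_iff _).2 ⟨⟨_, hab⟩, Subtype.ext (pow_two _)⟩
    have h2 : e0 a (a⁻¹ * b) = 1 := by
      show π _ = 1
      convert map_one π
      exact commutatorElement_eq_one_iff_mul_comm.2 (mem_center_iff.1 hab a).symm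
    conv_rhs => rw [show b = a * (a⁻¹ * b) by group, hq0, h1, h2, mul_one, mul_one]
  let q : W → Y := Quotient.lift q0 fun a b hab => hwd a b (QuotientGroup.leftRel_apply.1 hab)
  have hqmk : ∀ x : C, q (x : W) = q0 x := fun _ => rfl
  have hanis : ∀ x : C, q0 x = 1 → x ∈ center C := by
    intro x hx
    obtain ⟨z, hz⟩ := (QuotientGroup.eq_one_iff _).1 hx
    have hzx : (z : C) ^ 2 = x * x := congrArg Subtype.val hz
    have : x * (z : C)⁻¹ ∈ center C := hinv _ <| by
      calc x * (z : C)⁻¹ * (x * (z : C)⁻¹) = x * ((z : C)⁻¹ * x) * (z : C)⁻¹ := by group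
        _ = x * (x * (z : C)⁻¹) * (z : C)⁻¹ := by rw [mem_center_iff.1 (inv_mem z.2) x]
        _ = (x * x) * ((z : C) ^ 2)⁻¹ := by group
        _ = 1 := by rw [hzx, mul_inv_cancel]
    simpa using mul_mem this z.2
  have hcardY : Nat.card Y ≤ 4 := by
    have h1 := S.index_mul_card
    have h2 := (powMonoidHom 2 : center C →* center C).ker.index_mul_card
    rw [index_ker, ← h1, mul_comm S.index] at h2
    have h3 : Nat.card Y = Nat.card (powMonoidHom 2 : center C →* center C).ker :=
      (Nat.eq_of_mul_eq_mul_left Nat.card_pos h2).symm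
    rw [h3]
    refine le_trans (Nat.card_le_card_of_injective
      (fun z => (⟨z.1.1, by
        have := congrArg Subtype.val (MonoidHom.mem_ker.1 z.2)
        rw [← pow_two]; exact this⟩ : {x : C // x * x = 1})) fun a b h => ?_) h4
    exact Subtype.ext (Subtype.ext (congrArg (fun w : {x : C // x * x = 1} => w.1) h))
  let D : Aniso.Datum W Y :=
    { q := q
      sqW := fun x => by
        obtain ⟨x, rfl⟩ := QuotientGroup.mk_surjective x
        exact (QuotientGroup.eq_one_iff _).2 (hsq x)
      sqY := hYsq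
      q_one := by
        show q ((1 : C) : W) = 1
        rw [hqmk]
        exact (QuotientGroup.eq_one_iff _).2 ⟨1, Subtype.ext (by simp)⟩
      aniso := fun x hx => by
        obtain ⟨x, rfl⟩ := QuotientGroup.mk_surjective x
        exact (QuotientGroup.eq_one_iff _).2 (hanis x hx)
      bil := fun x y z => by
        obtain ⟨x, rfl⟩ := QuotientGroup.mk_surjective x
        obtain ⟨y, rfl⟩ := QuotientGroup.mk_surjective y
        obtain ⟨z, rfl⟩ := QuotientGroup.mk_surjective z
        show q0 (x * y * z) * q0 (x * y) * q0 (x * z) * q0 (y * z) * (q0 x * q0 y * q0 z) = 1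
        rw [hq0 (x * y), hq0 x y, hq0 x z, hq0 y z, he0]
        calc _ = (q0 x * q0 x) * (q0 x * q0 x) * ((q0 y * q0 y) * (q0 y * q0 y)) *
              ((q0 z * q0 z) * (q0 z * q0 z)) * (e0 x y * e0 x y) * (e0 x z * e0 x z) *
              (e0 y z * e0 y z) := by ac_rfl
          _ = 1 := by simp only [hYsq, one_mul]
      card_le := hcardY }
  have hcen : ∀ (g : MulAut C) (x : C), x ∈ center C ↔ g x ∈ center C := fun g x => by
    conv_lhs => rw [← (inferInstance : (center C).Characteristic).fixed g]
    rfl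
  -- action on `Y`
  let gz : MulAut C → (center C →* center C) := fun g =>
    { toFun := fun z => ⟨g z.1, (hcen g z.1).1 z.2⟩
      map_one' := Subtype.ext (map_one g)
      map_mul' := fun a b => Subtype.ext (map_mul g a.1 b.1) }
  have hgzS : ∀ g, S ≤ S.comap (gz g) := by
    rintro g _ ⟨w, rfl⟩
    exact ⟨gz g w, (map_pow (gz g) w 2).symm⟩
  let gy : MulAut C → (Y →* Y) := fun g => QuotientGroup.map S S (gz g) (hgzS g)
  have gy_mk : ∀ g z, gy g (π z) = π (gz g z) := fun g z => rfl
  have gy_mul : ∀ g h y, gy (g * h) y = gy g (gy h y) := by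
    intro g h y
    obtain ⟨z, rfl⟩ := QuotientGroup.mk_surjective y
    rfl
  have gy_one : ∀ y, gy 1 y = y := by
    intro y
    obtain ⟨z, rfl⟩ := QuotientGroup.mk_surjective y
    rfl
  let fY : MulAut C →* Equiv.Perm Y :=
    { toFun := fun g =>
        { toFun := gy g
          invFun := gy g⁻¹
          left_inv := fun y => by rw [← gy_mul, inv_mul_cancel, gy_one]
          right_inv := fun y => by rw [← gy_mul, mul_inv_cancel, gy_one] }
      map_one' := Equiv.ext gy_one
      map_mul' := fun g h => Equiv.ext fun y => gy_mul g h y }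
  haveI := Aniso.solvable_perm_le_four hcardY
  refine Aniso.solvable_of_ker fY ?_ inferInstance
  -- action on `W`
  have hmapW : ∀ g : MulAut C, (center C).map (g : C →* C) = center C := fun g => by
    ext x
    rw [mem_map]
    exact ⟨fun ⟨y, hy, e⟩ => e ▸ (hcen g y).1 hy,
      fun hx => ⟨g.symm x, (hcen g _).2 (by simpa using hx), by simp⟩⟩
  let gw : fY.ker → MulAut W := fun g =>
    QuotientGroup.congr (center C) (center C) (g : MulAut C) (hmapW _)
  have hiso : ∀ g : fY.ker, gw g ∈ D.iso := by
    intro g x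
    obtain ⟨x, rfl⟩ := QuotientGroup.mk_surjective x
    show q0 ((g : MulAut C) x) = q0 x
    have h := Equiv.congr_fun (MonoidHom.mem_ker.1 g.2) (q0 x)
    refine Eq.trans (congrArg π (Subtype.ext ?_)) h
    exact (map_mul (g : MulAut C) x x).symm
  let fW : fY.ker →* D.iso :=
    { toFun := fun g => ⟨gw g, hiso g⟩
      map_one' := Subtype.ext (MulEquiv.ext fun x => by
        obtain ⟨x, rfl⟩ := QuotientGroup.mk_surjective x
        rfl)
      map_mul' := fun g h => Subtype.ext (MulEquiv.ext fun x => by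
        obtain ⟨x, rfl⟩ := QuotientGroup.mk_surjective x
        rfl) }
  haveI := D.iso_solvable
  refine Aniso.solvable_of_ker fW ?_ inferInstance
  suffices IsPGroup 2 fW.ker by
    haveI hfin : Finite (MulAut C) := Finite.of_injective _ DFunLike.coe_injective
    haveI := IsPGroup.isNilpotent this
    infer_instance
  intro g
  set G : MulAut C := g.1.1
  have hY : ∀ z : center C, ∃ u : center C, G z = z * (u : C) ^ 2 := by
    intro z
    have h : π (gz G z) = π z := Equiv.congr_fun (MonoidHom.mem_ker.1 g.1.2) (π z)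
    obtain ⟨u, hu⟩ := (QuotientGroup.eq).1 h.symm
    refine ⟨u, ?_⟩
    have h' : (u : C) ^ 2 = (z : C)⁻¹ * G z := congrArg Subtype.val hu
    rw [h', mul_inv_cancel_left]
  have hpow : ∀ i : ℕ, ∀ z : center C, ∃ u : center C,
      (G ^ 2 ^ i : MulAut C) z = z * (u : C) ^ 2 ^ (i + 1) := by
    intro i
    induction i with
    | zero => simpa using hY
    | succ i ih =>
      intro z
      obtain ⟨u, hu⟩ := ih z
      obtain ⟨u', hu'⟩ := ih u
      refine ⟨u * u' ^ 2 ^ i, ?_⟩
      rw [pow_succ 2 i, mul_two, pow_add G, MulAut.mul_apply, hu, map_mul, map_pow, hu, hu']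
      have hz : z * u ^ 2 ^ (i + 1) * (u * u' ^ 2 ^ (i + 1)) ^ 2 ^ (i + 1) =
          z * (u * u' ^ 2 ^ i) ^ 2 ^ (i + 1 + 1) := by
        rw [show 2 ^ (i + 1 + 1) = 2 ^ (i + 1) + 2 ^ (i + 1) by ring, mul_pow, mul_pow, mul_assoc,
          ← mul_assoc (u ^ 2 ^ (i + 1)), ← pow_add, ← pow_mul, ← pow_mul,
          show 2 ^ i * (2 ^ (i + 1) + 2 ^ (i + 1)) = 2 ^ (i + 1) * 2 ^ (i + 1) by ring]
      exact congrArg Subtype.val hz
  obtain ⟨N, hN⟩ := (IsPGroup.iff_card (p := 2)).1 h2
  have hfixZ : ∀ z : center C, (G ^ 2 ^ N : MulAut C) z = z := by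
    intro z
    obtain ⟨u, hu⟩ := hpow N z
    rw [hu, pow_succ, pow_mul, ← hN, pow_card_eq_one', one_pow, mul_one]
  have hWfix : ∀ x : C, x⁻¹ * (G ^ 2 ^ N : MulAut C) x ∈ center C := by
    intro x
    have hk : ((g : fY.ker) ^ 2 ^ N) ∈ fW.ker := pow_mem g.2 _
    have h := MulEquiv.congr_fun (congrArg Subtype.val (MonoidHom.mem_ker.1 hk)) (x : W)
    have h' := (QuotientGroup.eq).1 h.symm
    exact h'
  have hiter : ∀ (x : C) (m : ℕ), ((G ^ 2 ^ N) ^ m : MulAut C) x =
      x * (x⁻¹ * (G ^ 2 ^ N : MulAut C) x) ^ m := by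
    intro x m
    induction m with
    | zero => simp
    | succ m ih =>
      rw [pow_succ', MulAut.mul_apply, ih, map_mul, map_pow,
        hfixZ ⟨_, hWfix x⟩, pow_succ', ← mul_assoc, mul_inv_cancel_left]
  refine ⟨N + N, Subtype.ext (Subtype.ext (MulEquiv.ext fun x => ?_))⟩
  show (G ^ 2 ^ (N + N) : MulAut C) x = x
  rw [pow_add 2 N N, pow_mul, hiter, ← hN, pow_card_eq_one', mul_one]

/-- **Three involutions.** -/
theorem solvable_aut {X : Type u} [Group X] [Finite X] (h2 : IsPGroup 2 X)
    (h3 : Nat.card {x : X // orderOf x = 2} = 3) : Group.IsSolvable (MulAut X) := by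
  classical
  haveI : Fact (Nat.Prime 2) := ⟨Nat.prime_two⟩
  set V : Set X := {x | x * x = 1} with hV
  have hVset : V = insert 1 {x : X | orderOf x = 2} := by
    ext x
    by_cases h1 : x = 1
    · simp [hV, h1]
    · simp only [hV, Set.mem_setOf_eq, Set.mem_insert_iff, h1, false_or]
      exact ⟨fun h => orderOf_eq_prime (by rw [pow_two]; exact h) h1, fun h => by
        rw [← pow_two, ← h, pow_orderOf_eq_one]⟩
  have hV4 : V.ncard ≤ 4 := by
    rw [hVset]
    refine (Set.ncard_insert_le _ _).trans ?_
    rw [← Nat.card_coe_set_eq]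
    show Nat.card {x : X // orderOf x = 2} + 1 ≤ 4
    omega
  have hVcomm : ∀ a ∈ V, ∀ b ∈ V, a * b = b * a := by
    haveI : Nontrivial X := by
      by_contra h
      rw [not_nontrivial_iff_subsingleton] at h
      haveI : IsEmpty {x : X // orderOf x = 2} :=
        ⟨fun x => by have := x.2; rw [Subsingleton.elim x.1 1, orderOf_one] at this; omega⟩
      simp at h3
    haveI := h2.center_nontrivial
    have hd : 2 ∣ Nat.card (center X) := by
      obtain ⟨k, hk⟩ := (IsPGroup.iff_card (p := 2)).1 (h2.to_subgroup (center X))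
      rcases k with _ | k
      · have := Finite.one_lt_card (α := center X); rw [hk] at this; simp at this
      · exact hk ▸ dvd_pow_self 2 (by omega)
    obtain ⟨z, hz⟩ := exists_prime_orderOf_dvd_card' 2 hd
    rw [← orderOf_coe] at hz
    intro a ha b hb
    by_cases ha1 : a = 1
    · simp [ha1]
    by_cases hb1 : b = 1
    · simp [hb1]
    by_cases haz : a = z.1
    · rw [haz]; exact (mem_center_iff.1 z.2 b).symm
    by_cases hbz : b = z.1
    · rw [hbz]; exact mem_center_iff.1 z.2 a
    by_cases hab : a = b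
    · rw [hab]
    -- `z * a` must be `b`
    have hz1 : z.1 ≠ 1 := fun h => by rw [h, orderOf_one] at hz; omega
    have hzV : z.1 * z.1 = 1 := by rw [← pow_two, ← hz, pow_orderOf_eq_one]
    have haV : a * a = 1 := ha
    have hc : a * z.1 = z.1 * a := mem_center_iff.1 z.2 a
    have hzaV : z.1 * a ∈ V := by
      show z.1 * a * (z.1 * a) = 1
      calc z.1 * a * (z.1 * a) = z.1 * (a * z.1) * a := by group
        _ = (z.1 * z.1) * (a * a) := by rw [hc]; group
        _ = 1 := by rw [hzV, haV, one_mul]
    have hzab : z.1 * a = b := by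
      by_contra hne
      have hsub : ({1, z.1, a, z.1 * a, b} : Finset X) ⊆ (Set.toFinite V).toFinset := by
        intro x hx
        simp only [Finset.mem_insert, Finset.mem_singleton] at hx
        rw [Set.Finite.mem_toFinset]
        rcases hx with rfl | rfl | rfl | rfl | rfl
        exacts [one_mul 1, hzV, ha, hzaV, hb]
      have hcard : ({1, z.1, a, z.1 * a, b} : Finset X).card = 5 := by
        have e1 : z.1 * a ≠ 1 := fun h => haz (by
          calc a = z.1 * z.1 * a := by rw [hzV, one_mul]
            _ = z.1 := by rw [mul_assoc, h, mul_one])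
        have e2 : z.1 * a ≠ z.1 := fun h => ha1 (mul_eq_left.1 h)
        have e3 : z.1 * a ≠ a := fun h => hz1 (mul_eq_right.1 h)
        simp [Ne.symm hz1, Ne.symm ha1, Ne.symm hb1, Ne.symm haz, Ne.symm hbz, hab, e1.symm,
          e2.symm, e3.symm, hne]
      have := Finset.card_le_card hsub
      rw [hcard, ← Set.ncard_eq_toFinset_card] at this
      omega
    rw [← hzab]
    calc a * (z.1 * a) = (a * z.1) * a := by group
      _ = z.1 * a * a := by rw [hc]
  haveI hX0c : (centralizer V).Characteristic := by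
    rw [characteristic_iff_map_le]
    rintro φ _ ⟨x, hx, rfl⟩
    refine mem_centralizer_iff.2 fun v hv => ?_
    have hv' : φ.symm v ∈ V := by
      show φ.symm v * φ.symm v = 1
      rw [← map_mul, show v * v = 1 from hv, map_one]
    have := congrArg φ (mem_centralizer_iff.1 hx _ hv')
    simpa using this
  have hVX0 : V ⊆ centralizer V := fun a ha => mem_centralizer_iff.2 fun b hb => hVcomm b hb a ha
  refine solvable_of_char (centralizer V) (centralizer_le hVX0) ?_
  obtain ⟨D, hDc, hDfr, -, hDcc⟩ := Transfer.exists_critical (p := 2)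
    (h2.to_subgroup (centralizer V))
  haveI := hDc
  refine solvable_of_char D hDcc (solvable_of_sq_central ((h2.to_subgroup _).to_subgroup D)
    (fun x => ?_) (fun x hx => ?_) ?_)
  · have h := hDfr ⟨_, StructC.pow_mem_frattini ((h2.to_subgroup _).to_subgroup D) x, rfl⟩
    rw [mem_center_iff]
    intro y
    rw [← pow_two]
    exact Subtype.ext (mem_centralizer_iff.1 h y.1 y.2)
  · rw [mem_center_iff]
    intro y
    refine Subtype.ext (Subtype.ext ?_)
    have hxV : x.1.1 ∈ V := congrArg (fun w : D => w.1.1) hx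
    exact (mem_centralizer_iff.1 y.1.2 _ hxV).symm
  · refine le_trans ?_ hV4
    rw [← Nat.card_coe_set_eq]
    exact Nat.card_le_card_of_injective
      (fun x => (⟨x.1.1.1, congrArg (fun w : D => w.1.1) x.2⟩ : V))
      fun a b h => Subtype.ext (Subtype.ext (Subtype.ext (congrArg (fun w : V => w.1) h)))

end CfsgLib.PGroup.ThreeInv
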